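import Mathlib
import Cfsg.Prelude.Def_Characters
import Cfsg.Prelude.Def_Blocks
import Cfsg.Agent.Characters.Core
import Cfsg.Agent.Characters.Clifford
import Cfsg.Agent.Characters.Linear
import Cfsg.Agent.CharDeep.PowerDegrees
import Cfsg.Agent.CharDeep.CliffordCorr
import Cfsg.Agent.CharDeep.LinearChar
import Cfsg.Agent.Blocks.Basic
import Cfsg.Agent.S0139
import Cfsg.Agent.S0137

/-!
# Kernels, constituents and restrictions of characters

Elementary facts used for the statements on character degrees: the kernel of a character as a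
subgroup, constituents, restriction to a supplement of the kernel.
-/

set_option autoImplicit false

namespace Cfsg.Agent.H597.Base

open Cfsg
open Cfsg.Agent.Characters.Core Cfsg.Agent.Characters.Clifford
open scoped ComplexConjugate

universe u
variable {G : Type u} [Group G]

/-- A character, realised by a representation: `χ g = χ 1` exactly when the representation is
trivial at `g`. -/
theorem exists_rep [Finite G] {χ : G → ℂ} (hχ : IsCharacter G χ) :
    ∃ (n : ℕ) (ρ : Representation ℂ G (Fin n → ℂ)), ρ.character = χ ∧ χ 1 = n ∧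
      ∀ g, χ g = χ 1 ↔ ρ g = 1 := by
  obtain ⟨n, ρ, rfl⟩ := hχ
  have h1 : ρ.character 1 = n := by
    rw [Representation.char_one]; simp
  refine ⟨n, ρ, rfl, h1, fun g => ?_⟩
  rw [h1]
  have := Cfsg.Agent.S0139.result ρ g
  simp only [Module.finrank_fintype_fun_eq_card, Fintype.card_fin] at this
  exact this

theorem apply_mul_of_ker [Finite G] {χ : G → ℂ} (hχ : IsCharacter G χ) {k : G} (hk : χ k = χ 1)
    (g : G) : χ (g * k) = χ g := by
  obtain ⟨n, ρ, rfl, h1, h2⟩ := exists_rep hχ
  have h3 := (h2 k).1 hk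
  show LinearMap.trace ℂ _ (ρ (g * k)) = LinearMap.trace ℂ _ (ρ g)
  rw [map_mul, h3, mul_one]

theorem apply_mul_of_ker' [Finite G] {χ : G → ℂ} (hχ : IsCharacter G χ) {k : G} (hk : χ k = χ 1)
    (g : G) : χ (k * g) = χ g := by
  obtain ⟨n, ρ, rfl, h1, h2⟩ := exists_rep hχ
  have h3 := (h2 k).1 hk
  show LinearMap.trace ℂ _ (ρ (k * g)) = LinearMap.trace ℂ _ (ρ g)
  rw [map_mul, h3, one_mul]

/-- The kernel of a character. -/
def ker [Finite G] {χ : G → ℂ} (hχ : IsCharacter G χ) : Subgroup G where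
  carrier := {g | χ g = χ 1}
  mul_mem' := fun {a b} ha hb => by
    show χ (a * b) = χ 1
    rw [apply_mul_of_ker hχ hb]; exact ha
  one_mem' := rfl
  inv_mem' := fun {a} ha => by
    show χ a⁻¹ = χ 1
    have h := apply_mul_of_ker hχ (k := a) ha a⁻¹
    rw [inv_mul_cancel] at h
    exact h.symm

theorem mem_ker [Finite G] {χ : G → ℂ} (hχ : IsCharacter G χ) {g : G} :
    g ∈ ker hχ ↔ χ g = χ 1 := Iff.rfl

instance ker_normal [Finite G] {χ : G → ℂ} (hχ : IsCharacter G χ) : (ker hχ).Normal := by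
  constructor
  intro n hn g
  show χ (g * n * g⁻¹) = χ 1
  rw [isCharacter_isClassFunction hχ n g]
  exact hn

/-- There is an irreducible constituent. -/
theorem exists_constituent [Fintype G] {ψ : G → ℂ} (hψ : IsCharacter G ψ)
    (h1 : ψ 1 ≠ 0) : ∃ θ : G → ℂ, IsIrrCharacter G θ ∧ classInner ψ θ ≠ 0 := by
  by_contra hcon
  push Not at hcon
  have : ψ = 0 := classFunction_eq_zero (isCharacter_isClassFunction hψ) hcon
  exact h1 (by rw [this]; rfl)

/-- Real parts of character values are at most the degree. -/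
theorem re_le [Finite G] {χ : G → ℂ} (hχ : IsCharacter G χ) (g : G) : (χ g).re ≤ (χ 1).re := by
  obtain ⟨n, ρ, rfl, h1, h2⟩ := exists_rep hχ
  have h := Cfsg.Agent.S0137.result ρ g
  simp only [Module.finrank_fintype_fun_eq_card, Fintype.card_fin] at h
  rw [h1]
  simpa using (Complex.re_le_norm _).trans h

/-- A value whose real part is the degree is the degree. -/
theorem eq_of_re_eq [Finite G] {χ : G → ℂ} (hχ : IsCharacter G χ) {g : G}
    (h : (χ 1).re ≤ (χ g).re) : χ g = χ 1 := by
  obtain ⟨n, ρ, rfl, h1, h2⟩ := exists_rep hχ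
  have h3 := Cfsg.Agent.S0137.result ρ g
  simp only [Module.finrank_fintype_fun_eq_card, Fintype.card_fin] at h3
  rw [h1] at h ⊢
  simp only [Complex.natCast_re] at h
  have h4 : (ρ.character g).re = n := le_antisymm ((Complex.re_le_norm _).trans h3) h
  have h5 : ‖ρ.character g‖ = n := le_antisymm h3 (h4 ▸ Complex.re_le_norm _)
  have h6 : (ρ.character g).im = 0 := by
    have := Complex.sq_norm (ρ.character g)
    rw [Complex.normSq_apply, h5, h4] at this
    nlinarith
  apply Complex.ext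
  · simpa using h4
  · simpa using h6

/-- Expansion in irreducible characters at a point. -/
theorem apply_eq_sum [Fintype G] [Fintype (IrrCharacter G)] {χ : G → ℂ}
    {c : IrrCharacter G → ℕ} (hc : χ = ∑ η : IrrCharacter G, (c η : ℂ) • (η : G → ℂ)) (g : G) :
    χ g = ∑ η : IrrCharacter G, (c η : ℂ) * (η : G → ℂ) g := by
  conv_lhs => rw [hc]
  rw [Finset.sum_apply]
  rfl

/-- The kernel of a character lies in the kernel of every constituent. -/
theorem ker_of_constituent [Fintype G] {χ ψ : G → ℂ} (hχ : IsCharacter G χ)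
    (hψ : IsIrrCharacter G ψ) (h : classInner χ ψ ≠ 0) {a : G} (ha : χ a = χ 1) :
    ψ a = ψ 1 := by
  classical
  have := finite_irr (G := G)
  have := Fintype.ofFinite (IrrCharacter G)
  obtain ⟨c, hc, hc'⟩ := CharDeep.CliffordCorr.exists_nat_coeffs hχ
  have hcψ : c ⟨ψ, hψ⟩ ≠ 0 := by
    intro h0
    apply h
    have := hc' ⟨ψ, hψ⟩
    rw [h0] at this
    simpa using this
  have h1 : ∑ η : IrrCharacter G, (c η : ℝ) * (((η : G → ℂ) 1).re - ((η : G → ℂ) a).re) = 0 := by
    have e1 := congrArg Complex.re (apply_eq_sum hc a)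
    have e2 := congrArg Complex.re (apply_eq_sum hc 1)
    rw [ha, e2, Complex.re_sum, Complex.re_sum] at e1
    have e3 : ∀ (n : ℕ) (z : ℂ), ((n : ℂ) * z).re = (n : ℝ) * z.re := fun n z => by
      simp [Complex.mul_re]
    simp only [e3] at e1
    simp only [mul_sub, Finset.sum_sub_distrib]
    rw [e1, sub_self]
  have h2 := (Finset.sum_eq_zero_iff_of_nonneg (fun η _ => mul_nonneg (Nat.cast_nonneg _)
    (sub_nonneg.2 (re_le (isIrr_isCharacter η.2) a)))).1 h1 ⟨ψ, hψ⟩ (Finset.mem_univ _)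
  apply eq_of_re_eq (isIrr_isCharacter hψ)
  rcases mul_eq_zero.1 h2 with h3 | h3
  · exact absurd (Nat.cast_eq_zero.1 h3) hcψ
  · exact (sub_eq_zero.1 h3).le

/-- The degree of a character as a sum. -/
theorem degree_eq_sum [Fintype G] [Fintype (IrrCharacter G)] {χ : G → ℂ}
    {c : IrrCharacter G → ℕ} (hc : χ = ∑ η : IrrCharacter G, (c η : ℂ) • (η : G → ℂ)) :
    χ 1 = ((∑ η : IrrCharacter G, c η * charDegree (η : G → ℂ) : ℕ) : ℂ) := by
  rw [apply_eq_sum hc 1]
  push_cast
  exact Finset.sum_congr rfl fun η _ => by rw [Blocks.Basic.irr_one_eq_charDegree η.2]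

/-- The multiplicity of a constituent times its degree is at most the degree. -/
theorem mult_mul_degree_le [Fintype G] {χ ψ : G → ℂ} (hχ : IsCharacter G χ)
    (hψ : IsIrrCharacter G ψ) {n m : ℕ} (hn : χ 1 = n) (hm : classInner χ ψ = m) :
    m * charDegree ψ ≤ n := by
  classical
  have := finite_irr (G := G)
  have := Fintype.ofFinite (IrrCharacter G)
  obtain ⟨c, hc, hc'⟩ := CharDeep.CliffordCorr.exists_nat_coeffs hχ
  have h1 := degree_eq_sum hc
  rw [hn, Nat.cast_inj] at h1
  have h2 : c ⟨ψ, hψ⟩ = m := by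
    have := hc' ⟨ψ, hψ⟩
    rw [hm] at this
    exact_mod_cast this.symm
  rw [h1, ← h2]
  exact Finset.single_le_sum (f := fun η : IrrCharacter G => c η * charDegree (η : G → ℂ))
    (fun η _ => Nat.zero_le _) (Finset.mem_univ (⟨ψ, hψ⟩ : IrrCharacter G))

/-- A constituent has degree at most the degree. -/
theorem degree_le_of_constituent [Fintype G] {χ ψ : G → ℂ} (hχ : IsCharacter G χ)
    (hψ : IsIrrCharacter G ψ) {n : ℕ} (hn : χ 1 = n) (h : classInner χ ψ ≠ 0) :
    charDegree ψ ≤ n := by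
  obtain ⟨m, hm⟩ := classInner_isNat hχ (isIrr_isCharacter hψ)
  have h1 := mult_mul_degree_le hχ hψ hn hm
  have h2 : m ≠ 0 := by rintro rfl; exact h (by simpa using hm)
  exact le_trans (Nat.le_mul_of_pos_left _ (Nat.pos_of_ne_zero h2)) h1

/-- A character with an irreducible constituent of the same degree is that constituent. -/
theorem eq_of_degree_eq [Fintype G] {ψ θ : G → ℂ} (hψ : IsCharacter G ψ)
    (hθ : IsIrrCharacter G θ) (h : classInner ψ θ ≠ 0) (hd : ψ 1 = θ 1) : ψ = θ := by
  classical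
  have := finite_irr (G := G)
  have := Fintype.ofFinite (IrrCharacter G)
  obtain ⟨c, hc, hc'⟩ := CharDeep.CliffordCorr.exists_nat_coeffs hψ
  have hcθ : c ⟨θ, hθ⟩ ≠ 0 := by
    intro h0
    apply h
    have := hc' ⟨θ, hθ⟩
    rw [h0] at this
    simpa using this
  have h1 := degree_eq_sum hc
  rw [hd, Blocks.Basic.irr_one_eq_charDegree hθ, Nat.cast_inj,
    ← Finset.add_sum_erase _ _ (Finset.mem_univ (⟨θ, hθ⟩ : IrrCharacter G))] at h1
  have hpos := Blocks.Basic.charDegree_pos hθ
  have hθd : charDegree ((⟨θ, hθ⟩ : IrrCharacter G) : G → ℂ) = charDegree θ := rfl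
  rw [hθd] at h1
  have h3 : charDegree θ ≤ c ⟨θ, hθ⟩ * charDegree θ := Nat.le_mul_of_pos_left _ (by omega)
  have h4 : c ⟨θ, hθ⟩ * charDegree θ = charDegree θ := by omega
  have h5 : c ⟨θ, hθ⟩ = 1 := Nat.eq_of_mul_eq_mul_right hpos (by rw [h4, one_mul])
  have h6 : ∑ η ∈ Finset.univ.erase (⟨θ, hθ⟩ : IrrCharacter G),
      c η * charDegree (η : G → ℂ) = 0 := by omega
  rw [hc, ← Finset.add_sum_erase _ _ (Finset.mem_univ (⟨θ, hθ⟩ : IrrCharacter G)), h5,
    Finset.sum_eq_zero, add_zero]
  · simp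
  · intro η hη
    have h3 := (Finset.sum_eq_zero_iff.1 h6) η hη
    have h4 := Blocks.Basic.charDegree_pos η.2
    have h5 : c η = 0 := by
      rcases Nat.mul_eq_zero.1 h3 with h | h
      · exact h
      · omega
    rw [h5]; simp

/-- The restriction of an irreducible character to a subgroup supplementing its kernel is
irreducible. -/
theorem isIrr_restrict_of_supplement [Finite G] {χ : G → ℂ} (hχ : IsIrrCharacter G χ)
    (K M : Subgroup G) (hK : ∀ k ∈ K, χ k = χ 1) (hKM : ∀ g : G, ∃ k ∈ K, ∃ m ∈ M, g = k * m) :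
    IsIrrCharacter M (fun m : M => χ m) := by
  obtain ⟨n, ρ, hρ, hc⟩ := hχ
  have h1 : ∀ k ∈ K, ρ k = 1 := by
    intro k hk
    have h2 := Cfsg.Agent.S0139.result ρ k
    simp only [Module.finrank_fintype_fun_eq_card, Fintype.card_fin] at h2
    refine h2.1 ?_
    rw [hc, hK k hk, ← hc, Representation.char_one]
    simp
  have h3 : Representation.IsIrreducible (ρ.comp M.subtype : Representation ℂ M (Fin n → ℂ)) := by
    rw [CharDeep.LinearChar.isIrreducible_iff] at hρ ⊢
    refine ⟨hρ.1, fun W hW => hρ.2 W fun g v hv => ?_⟩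
    obtain ⟨k, hk, m, hm, rfl⟩ := hKM g
    rw [map_mul, h1 k hk, one_mul]
    exact hW ⟨m, hm⟩ v hv
  refine ⟨n, ρ.comp M.subtype, h3, ?_⟩
  rw [← hc]
  rfl

/-- The sum over a normal subgroup of an irreducible character not having it in its kernel is
zero. -/
theorem sum_apply_eq_zero [Fintype G] (K : Subgroup G) [K.Normal] [Fintype K] {ζ : G → ℂ}
    (hζ : IsIrrCharacter G ζ) (h : ∃ k ∈ K, ζ k ≠ ζ 1) : ∑ k : K, ζ k = 0 := by
  classical
  by_contra hne
  have hK : (Nat.card K : ℂ) ≠ 0 := Nat.cast_ne_zero.2 Nat.card_pos.ne'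
  have h1 : classInner (fun k : K => ζ k) (1 : K → ℂ) = (Nat.card K : ℂ)⁻¹ * ∑ k : K, ζ k := by
    show (Nat.card K : ℂ)⁻¹ * ∑ k : K, ζ k * conj ((1 : K → ℂ) k) = _
    simp
  have h2 : classInner (fun k : K => ζ k) (1 : K → ℂ) ≠ 0 := by
    rw [h1]
    exact mul_ne_zero (inv_ne_zero hK) hne
  have h3 := CharDeep.CliffordCorr.restrict_eq_smul_of_invariant K hζ isIrr_one (fun g => by
    funext k
    rfl) h2
  obtain ⟨k, hk, hk'⟩ := h
  apply hk'
  have e1 := congrFun h3 ⟨k, hk⟩
  have e2 := congrFun h3 1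
  simp only [Pi.smul_apply, Pi.one_apply, OneMemClass.coe_one] at e1 e2
  rw [e1, e2]

/-- If every irreducible character takes its degree at `g`, then `g = 1`. -/
theorem eq_one_of_forall [Finite G] {g : G} (h : ∀ χ : G → ℂ, IsIrrCharacter G χ → χ g = χ 1) :
    g = 1 := by
  classical
  have := Fintype.ofFinite G
  have := finite_irr (G := G)
  have := Fintype.ofFinite (IrrCharacter G)
  by_contra hne
  have h1 := congrFun (CharDeep.PowerDegrees.delta_eq_sum (G := G)) g
  have h2 := congrFun (CharDeep.PowerDegrees.delta_eq_sum (G := G)) 1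
  rw [CharDeep.PowerDegrees.delta_ne hne, Finset.sum_apply] at h1
  rw [CharDeep.PowerDegrees.delta_one, Finset.sum_apply] at h2
  have : (1 : ℂ) = 0 := by
    rw [h1, h2]
    refine Finset.sum_congr rfl fun χ _ => ?_
    rw [Pi.smul_apply, Pi.smul_apply, h χ χ.2]
  exact one_ne_zero this

end Cfsg.Agent.H597.Base
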