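import Cfsg.Agent.H597.Base
import Cfsg.Agent.H597.Taketa
import Cfsg.Agent.CharDeep.SameChar
import Cfsg.Agent.S0138

/-!
# Norms of restrictions, scalar elements, linear characters separating points
-/

set_option autoImplicit false

namespace Cfsg.Agent.H597.Norm

open Cfsg
open Cfsg.Agent.Characters.Core Cfsg.Agent.Characters.Clifford Cfsg.Agent.Characters.Linear
open Cfsg.Agent.H597.Base
open scoped ComplexConjugate
open Subgroup

universe u
variable {G : Type u} [Group G]

/-- A linear character nontrivial at a given element outside the commutator subgroup. -/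
theorem exists_hom_ne_one [Finite G] {x : G} (hx : x ∉ commutator G) : ∃ f : G →* ℂˣ, f x ≠ 1 := by
  have h1 : Abelianization.of x ≠ 1 := by
    intro h
    apply hx
    rwa [← MonoidHom.mem_ker, Abelianization.ker_of] at h
  have : Finite (Abelianization G) := Quotient.finite _
  have : NeZero (Monoid.exponent (Abelianization G)) := ⟨Monoid.exponent_ne_zero_of_finite⟩
  obtain ⟨φ, hφ⟩ := CommGroup.exists_apply_ne_one_of_hasEnoughRootsOfUnity (Abelianization G) ℂ h1
  exact ⟨φ.comp Abelianization.of, hφ⟩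

/-- The sum of the squared absolute values of an irreducible character. -/
theorem sum_normSq_irr [Fintype G] {χ : G → ℂ} (hχ : IsIrrCharacter G χ) :
    ∑ g : G, Complex.normSq (χ g) = Nat.card G := by
  have h1 := classInner_irr_self hχ
  rw [classInner_self_eq_ofReal] at h1
  have h2 : (Nat.card G : ℝ)⁻¹ * ∑ g : G, Complex.normSq (χ g) = 1 := by exact_mod_cast h1
  have h0 : (Nat.card G : ℝ) ≠ 0 := Nat.cast_ne_zero.2 Nat.card_pos.ne'
  field_simp at h2
  linarith

/-- `|χ(z)| = χ(1)` when `z` commutes with everything modulo the kernel. -/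
theorem normSq_eq_of_central [Finite G] {χ : G → ℂ} (hχ : IsIrrCharacter G χ) {z : G}
    (hz : ∀ g : G, χ (g * z * g⁻¹ * z⁻¹) = χ 1) :
    Complex.normSq (χ z) = (charDegree χ : ℝ) ^ 2 := by
  obtain ⟨n, ρ, hρ, hc⟩ := hχ
  have hn : charDegree χ = n := by
    apply Blocks.Basic.charDegree_of_eq
    rw [← hc, Representation.char_one]; simp
  have h1 : ∀ g, ρ g * ρ z = ρ z * ρ g := by
    intro g
    have h2 := Cfsg.Agent.S0139.result ρ (g * z * g⁻¹ * z⁻¹)
    have h3 := h2.1 (by rw [hc, hz g, ← hc, Representation.char_one])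
    have h4 : ρ (g * z) = ρ ((g * z * g⁻¹ * z⁻¹) * (z * g)) := by congr 1; group
    rw [map_mul, map_mul, h3] at h4
    rw [h4, map_mul]
    rfl
  obtain ⟨w, hw⟩ := CharDeep.SameChar.exists_smul_of_commute ρ hρ (ρ z) (fun g v => by
    have := congrArg (fun T : Module.End ℂ (Fin n → ℂ) => T v) (h1 g)
    exact this.symm)
  have h5 := (Cfsg.Agent.S0138.result ρ z).2 ⟨w, hw⟩
  rw [Complex.normSq_eq_norm_sq, ← hc, h5, hc, hn]
  simp

/-- Conversely an element with `|χ(z)| = χ(1)` is central modulo the kernel. -/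
theorem central_of_normSq_eq [Finite G] {χ : G → ℂ} (hχ : IsIrrCharacter G χ) {z : G}
    (h : Complex.normSq (χ z) = (charDegree χ : ℝ) ^ 2) (g : G) :
    χ (g * z * g⁻¹ * z⁻¹) = χ 1 := by
  obtain ⟨n, ρ, hρ, hc⟩ := hχ
  have hn : charDegree χ = n := by
    apply Blocks.Basic.charDegree_of_eq
    rw [← hc, Representation.char_one]; simp
  have h1 : ‖ρ.character z‖ = (Module.finrank ℂ (Fin n → ℂ) : ℝ) := by
    rw [Complex.normSq_eq_norm_sq, hn] at h
    rw [hc]
    simp only [Module.finrank_fintype_fun_eq_card, Fintype.card_fin]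
    exact (pow_left_inj₀ (norm_nonneg _) (Nat.cast_nonneg _) two_ne_zero).1 h
  obtain ⟨w, hw⟩ := (Cfsg.Agent.S0138.result ρ z).1 h1
  have h2 : ρ (g * z * g⁻¹ * z⁻¹) = 1 := by
    have h3 : ρ (g * z) = ρ (z * g) := by
      rw [map_mul, map_mul, hw]
      ext v
      simp
    have h4 : g * z * g⁻¹ * z⁻¹ = (g * z) * (z * g)⁻¹ := by group
    rw [h4, map_mul, h3, ← map_mul, mul_inv_cancel, map_one]
  rw [← hc]
  show LinearMap.trace ℂ _ (ρ (g * z * g⁻¹ * z⁻¹)) = LinearMap.trace ℂ _ (ρ 1)
  rw [h2, show ρ 1 = 1 from map_one ρ]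

/-- `χ(1)² ≤ |G : Z(G)|`. -/
theorem sq_degree_le_index_center [Finite G] {χ : G → ℂ} (hχ : IsIrrCharacter G χ) :
    (charDegree χ) ^ 2 ≤ (center G).index := by
  classical
  have := Fintype.ofFinite G
  have h1 := sum_normSq_irr hχ
  have h2 : ∑ g ∈ Finset.univ.filter (fun g : G => g ∈ center G), Complex.normSq (χ g) ≤
      ∑ g : G, Complex.normSq (χ g) :=
    Finset.sum_le_sum_of_subset_of_nonneg (Finset.filter_subset _ _)
      fun g _ _ => Complex.normSq_nonneg _
  rw [h1, Finset.sum_congr rfl (fun g hg => normSq_eq_of_central hχ (z := g) (fun x => by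
    have hg' := (Finset.mem_filter.1 hg).2
    rw [Subgroup.mem_center_iff] at hg'
    rw [hg' x]
    congr 1
    group)), Finset.sum_const, nsmul_eq_mul] at h2
  have h3 : (Finset.univ.filter fun g : G => g ∈ center G).card = Nat.card (center G) := by
    rw [Nat.card_eq_fintype_card, Fintype.card_subtype]
  rw [h3, ← (center G).index_mul_card] at h2
  have h4 : 0 < Nat.card (center G) := Nat.card_pos
  have h5 : Nat.card (center G) * (charDegree χ) ^ 2 ≤ (center G).index * Nat.card (center G) := by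
    exact_mod_cast h2
  nlinarith

end Cfsg.Agent.H597.Norm
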