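import Cfsg.Agent.H597.Base
import Cfsg.Agent.H597.Norm
import Cfsg.Agent.H597.Degrees
import Cfsg.Agent.S0136

/-!
# Groups whose irreducible character degrees are `1` and `p`

`H` is a non-abelian normal subgroup of index `p`; all its nonlinear irreducible characters are
invariant in `G`.
-/

set_option autoImplicit false

namespace Cfsg.Agent.H597.IndexP

open Cfsg
open Cfsg.Agent.Characters.Core Cfsg.Agent.Characters.Clifford Cfsg.Agent.Characters.Linear
open Cfsg.Agent.H597.Base Cfsg.Agent.H597.Norm Cfsg.Agent.H597.Degrees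
open scoped ComplexConjugate
open Subgroup

universe u
variable {G : Type u} [Group G]

/-- The product of an irreducible character with a linear character. -/
theorem isIrr_mul_hom [Finite G] {χ : G → ℂ} (hχ : IsIrrCharacter G χ) (f : G →* ℂˣ) :
    IsIrrCharacter G (fun g => (f g : ℂ) * χ g) := by
  have := Fintype.ofFinite G
  have h1 : IsCharacter G (fun g => (f g : ℂ) * χ g) :=
    isCharacter_mul (isCharacter_hom f) (isIrr_isCharacter hχ)
  apply isIrr_of_classInner_self h1
  rw [← classInner_irr_self hχ]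
  rw [Cfsg.Agent.Characters.Core.classInner_def, Cfsg.Agent.Characters.Core.classInner_def]
  congr 1
  refine Finset.sum_congr rfl fun g _ => ?_
  have h2 : (f g : ℂ) * conj (f g : ℂ) = 1 := by
    rw [Complex.mul_conj, Complex.normSq_eq_norm_sq, norm_hom_apply]; simp
  rw [map_mul]
  linear_combination (χ g * conj (χ g)) * h2

variable (H : Subgroup G) [hHn : H.Normal]

/-- The elements of `H` central modulo `⁅H, H⁆`. -/
def Y : Subgroup G := H ⊓ (center (G ⧸ ⁅H, H⁆)).comap (QuotientGroup.mk' ⁅H, H⁆)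

instance Y_normal : (Y H).Normal := by
  unfold Y
  infer_instance

theorem mem_Y {y : G} : y ∈ Y H ↔ y ∈ H ∧ ∀ g, g * y * g⁻¹ * y⁻¹ ∈ ⁅H, H⁆ := by
  unfold Y
  rw [mem_inf, mem_comap, Subgroup.mem_center_iff]
  refine and_congr_right fun _ => ⟨fun h g => ?_, fun h z => ?_⟩
  · have h1 := h (QuotientGroup.mk' _ g)
    rw [← QuotientGroup.eq_one_iff]
    rw [← map_mul, ← map_mul] at h1
    have h2 : g * y * g⁻¹ * y⁻¹ = (g * y) * (y * g)⁻¹ := by group
    rw [h2, QuotientGroup.mk_mul, QuotientGroup.mk_inv]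
    exact mul_inv_eq_one.2 h1
  · obtain ⟨g, rfl⟩ := QuotientGroup.mk'_surjective _ z
    have h1 := (QuotientGroup.eq_one_iff _).2 (h g)
    have h2 : g * y * g⁻¹ * y⁻¹ = (g * y) * (y * g)⁻¹ := by group
    rw [h2, QuotientGroup.mk_mul, QuotientGroup.mk_inv] at h1
    rw [← map_mul, ← map_mul]
    exact mul_inv_eq_one.1 h1

theorem Y_le : Y H ≤ H := inf_le_left

omit hHn in
theorem mem_commutator_iff {y : H} : y ∈ commutator H ↔ (y : G) ∈ ⁅H, H⁆ := by
  rw [← map_subtype_commutator]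
  constructor
  · intro h; exact ⟨y, h, rfl⟩
  · rintro ⟨z, hz, hzy⟩
    rwa [← show z = y from Subtype.ext hzy]

/-- All nonlinear irreducible characters of `H` are invariant in `G`. -/
def Inv : Prop := ∀ θ : H → ℂ, IsIrrCharacter H θ → charDegree θ ≠ 1 → ∀ (g : G) (h : H),
  θ ⟨g * h * g⁻¹, hHn.conj_mem (h : G) h.2 g⟩ = θ h

variable {H}

/-- `h` and `ghg⁻¹` are conjugate in `H` if `[g, h] ∈ H'`. -/
theorem exists_conj [Finite G] (hI : Inv H) {h g : G} (hh : h ∈ H)
    (hg : g * h * g⁻¹ * h⁻¹ ∈ ⁅H, H⁆) : ∃ k ∈ H, g * h * g⁻¹ = k * h * k⁻¹ := by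
  have h1 : IsConj (⟨h, hh⟩ : H) ⟨g * h * g⁻¹, hHn.conj_mem h hh g⟩ := by
    rw [Cfsg.Agent.S0136.result]
    intro θ
    by_cases hθ : charDegree (θ : H → ℂ) = 1
    · obtain ⟨f, hf⟩ := exists_hom_of_isIrrCharacter θ.2
        (by rw [Blocks.Basic.irr_one_eq_charDegree θ.2, hθ, Nat.cast_one])
      rw [hf]
      have h2 : (⟨g * h * g⁻¹, hHn.conj_mem h hh g⟩ : H) * (⟨h, hh⟩ : H)⁻¹ ∈ commutator H := by
        rw [mem_commutator_iff]; exact hg
      have h3 := Abelianization.commutator_subset_ker f h2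
      rw [MonoidHom.mem_ker, map_mul, map_inv, mul_inv_eq_one] at h3
      show ((f ⟨h, hh⟩ : ℂˣ) : ℂ) = ((f ⟨g * h * g⁻¹, hHn.conj_mem h hh g⟩ : ℂˣ) : ℂ)
      rw [h3]
    · exact (hI θ θ.2 hθ g ⟨h, hh⟩).symm
  obtain ⟨k, hk⟩ := isConj_iff.1 h1
  exact ⟨k, k.2, (congrArg Subtype.val hk).symm⟩

/-- Nonlinear irreducible characters of `H` vanish off `Y`. -/
theorem vanish [Finite G] (hI : Inv H) {θ : H → ℂ} (hθ : IsIrrCharacter H θ)
    (hd : charDegree θ ≠ 1) {h : H} (hY : (h : G) ∉ Y H) : θ h = 0 := by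
  rw [mem_Y] at hY
  push Not at hY
  obtain ⟨g, hg⟩ := hY h.2
  have h1 : (⟨g * h * g⁻¹, hHn.conj_mem (h : G) h.2 g⟩ : H) * h⁻¹ ∉ commutator H := by
    rw [mem_commutator_iff]; exact hg
  obtain ⟨f, hf⟩ := exists_hom_ne_one h1
  have h2 := hI _ (isIrr_mul_hom hθ f) (by
    have : charDegree (fun g => (f g : ℂ) * θ g) = charDegree θ := by
      rw [Blocks.Basic.charDegree_def, Blocks.Basic.charDegree_def, map_one]; simp
    rwa [this]) g h
  have h3 := hI θ hθ hd g h
  by_contra h0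
  apply hf
  rw [map_mul, map_inv, mul_inv_eq_one]
  apply Units.ext
  apply mul_right_cancel₀ h0
  have h4 : ((f ⟨g * h * g⁻¹, hHn.conj_mem (h : G) h.2 g⟩ : ℂˣ) : ℂ) *
      θ ⟨g * h * g⁻¹, hHn.conj_mem (h : G) h.2 g⟩ = ((f h : ℂˣ) : ℂ) * θ h := h2
  rw [h3] at h4
  exact h4

/-- If all irreducible constituents of a character are linear, the commutator subgroup lies in the
kernel. -/
theorem commutator_le_ker_of_constituents {A : Type*} [Group A] [Fintype A] {ξ : A → ℂ}
    (hξ : IsCharacter A ξ)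
    (h : ∀ ν : A → ℂ, IsIrrCharacter A ν → classInner ξ ν ≠ 0 → charDegree ν = 1) {k : A}
    (hk : k ∈ commutator A) : ξ k = ξ 1 := by
  classical
  have := finite_irr (G := A)
  have := Fintype.ofFinite (IrrCharacter A)
  obtain ⟨c, hc, hc'⟩ := CharDeep.CliffordCorr.exists_nat_coeffs hξ
  rw [apply_eq_sum hc k, apply_eq_sum hc 1]
  refine Finset.sum_congr rfl fun η _ => ?_
  by_cases h0 : c η = 0
  · rw [h0]; simp
  · rw [Taketa.commutator_le_ker_of_linear η.2 (h η η.2 (by rw [hc']; exact_mod_cast h0)) k hk]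

/-- The squared norm of the restriction to `Y` of a nonlinear irreducible character of `H`. -/
theorem sum_normSq_Y [Fintype G] [Fintype H] (hI : Inv H) {θ : H → ℂ} (hθ : IsIrrCharacter H θ)
    (hd : charDegree θ ≠ 1) [Fintype ((Y H).subgroupOf H)] :
    ∑ y : (Y H).subgroupOf H, Complex.normSq (θ y) = Nat.card H := by
  classical
  rw [← sum_normSq_irr hθ]
  rw [← Finset.sum_subset (Finset.subset_univ
    (Finset.univ.filter fun h : H => h ∈ (Y H).subgroupOf H))]
  · refine Finset.sum_bij (fun y _ => (y : H)) (fun y _ => Finset.mem_filter.2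
      ⟨Finset.mem_univ _, y.2⟩) (fun a _ b _ hab => Subtype.ext hab) (fun b hb => ?_)
      (fun _ _ => rfl)
    exact ⟨⟨b, (Finset.mem_filter.1 hb).2⟩, Finset.mem_univ _, rfl⟩
  · intro h _ hh
    have h1 : (h : G) ∉ Y H := fun h2 => hh (Finset.mem_filter.2 ⟨Finset.mem_univ _, h2⟩)
    rw [vanish hI hθ hd h1, map_zero]

/-- Clifford's theorem, numerical form: `χ(1) = e t d` and `⟨χ_N, χ_N⟩ = e² t`, where `d` is the
degree of the constituents. -/
theorem exists_clifford_numbers {A : Type*} [Group A] [Fintype A] (N : Subgroup A) [N.Normal]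
    [Fintype N] {χ : A → ℂ} (hχ : IsIrrCharacter A χ) {ν : N → ℂ} (hν : IsIrrCharacter N ν)
    (hne : classInner (fun n : N => χ n) ν ≠ 0) :
    ∃ e t : ℕ, classInner (fun n : N => χ n) ν = e ∧ charDegree χ = e * t * charDegree ν ∧
      classInner (fun n : N => χ n) (fun n : N => χ n) = ((e ^ 2 * t : ℕ) : ℂ) ∧
      ∀ ν' : N → ℂ, IsIrrCharacter N ν' → classInner (fun n : N => χ n) ν' ≠ 0 →
        charDegree ν' = charDegree ν := by
  classical
  have := finite_irr (G := N)
  have := Fintype.ofFinite (IrrCharacter N)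
  have hchar := isCharacter_restrict N (isIrr_isCharacter hχ)
  obtain ⟨c, hc, hc'⟩ := CharDeep.CliffordCorr.exists_nat_coeffs hchar
  set e := c ⟨ν, hν⟩ with he
  have hconj : ∀ ν' : N → ℂ, IsIrrCharacter N ν' → classInner (fun n : N => χ n) ν' ≠ 0 →
      charDegree ν' = charDegree ν ∧ classInner (fun n : N => χ n) ν' = e := by
    intro ν' hν' hne'
    obtain ⟨g, rfl⟩ := exists_conj_of_constituents N hχ hν hν' hne hne'
    refine ⟨?_, ?_⟩
    · rw [Blocks.Basic.charDegree_def, Blocks.Basic.charDegree_def, Function.comp_apply, map_one]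
    · rw [classInner_restrict_conjNormal (isIrr_isClassFunction hχ)]
      exact hc' ⟨ν, hν⟩
  set S : Finset (IrrCharacter N) := Finset.univ.filter fun η => c η ≠ 0 with hS
  have hcS : ∀ η ∈ S, c η = e ∧ charDegree (η : N → ℂ) = charDegree ν := by
    intro η hη
    have h1 := (Finset.mem_filter.1 hη).2
    have h2 := hconj η η.2 (by rw [hc']; exact_mod_cast h1)
    refine ⟨?_, h2.1⟩
    have h3 := h2.2
    rw [hc'] at h3
    exact_mod_cast h3
  refine ⟨e, S.card, hc' ⟨ν, hν⟩, ?_, ?_, fun ν' h1 h2 => (hconj ν' h1 h2).1⟩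
  · have h1 := degree_eq_sum hc
    have h2 : (charDegree χ : ℂ) = ((∑ η : IrrCharacter N, c η * charDegree (η : N → ℂ) : ℕ) : ℂ) := by
      rw [← h1, ← Blocks.Basic.irr_one_eq_charDegree hχ]; rfl
    rw [Nat.cast_inj] at h2
    rw [h2, ← Finset.sum_subset (Finset.subset_univ S)]
    · rw [Finset.sum_congr rfl fun η hη => by rw [(hcS η hη).1, (hcS η hη).2], Finset.sum_const,
        smul_eq_mul]
      ring
    · intro η _ hη
      have h3 : c η = 0 := by
        by_contra h4
        exact hη (Finset.mem_filter.2 ⟨Finset.mem_univ _, h4⟩)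
      rw [h3, zero_mul]
  · rw [classInner_eq_sum (isCharacter_isClassFunction hchar) (isCharacter_isClassFunction hchar)]
    rw [← Finset.sum_subset (Finset.subset_univ S)]
    · rw [Finset.sum_congr rfl fun η hη => by rw [hc', (hcS η hη).1], Finset.sum_const]
      simp only [nsmul_eq_mul, Complex.conj_natCast]
      push_cast
      ring
    · intro η _ hη
      have h3 : c η = 0 := by
        by_contra h4
        exact hη (Finset.mem_filter.2 ⟨Finset.mem_univ _, h4⟩)
      rw [hc', h3]; simp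

/-- The norm of the restriction to `Y` is the index of `Y`. -/
theorem norm_restrict_Y [Fintype G] [Fintype H] (hI : Inv H) {θ : H → ℂ}
    (hθ : IsIrrCharacter H θ) (hd : charDegree θ ≠ 1) [Fintype ((Y H).subgroupOf H)] :
    classInner (fun y : (Y H).subgroupOf H => θ y) (fun y : (Y H).subgroupOf H => θ y) =
      (((Y H).subgroupOf H).index : ℂ) := by
  rw [classInner_self_eq_ofReal, sum_normSq_Y hI hθ hd, ← ((Y H).subgroupOf H).index_mul_card]
  have h0 : (Nat.card ((Y H).subgroupOf H) : ℝ) ≠ 0 := Nat.cast_ne_zero.2 Nat.card_pos.ne'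
  push_cast
  have h1 : ((Nat.card ((Y H).subgroupOf H) : ℝ) : ℂ) ≠ 0 := by exact_mod_cast h0
  push_cast at h1
  field_simp

/-- Constituents on `Y` of nonlinear irreducible characters of `H` are linear. -/
theorem constituents_Y [Fintype G] [Fintype H] (hI : Inv H) {p : ℕ} (hp : p.Prime) {θ : H → ℂ}
    (hθ : IsIrrCharacter H θ) (hd : charDegree θ = p) [Fintype ((Y H).subgroupOf H)]
    (hY : (Y H).relIndex H ≠ 1) :
    (∀ ν : (Y H).subgroupOf H → ℂ, IsIrrCharacter _ ν →
      classInner (fun y : (Y H).subgroupOf H => θ y) ν ≠ 0 → charDegree ν = 1) ∧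
    ((Y H).relIndex H = p ∨ (Y H).relIndex H = p ^ 2) := by
  have hchar := isCharacter_restrict ((Y H).subgroupOf H) (isIrr_isCharacter hθ)
  obtain ⟨ν, hν, hne⟩ := exists_constituent hchar (isIrr_apply_one_ne_zero hθ)
  obtain ⟨e, t, h1, h2, h3, h4⟩ := exists_clifford_numbers ((Y H).subgroupOf H) hθ hν hne
  have h5 := norm_restrict_Y hI hθ (by rw [hd]; exact hp.one_lt.ne')
  rw [h3, Nat.cast_inj] at h5
  have h6 : (Y H).relIndex H = e ^ 2 * t := h5.symm
  rw [hd] at h2
  have hν1 : charDegree ν = 1 := by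
    rcases (Nat.dvd_prime hp).1 (Dvd.intro_left _ h2.symm) with h | h
    · exact h
    · exfalso
      rw [h] at h2
      have h7 : e * t = 1 := by
        have := hp.pos
        nlinarith
      apply hY
      have h8 : e = 1 := Nat.eq_one_of_mul_eq_one_right h7
      have h9 : t = 1 := Nat.eq_one_of_mul_eq_one_left h7
      rw [h6, h8, h9]; rfl
  refine ⟨fun ν' h7 h8 => (h4 ν' h7 h8).trans hν1, ?_⟩
  rw [hν1, mul_one] at h2
  rcases (Nat.dvd_prime hp).1 (Dvd.intro _ h2.symm) with h | h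
  · left
    rw [h6, h2, h]; ring
  · right
    have h9 : t = 1 := by
      rw [h] at h2
      have := hp.pos
      nlinarith
    rw [h6, h, h9, mul_one]

/-- `Y` is abelian. -/
theorem Y_comm [Finite G] (hI : Inv H) {p : ℕ} (hp : p.Prime)
    (hdeg : ∀ θ : H → ℂ, IsIrrCharacter H θ → charDegree θ = 1 ∨ charDegree θ = p)
    (hY : (Y H).relIndex H ≠ 1) : ∀ a ∈ Y H, ∀ b ∈ Y H, a * b = b * a := by
  classical
  have := Fintype.ofFinite G
  intro a ha b hb
  have h1 : (⟨a * b * a⁻¹ * b⁻¹, mul_mem (mul_mem (mul_mem (Y_le H ha) (Y_le H hb))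
      (inv_mem (Y_le H ha))) (inv_mem (Y_le H hb))⟩ : H) = 1 := by
    apply eq_one_of_forall
    intro θ hθ
    rcases hdeg θ hθ with h | h
    · apply Taketa.commutator_le_ker_of_linear hθ h
      rw [mem_commutator_iff]
      have := commutator_mem_commutator (Y_le H ha) (Y_le H hb)
      simpa [commutatorElement_def] using this
    · have h2 := (constituents_Y hI hp hθ h hY).1
      have h3 := commutator_le_ker_of_constituents
        (isCharacter_restrict ((Y H).subgroupOf H) (isIrr_isCharacter hθ)) h2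
        (k := (⟨⟨a, Y_le H ha⟩, ha⟩ : (Y H).subgroupOf H) * ⟨⟨b, Y_le H hb⟩, hb⟩ *
          (⟨⟨a, Y_le H ha⟩, ha⟩)⁻¹ * (⟨⟨b, Y_le H hb⟩, hb⟩)⁻¹) (by
            have := commutator_mem_commutator (mem_top (⟨⟨a, Y_le H ha⟩, ha⟩ : (Y H).subgroupOf H))
              (mem_top (⟨⟨b, Y_le H hb⟩, hb⟩ : (Y H).subgroupOf H))
            rw [commutator_def]
            simpa [commutatorElement_def] using this)
      exact h3
  have h2 : a * b * a⁻¹ * b⁻¹ = 1 := congrArg Subtype.val h1
  calc a * b = (a * b * a⁻¹ * b⁻¹) * (b * a) := by group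
    _ = b * a := by rw [h2, one_mul]

/-- A central element of `H` is central in `G` if it lies in `Y`. -/
theorem mem_center_of_comm [Finite G] (hI : Inv H) {y : G} (hy : y ∈ Y H)
    (hc : ∀ h ∈ H, h * y = y * h) : y ∈ center G := by
  rw [Subgroup.mem_center_iff]
  intro g
  obtain ⟨k, hk, hk'⟩ := exists_conj hI (Y_le H hy) (((mem_Y H).1 hy).2 g)
  rw [hc k hk, mul_inv_cancel_right] at hk'
  calc g * y = (g * y * g⁻¹) * g := by group
    _ = y * g := by rw [hk']

/-- If `|H : Y| = p²` then `Y ≤ Z(G)`. -/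
theorem Y_le_center [Finite G] (hI : Inv H) {p : ℕ} (hp : p.Prime)
    (hdeg : ∀ θ : H → ℂ, IsIrrCharacter H θ → charDegree θ = 1 ∨ charDegree θ = p)
    (hY : (Y H).relIndex H = p ^ 2) : Y H ≤ center G := by
  classical
  have := Fintype.ofFinite G
  intro y hy
  apply mem_center_of_comm hI hy
  intro h hh
  have h1 : (⟨h, hh⟩ : H) * ⟨y, Y_le H hy⟩ * (⟨h, hh⟩ : H)⁻¹ * (⟨y, Y_le H hy⟩ : H)⁻¹ = 1 := by
    apply eq_one_of_forall
    intro θ hθ
    rcases hdeg θ hθ with hd | hd
    · apply Taketa.commutator_le_ker_of_linear hθ hd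
      have := commutator_mem_commutator (mem_top (⟨h, hh⟩ : H)) (mem_top (⟨y, Y_le H hy⟩ : H))
      rw [commutator_def]
      simpa [commutatorElement_def] using this
    · apply central_of_normSq_eq hθ
      have h2 := sum_normSq_Y hI hθ (by rw [hd]; exact hp.one_lt.ne')
      have h3 : ∀ z : (Y H).subgroupOf H, Complex.normSq (θ z) ≤ (charDegree θ : ℝ) ^ 2 := by
        intro z
        obtain ⟨n, ρ, hc, h4, -⟩ := exists_rep (isIrr_isCharacter hθ)
        have h5 := Cfsg.Agent.S0137.result ρ z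
        simp only [Module.finrank_fintype_fun_eq_card, Fintype.card_fin] at h5
        rw [hc] at h5
        rw [Blocks.Basic.charDegree_of_eq h4, Complex.normSq_eq_norm_sq]
        exact pow_le_pow_left₀ (norm_nonneg _) h5 2
      have h4 : ∑ z : (Y H).subgroupOf H, Complex.normSq (θ z) =
          ∑ z : (Y H).subgroupOf H, (charDegree θ : ℝ) ^ 2 := by
        rw [h2, Finset.sum_const, Finset.card_univ, nsmul_eq_mul, hd,
          ← ((Y H).subgroupOf H).index_mul_card, ← Nat.card_eq_fintype_card,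
          show ((Y H).subgroupOf H).index = p ^ 2 from hY]
        push_cast
        ring
      exact (Finset.sum_eq_sum_iff_of_le (fun z _ => h3 z)).1 h4
        ⟨⟨y, Y_le H hy⟩, hy⟩ (Finset.mem_univ _)
  have h2 : h * y * h⁻¹ * y⁻¹ = 1 := congrArg Subtype.val h1
  calc h * y = (h * y * h⁻¹ * y⁻¹) * (y * h) := by group
    _ = y * h := by rw [h2, one_mul]

/-- If `G' ⊄ H'` and `H` has prime index, then `Z(G) ≤ Y`. -/
theorem center_le_Y [Finite G] {p : ℕ} (hp : p.Prime) (hidx : H.index = p)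
    (hGD : ¬ commutator G ≤ ⁅H, H⁆) : center G ≤ Y H := by
  have hH : center G ≤ H := by
    intro z hz
    by_contra hzH
    apply hGD
    rw [commutator_def, commutator_le]
    have hcyc : ∀ g : G, ∃ h ∈ H, ∃ i : ℤ, g = h * z ^ i := by
      intro g
      have h1 : Nat.card (G ⧸ H) = p := by rw [← index_eq_card]; exact hidx
      have := Fact.mk hp
      have h2 : (QuotientGroup.mk z : G ⧸ H) ≠ 1 := fun h => hzH ((QuotientGroup.eq_one_iff z).1 h)
      have h3 := mem_zpowers_of_prime_card h1 h2 (g' := (QuotientGroup.mk g : G ⧸ H))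
      obtain ⟨i, hi⟩ := mem_zpowers_iff.1 h3
      refine ⟨g * (z ^ i)⁻¹, ?_, i, by group⟩
      rw [← QuotientGroup.eq_one_iff, QuotientGroup.mk_mul, QuotientGroup.mk_inv,
        QuotientGroup.mk_zpow, hi, mul_inv_cancel]
    intro g _ g' _
    obtain ⟨h, hh, i, rfl⟩ := hcyc g
    obtain ⟨h', hh', j, rfl⟩ := hcyc g'
    have hzi : ∀ i : ℤ, z ^ i ∈ center G := fun i => zpow_mem hz i
    have e1 := (Subgroup.mem_center_iff.1 (hzi i))
    have e2 := (Subgroup.mem_center_iff.1 (hzi j))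
    have h4 : h * z ^ i * (h' * z ^ j) * (h * z ^ i)⁻¹ * (h' * z ^ j)⁻¹ =
        h * h' * h⁻¹ * h'⁻¹ := by
      have e3 : h * z ^ i * (h' * z ^ j) = h * h' * (z ^ i * z ^ j) := by
        rw [mul_assoc, ← mul_assoc (z ^ i), ← e1 h']; group
      have e4 : (h * z ^ i)⁻¹ * (h' * z ^ j)⁻¹ = (z ^ i * z ^ j)⁻¹ * (h⁻¹ * h'⁻¹) := by
        rw [← mul_inv_rev, mul_assoc, ← mul_assoc (z ^ j), ← e2 h, ← mul_inv_rev h' h]
        rw [← mul_inv_rev]
        congr 1
        rw [mul_assoc h (z ^ j), ← mul_assoc, e2 (z ^ i)]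
      rw [mul_assoc, e4, e3]
      group
    show h * z ^ i * (h' * z ^ j) * (h * z ^ i)⁻¹ * (h' * z ^ j)⁻¹ ∈ _
    rw [h4]
    exact commutator_mem_commutator hh hh'
  intro z hz
  rw [mem_Y]
  refine ⟨hH hz, fun g => ?_⟩
  rw [Subgroup.mem_center_iff.1 hz g, mul_inv_cancel_right, mul_inv_cancel]
  exact one_mem _

end Cfsg.Agent.H597.IndexP
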