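import Cfsg.Agent.H597.E8Tab
import Cfsg.Agent.H942.L7.Iface

/-!
# The invariant symmetric form of the adjoint module of `E₈` (helper597, task FORM of S5920)

`J(h_i, h_j) = A_{ij}`, `J(e_r, e_{-r}) = 1`, everything else 0.
-/

set_option autoImplicit false

namespace Cfsg.Agent.H597.E8Form

open Cfsg Cfsg.Lie Matrix
open Cfsg.Agent.ChevalleyStructure.Columns
open Cfsg.Agent.ChevalleyStructure.Additive
open Cfsg.Agent.ChevalleyStructure.Good
open Cfsg.Agent.ChevalleyStructure.GoodCheck

theorem good (r : ℕ) (hr : r < 240) : GoodAt chevE8 r := goodAt_of_mem chevE8 (by simp) r hr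

theorem neg_eq (r : ℕ) (hr : r < 240) : chevE8.negIdx.getD r 0 = 239 - r :=
  Nat.eq_of_beq_eq_true (neg_E8 r hr)

/-- the chain entries are single and symmetric -/
theorem entry (r : ℕ) (hr : r < 240) (s : ℕ) : chevE8.chainEntry r s = [] ∨
    ∃ u m, chevE8.chainEntry r s = [(u, m)] ∧ u < 240 ∧ chevE8.chainEntry r (239 - u) = [(239 - s, -m)] := by
  have hg := good r hr
  have hrow : (chevE8.chain.toList.getD r #[]).toList = row chevE8 r := by
    rw [Cfsg.Agent.ChevalleyStructure.Columns.row_def]
    simp
  have hlen : chevE8.chain.toList.length = 240 := rfl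
  have hmem : chevE8.chain.toList.getD r #[] ∈ chevE8.chain.toList := by
    rw [List.getD_eq_getElem _ _ (by rw [hlen]; exact hr)]
    exact List.getElem_mem _
  have h1 := allMir_sound _ allMir_E8 _ hmem
  rw [hrow] at h1
  have h2 := mirOK_sound _ _ h1
  rw [chainEntry_eq_look]
  rcases look_mem (row chevE8 r) s with h3 | ⟨e, he, h4, h5⟩
  · exact Or.inl h3
  · right
    obtain ⟨e', he', u, m, h6, h7, h8⟩ := h2 e he
    rw [List.mem_reverse] at he'
    refine ⟨u, m, by rw [h5, h6], ?_, ?_⟩
    · exact hg.lt s (u, m) (by rw [chainEntry_eq_look, h5, h6]; simp)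
    · rw [chainEntry_eq_look]
      rcases filter_of_sorted (row chevE8 r) 0 hg.sorted (239 - u) with ⟨h9, -⟩ | ⟨e'', -, -, h9, h10⟩
      · exfalso
        have h11 : e' ∈ (row chevE8 r).filter (fun e => e.1 = 239 - u) := by
          rw [List.mem_filter]
          exact ⟨he', by simpa using h7⟩
        rw [h9] at h11
        simp at h11
      · have h11 : e' ∈ (row chevE8 r).filter (fun e => e.1 = 239 - u) := by
          rw [List.mem_filter]
          exact ⟨he', by simpa using h7⟩
        rw [h9, List.mem_singleton] at h11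
        rw [h10, ← h11, h8, h4]

variable {K : Type*} [Field K]

/-- the symmetry of the chain sums -/
theorem chSum_symm (r : ℕ) (hr : r < 240) (s u : ℕ) (hs : s < 240) (hu : u < 240) (t : K) :
    chSum (fun w => if 239 - s = w then (1 : K) else 0) t 1 (chevE8.chainEntry r u) =
      chSum (fun w => if 239 - u = w then (1 : K) else 0) (-t) 1 (chevE8.chainEntry r s) := by
  rcases entry r hr s with h1 | ⟨v, m, h1, h2, h3⟩
  · rw [h1, chSum_nil]
    rcases entry r hr u with h4 | ⟨v', m', h4, h5, h6⟩
    · rw [h4, chSum_nil]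
    · rw [h4, chSum_cons, chSum_nil]
      by_cases h : 239 - s = v'
      · exfalso
        have h7 : 239 - v' = s := by omega
        rw [h7, h1] at h6
        simp at h6
      · simp [h]
  · rw [h1, chSum_cons, chSum_nil]
    by_cases h : 239 - u = v
    · have h7 : 239 - v = u := by omega
      rw [h7] at h3
      rw [h3, chSum_cons, chSum_nil]
      simp only [h, if_true]
      push_cast
      ring
    · rcases entry r hr u with h4 | ⟨v', m', h4, h5, h6⟩
      · rw [h4, chSum_nil]
        simp [h]
      · rw [h4, chSum_cons, chSum_nil]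
        by_cases h' : 239 - s = v'
        · exfalso
          have h7 : 239 - v' = s := by omega
          rw [h7, h1] at h6
          simp only [List.cons.injEq, Prod.mk.injEq, and_true] at h6
          omega
        · simp [h, h']

/-- the entries of a chain avoid `± r` -/
theorem chSum_avoid (r : ℕ) (hr : r < 240) (s w : ℕ) (hw : w = r ∨ w = 239 - r) (t : K) :
    chSum (fun v => if w = v then (1 : K) else 0) t 1 (chevE8.chainEntry r s) = 0 := by
  have hg := good r hr
  have h0 : ∀ (k : ℕ) (l : List (ℕ × ℤ)), chSum (fun _ => (0 : K)) t k l = 0 := by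
    intro k l
    induction l generalizing k with
    | nil => rfl
    | cons e l ih => rw [chSum_cons, ih]; ring
  rw [chSum_congr _ (fun _ => (0 : K)), h0]
  intro e he
  have h1 := hg.ne s e he
  have h2 := hg.ne_neg s e he
  rw [neg_eq r hr] at h2
  rcases hw with rfl | rfl
  · rw [if_neg (fun h => h1 h.symm)]
  · rw [if_neg (fun h => h2 h.symm)]

/-- the opposite root -/
def rv (s : Fin chevE8.nroots) : Fin chevE8.nroots := Fin.rev s

theorem rv_val (s : Fin chevE8.nroots) : (rv s).val = 239 - s.val := by
  show (Fin.rev s).val = _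
  rw [Fin.val_rev]
  show 240 - (s.val + 1) = _
  omega

theorem lt240 (s : Fin chevE8.nroots) : s.val < 240 := s.isLt

theorem lt8 (s : Fin chevE8.rank) : s.val < 8 := s.isLt

/-- `x_r(t)` restricted to the root vectors -/
theorem xMat_symm (r s u : Fin chevE8.nroots) (t : K) :
    chevE8.xMat K r t (Sum.inr (rv s)) (Sum.inr u) = chevE8.xMat K r (-t) (Sum.inr (rv u)) (Sum.inr s) := by
  have hr := lt240 r
  have hs := lt240 s
  have hu := lt240 u
  have hsort := (good r.val hr).sorted
  -- the columns
  have key : ∀ (t : K) (w v : Fin chevE8.nroots), chevE8.xMat K r t (Sum.inr w) (Sum.inr v) =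
      if v.val = r.val then (if w.val = r.val then 1 else 0)
      else if v.val = 239 - r.val then (if w.val = v.val then 1 else 0) - t ^ 2 * (if w.val = r.val then 1 else 0)
      else (if w.val = v.val then 1 else 0) +
        chSum (fun z => if w.val = z then (1 : K) else 0) t 1 (chevE8.chainEntry r.val v.val) := by
    intro t w v
    by_cases h1 : v = r
    · subst h1
      rw [xMat_self, dl_inr, if_pos rfl]
    · have h1' : ¬ v.val = r.val := fun h => h1 (Fin.ext h)
      rw [if_neg h1']
      by_cases h2 : v.val = 239 - r.val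
      · rw [if_pos h2, xMat_neg chevE8 r t _ v (by rw [neg_eq _ hr]; exact h2) h1, dl_inr, dl_inr]
        simp
      · rw [if_neg h2, xMat_ne chevE8 r t _ v (by rw [neg_eq _ hr]; exact h2) h1 hsort]
        rfl
  rw [key, key, rv_val, rv_val]
  by_cases hur : u.val = r.val
  · rw [if_pos hur]
    by_cases hsr : s.val = r.val
    · rw [if_pos hsr, hsr, hur]
    · rw [if_neg hsr]
      by_cases hsn : s.val = 239 - r.val
      · rw [if_pos hsn, hsn, hur]
        have h1 : 239 - (239 - r.val) = r.val := by omega
        have h2 : ¬ 239 - r.val = r.val := by omega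
        rw [h1, if_pos rfl, if_pos rfl, if_neg h2]
        ring
      · rw [if_neg hsn, chSum_avoid _ hr _ _ (Or.inr (by rw [hur])), if_neg (by omega), if_neg (by omega)]
        ring
  · rw [if_neg hur]
    by_cases hun : u.val = 239 - r.val
    · rw [if_pos hun, hun]
      have h1 : 239 - (239 - r.val) = r.val := by omega
      have h2 : ¬ 239 - r.val = r.val := by omega
      rw [h1]
      by_cases hsr : s.val = r.val
      · rw [if_pos hsr, hsr, if_pos rfl, if_pos rfl, if_neg h2]
        ring
      · rw [if_neg hsr]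
        by_cases hsn : s.val = 239 - r.val
        · rw [if_pos hsn, hsn, h1, if_neg (by omega), if_pos rfl]
          ring
        · rw [if_neg hsn, chSum_avoid _ hr _ _ (Or.inl rfl), if_neg (by omega), if_neg (by omega),
            if_neg (by omega)]
          ring
    · rw [if_neg hun]
      by_cases hsr : s.val = r.val
      · rw [if_pos hsr, chSum_avoid _ hr _ _ (Or.inr (by rw [hsr])), if_neg (by omega), if_neg (by omega)]
        ring
      · rw [if_neg hsr]
        by_cases hsn : s.val = 239 - r.val
        · rw [if_pos hsn, chSum_avoid _ hr _ _ (Or.inl (by omega)), if_neg (by omega), if_neg (by omega),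
            if_neg (by omega)]
          ring
        · have h5 : (if 239 - s.val = u.val then (1 : K) else 0) = if 239 - u.val = s.val then 1 else 0 := by
            by_cases h : 239 - s.val = u.val
            · rw [if_pos h, if_pos (by omega)]
            · rw [if_neg h, if_neg (by omega)]
          rw [if_neg hsn, chSum_symm _ hr _ _ hs hu, h5]

/-- the form -/
def J (K : Type*) [Field K] : Matrix chevE8.Idx chevE8.Idx K := Matrix.of fun a b =>
  match a, b with
  | Sum.inl i, Sum.inl j => ((AZ ⟨i.val, lt8 i⟩ ⟨j.val, lt8 j⟩ : ℤ) : K)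
  | Sum.inr s, Sum.inr u => if u = rv s then 1 else 0
  | _, _ => 0

theorem J_ll (i j : Fin chevE8.rank) : J K (Sum.inl i) (Sum.inl j) = ((AZ ⟨i.val, lt8 i⟩ ⟨j.val, lt8 j⟩ : ℤ) : K) := rfl
theorem J_lr (i : Fin chevE8.rank) (u : Fin chevE8.nroots) : J K (Sum.inl i) (Sum.inr u) = 0 := rfl
theorem J_rl (i : Fin chevE8.rank) (u : Fin chevE8.nroots) : J K (Sum.inr u) (Sum.inl i) = 0 := rfl
theorem J_rr (s u : Fin chevE8.nroots) : J K (Sum.inr s) (Sum.inr u) = if u = rv s then 1 else 0 := rfl

theorem rv_rv (s : Fin chevE8.nroots) : rv (rv s) = s := Fin.rev_rev s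

theorem AZ_symm (i j : Fin 8) : AZ i j = AZ j i := sym_E8 i.val i.isLt j.val j.isLt

theorem J_transpose : (J K).transpose = J K := by
  ext a b
  rw [Matrix.transpose_apply]
  rcases a with i | s <;> rcases b with j | u
  · rw [J_ll, J_ll, AZ_symm]
  · rw [J_lr, J_rl]
  · rw [J_lr, J_rl]
  · rw [J_rr, J_rr]
    by_cases h : s = rv u
    · rw [if_pos h, h, rv_rv, if_pos rfl]
    · rw [if_neg h, if_neg]
      intro h1
      apply h
      rw [h1, rv_rv]

theorem sum_J_rr (s : Fin chevE8.nroots) (f : Fin chevE8.nroots → K) :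
    ∑ w : Fin chevE8.nroots, J K (Sum.inr s) (Sum.inr w) * f w = f (rv s) := by
  have h : ∀ w, J K (Sum.inr s) (Sum.inr w) * f w = if w = rv s then f w else 0 := fun w => by
    rw [J_rr, ite_mul, one_mul, zero_mul]
  rw [Finset.sum_congr rfl fun w _ => h w, Finset.sum_ite_eq' Finset.univ (rv s) f, if_pos (Finset.mem_univ _)]

theorem sum_rr_J (u : Fin chevE8.nroots) (f : Fin chevE8.nroots → K) :
    ∑ w : Fin chevE8.nroots, f w * J K (Sum.inr w) (Sum.inr u) = f (rv u) := by
  have h : ∀ w, f w * J K (Sum.inr w) (Sum.inr u) = J K (Sum.inr u) (Sum.inr w) * f w := fun w => by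
    rw [mul_comm]
    congr 1
    exact congrFun (congrFun J_transpose (Sum.inr u)) (Sum.inr w)
  rw [Finset.sum_congr rfl fun w _ => h w, sum_J_rr]

/-- `h_r` in terms of the Cartan integers -/
theorem cor_car (r : Fin chevE8.nroots) (j : Fin chevE8.rank) :
    ∑ i : Fin chevE8.rank, (cor chevE8 r.val i.val : K) * ((AZ ⟨i.val, lt8 i⟩ ⟨j.val, lt8 j⟩ : ℤ) : K) =
      (car chevE8 j.val r.val : K) := by
  rw [← cor_car_E8 r.val (lt240 r) j.val (lt8 j)]
  push_cast
  rw [← Fin.sum_univ_eq_sum_range (fun i => (cor chevE8 r.val i : K) *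
    ((car chevE8 i (chevE8.simpleIdx.getD j.val 0) : ℤ) : K)) 8]
  rfl

theorem J_mul_xMat (r : Fin chevE8.nroots) (t : K) :
    J K * chevE8.xMat K r t = (chevE8.xMat K r (-t)).transpose * J K := by
  have hr := lt240 r
  ext a b
  rw [Matrix.mul_apply, Matrix.mul_apply, Fintype.sum_sum_type, Fintype.sum_sum_type]
  simp only [Matrix.transpose_apply]
  rcases a with i | s <;> rcases b with j | u
  · simp only [J_lr, J_rl, zero_mul, mul_zero, Finset.sum_const_zero, add_zero, xMat_inl_inl]
    simp only [mul_ite, mul_one, mul_zero, ite_mul, one_mul, zero_mul]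
    rw [Finset.sum_ite_eq' Finset.univ j, Finset.sum_ite_eq' Finset.univ i, if_pos (Finset.mem_univ _),
      if_pos (Finset.mem_univ _)]
  · simp only [J_lr, zero_mul, mul_zero, Finset.sum_const_zero, add_zero, zero_add]
    rw [sum_rr_J u (fun w => chevE8.xMat K r (-t) (Sum.inr w) (Sum.inl i)), xMat_inr_inl]
    simp only [xMat_inl_inr, neg_eq r.val hr]
    by_cases h1 : u = r
    · subst h1
      have h2 : rv u ≠ u := fun h => by
        have := congrArg Fin.val h
        rw [rv_val] at this
        omega
      simp [h2]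
    · by_cases h2 : u.val = 239 - r.val
      · have h3 : rv u = r := Fin.ext (by rw [rv_val, h2]; omega)
        rw [if_pos h3, ← cor_car]
        simp only [h1, h2, if_false, if_true]
        rw [neg_mul_neg, Finset.sum_mul]
        refine Finset.sum_congr rfl fun k _ => ?_
        rw [J_ll, AZ_symm]
        ring
      · have h3 : rv u ≠ r := fun h => by
          apply h2
          rw [← h, rv_val]
          have := lt240 u
          omega
        simp [h1, h2, h3]
  · simp only [J_rl, zero_mul, mul_zero, Finset.sum_const_zero, add_zero, zero_add]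
    rw [sum_J_rr s (fun w => chevE8.xMat K r t (Sum.inr w) (Sum.inl j)), xMat_inr_inl]
    simp only [xMat_inl_inr, neg_eq r.val hr]
    by_cases h1 : s = r
    · subst h1
      have h2 : rv s ≠ s := fun h => by
        have := congrArg Fin.val h
        rw [rv_val] at this
        omega
      simp [h2]
    · by_cases h2 : s.val = 239 - r.val
      · have h3 : rv s = r := Fin.ext (by rw [rv_val, h2]; omega)
        rw [if_pos h3, ← cor_car]
        simp only [h1, h2, if_false, if_true]
        rw [neg_mul, Finset.sum_mul, ← Finset.sum_neg_distrib]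
        refine Finset.sum_congr rfl fun k _ => ?_
        rw [J_ll]
        ring
      · have h3 : rv s ≠ r := fun h => by
          apply h2
          rw [← h, rv_val]
          have := lt240 s
          omega
        simp [h1, h2, h3]
  · simp only [J_lr, J_rl, zero_mul, mul_zero, Finset.sum_const_zero, zero_add]
    rw [sum_J_rr s (fun w => chevE8.xMat K r t (Sum.inr w) (Sum.inr u)),
      sum_rr_J u (fun w => chevE8.xMat K r (-t) (Sum.inr w) (Sum.inr s))]
    exact xMat_symm r s u t

theorem inv_gen (r : Fin chevE8.nroots) (t : K) :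
    (chevE8.xMat K r t).transpose * J K * chevE8.xMat K r t = J K := by
  have hg := good r.val (lt240 r)
  have h0 : chevE8.xMat K r 0 = 1 := by
    have := x_zero (F := K) r.val hg
    rwa [x_eq_xMat r.val r.isLt] at this
  rw [Matrix.mul_assoc, J_mul_xMat, ← Matrix.mul_assoc, ← Matrix.transpose_mul, xMat_add r hg, neg_add_cancel, h0,
    Matrix.transpose_one, Matrix.one_mul]

theorem isUnit_det : IsUnit (J K).det := by
  let J' : Matrix chevE8.Idx chevE8.Idx K := Matrix.of fun a b =>
    match a, b with
    | Sum.inl i, Sum.inl j => ((BZ ⟨i.val, lt8 i⟩ ⟨j.val, lt8 j⟩ : ℤ) : K)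
    | Sum.inr s, Sum.inr u => if u = rv s then 1 else 0
    | _, _ => 0
  refine Matrix.isUnit_det_of_right_inverse (B := J') ?_
  ext a b
  rw [Matrix.mul_apply, Fintype.sum_sum_type]
  rcases a with i | s <;> rcases b with j | u
  · simp only [J_lr, zero_mul, Finset.sum_const_zero, add_zero]
    have h1 := congrFun (congrFun AZ_mul_BZ ⟨i.val, lt8 i⟩) ⟨j.val, lt8 j⟩
    rw [Matrix.mul_apply] at h1
    have h2 := congrArg (Int.cast (R := K)) h1
    push_cast at h2
    refine Eq.trans h2 ?_
    by_cases h : i = j
    · subst h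
      simp
    · rw [Matrix.one_apply_ne (fun h' => h (Fin.ext (by simpa using congrArg Fin.val h'))),
        Matrix.one_apply_ne (fun h' => h (Sum.inl.inj h'))]
      simp
  · have h1 : ∀ k : Fin chevE8.rank, J' (Sum.inl k) (Sum.inr u) = 0 := fun _ => rfl
    simp only [J_lr, h1, zero_mul, mul_zero, Finset.sum_const_zero, add_zero]
    rw [Matrix.one_apply_ne (by simp)]
  · have h1 : ∀ k : Fin chevE8.nroots, J' (Sum.inr k) (Sum.inl j) = 0 := fun _ => rfl
    simp only [J_rl, h1, zero_mul, mul_zero, Finset.sum_const_zero, add_zero]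
    rw [Matrix.one_apply_ne (by simp)]
  · simp only [J_rl, zero_mul, Finset.sum_const_zero, zero_add]
    rw [sum_J_rr s (fun w => J' (Sum.inr w) (Sum.inr u))]
    show (if u = rv (rv s) then (1 : K) else 0) = _
    rw [rv_rv]
    by_cases h : u = s
    · subst h
      simp
    · rw [if_neg h, Matrix.one_apply_ne (fun h' => h (Sum.inr.inj h').symm)]

/-- **Task FORM.** -/
theorem form : Cfsg.Agent.H942.L7.Form := by
  intro K _
  refine ⟨J K, J_transpose, isUnit_det, fun g hg => ?_⟩
  unfold ChevalleyDatum.group at hg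
  induction hg using Subgroup.closure_induction with
  | mem x hx =>
    obtain ⟨r, t, h⟩ := hx
    rw [h]
    exact inv_gen r t
  | one => simp
  | mul x y _ _ hx hy =>
    rw [Units.val_mul, Matrix.transpose_mul]
    calc ((y : Matrix chevE8.Idx chevE8.Idx K)).transpose * ((x : Matrix chevE8.Idx chevE8.Idx K)).transpose * J K *
          ((x : Matrix chevE8.Idx chevE8.Idx K) * (y : Matrix chevE8.Idx chevE8.Idx K))
        = ((y : Matrix chevE8.Idx chevE8.Idx K)).transpose * (((x : Matrix chevE8.Idx chevE8.Idx K)).transpose * J K *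
          (x : Matrix chevE8.Idx chevE8.Idx K)) * (y : Matrix chevE8.Idx chevE8.Idx K) := by
          simp only [Matrix.mul_assoc]
      _ = _ := by rw [hx, hy]
  | inv x _ hx =>
    have h1 : (x : Matrix chevE8.Idx chevE8.Idx K) * ((x⁻¹ : GL chevE8.Idx K) : Matrix chevE8.Idx chevE8.Idx K) = 1 := by
      rw [← Units.val_mul, mul_inv_cancel, Units.val_one]
    calc (((x⁻¹ : GL chevE8.Idx K) : Matrix chevE8.Idx chevE8.Idx K)).transpose * J K *
          ((x⁻¹ : GL chevE8.Idx K) : Matrix chevE8.Idx chevE8.Idx K)
        = (((x⁻¹ : GL chevE8.Idx K) : Matrix chevE8.Idx chevE8.Idx K)).transpose *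
          (((x : Matrix chevE8.Idx chevE8.Idx K)).transpose * J K * (x : Matrix chevE8.Idx chevE8.Idx K)) *
          ((x⁻¹ : GL chevE8.Idx K) : Matrix chevE8.Idx chevE8.Idx K) := by rw [hx]
      _ = ((x : Matrix chevE8.Idx chevE8.Idx K) *
          ((x⁻¹ : GL chevE8.Idx K) : Matrix chevE8.Idx chevE8.Idx K)).transpose * J K *
          ((x : Matrix chevE8.Idx chevE8.Idx K) *
          ((x⁻¹ : GL chevE8.Idx K) : Matrix chevE8.Idx chevE8.Idx K)) := by
          simp only [Matrix.transpose_mul, Matrix.mul_assoc]
      _ = J K := by rw [h1, Matrix.transpose_one, Matrix.one_mul, Matrix.mul_one]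

end Cfsg.Agent.H597.E8Form
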