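import Cfsg.Agent.H233.B3.Row3
import Cfsg.Agent.H68.MeetBase
import Cfsg.Agent.S2600
import Cfsg.Agent.S2602
import Cfsg.Agent.S2603
import Cfsg.Agent.S2605
import Cfsg.Agent.S0243
import Cfsg.Agent.S0245
import Cfsg.Agent.S0246
import Cfsg.Agent.S0280
import Cfsg.Agent.S0294
import Cfsg.Agent.S0270
import Cfsg.Agent.S0283
import Cfsg.Agent.S0297

/-!
# `Row3 2 T`, characteristic two: `PSL_2`, `PSU_n`, `PSp_4`, `PΩ⁻` (S5761, task 2822)
-/

set_option autoImplicit false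

namespace Cfsg.Agent.H597.B3Two

open Subgroup Cfsg.Agent.H233.B3 Cfsg.Agent.H68.MeetB

/-- the form of the rows -/
theorem row_of {T : Type*} [Group T] [Finite T] [IsSimpleGroup T] {m : ℕ} (hm : Odd m) (hm1 : 1 < m)
    (hd : m ∣ Nat.card T) (h2 : 2 ∣ Nat.card T)
    (h : MeetIn 2 T) {C : Type*} [Group C] [Finite C] [IsCyclic C] (φ : Cfsg.Out T →* C) (hk : Odd (Nat.card φ.ker))
    (hn : Nat.card C ≤ 4 ∨ 3 * Nat.card C < m) : Row3 2 T := by
  have hT : ¬ IsMulCommutative T := by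
    intro hc
    let _ : CommGroup T := { (inferInstance : Group T) with mul_comm := fun a b => hc.is_comm.comm a b }
    have hp : (Nat.card T).Prime := IsSimpleGroup.prime_card
    have h3 := (Nat.prime_dvd_prime_iff_eq Nat.prime_two hp).1 h2
    rw [← h3] at hd
    rcases (Nat.dvd_prime Nat.prime_two).1 hd with rfl | rfl
    · omega
    · exact absurd hm (by decide)
  exact row3_of_hom_cyclic hT h φ hk (hn.imp id fun hn Q hQ => lt_index_of_dvd hm hd hn hQ)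

theorem six_lt {f : ℕ} (hf : 3 ≤ f) : 3 * (2 * f) < (2 ^ f) ^ 2 - 1 := by
  have h1 : 3 * (2 * f) + 2 ≤ 4 ^ f := by
    induction f, hf using Nat.le_induction with
    | base => norm_num
    | succ k hk ih => rw [pow_succ]; omega
  rw [← pow_mul, mul_comm f 2, pow_mul]
  norm_num
  omega

theorem odd_sq {f : ℕ} (hf : 1 ≤ f) : Odd ((2 ^ f) ^ 2 - 1) := by
  have h1 : Even ((2 ^ f) ^ 2) := by
    rw [← pow_mul]
    exact even_two.pow_of_ne_zero (by omega)
  exact Nat.Even.sub_odd (Nat.one_le_pow _ _ (by positivity)) h1 odd_one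

variable {F : Type*} [Field F] [Fintype F] [CharP F 2]

theorem exists_pow : ∃ f : ℕ, 1 ≤ f ∧ Fintype.card F = 2 ^ f := by
  obtain ⟨f, -, hf⟩ := FiniteField.card F 2
  exact ⟨f, f.2, hf⟩

/-- **`PSp_4(2^f)`, `f ≥ 2`** -/
theorem row2_psp4 (h3 : 3 ≤ Fintype.card F)
    (h : MeetIn 2 (Cfsg.PSp 2 F)) :
    Row3 2 (Cfsg.PSp 2 F) := by
  obtain ⟨f, hf, hF⟩ := exists_pow (F := F)
  have hs : IsSimpleGroup (Cfsg.PSp 2 F) := Cfsg.Agent.S0270.result 2 le_rfl fun _ => h3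
  obtain ⟨hc, hcard⟩ := Cfsg.Agent.S2600.result hf hF
  have hf2 : 2 ≤ f := by
    by_contra hcon
    have : f = 1 := by omega
    rw [hF, this] at h3
    norm_num at h3
  have hord : Nat.card (Cfsg.PSp 2 F) = (2 ^ f) ^ 4 * (((2 ^ f) ^ 2 - 1) * ((2 ^ f) ^ 4 - 1)) := by
    have h1 : Nat.gcd 2 (Fintype.card F - 1) * Nat.card (Cfsg.PSp 2 F) =
        (Fintype.card F) ^ (2 ^ 2) * ∏ i ∈ Finset.range 2, ((Fintype.card F) ^ (2 * (i + 1)) - 1) := by
      rw [← Cfsg.Agent.S0245.result (F := F) rfl 2, ← Cfsg.Agent.S0246.result (F := F) rfl 2 (by norm_num)]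
      exact Subgroup.card_mul_index (Subgroup.center (Matrix.symplecticGroup (Fin 2) F))
    have h2 : Nat.gcd 2 (2 ^ f - 1) = 1 := by
      rw [← Nat.Coprime, Nat.coprime_two_left]
      exact Nat.Even.sub_odd (Nat.one_le_pow _ _ (by norm_num)) (even_two.pow_of_ne_zero (by omega)) odd_one
    rw [hF, h2, one_mul, Finset.prod_range_succ, Finset.prod_range_one] at h1
    exact h1
  refine row_of (odd_sq hf) ?_ ?_ ?_ h (MonoidHom.id _) ?_ ?_
  · have : 4 ≤ 2 ^ f := by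
      calc 4 = 2 ^ 2 := by norm_num
        _ ≤ 2 ^ f := Nat.pow_le_pow_right (by norm_num) hf2
    nlinarith [Nat.sub_add_cancel (Nat.one_le_pow 2 (2 ^ f) (by positivity))]
  · rw [hord]
    exact Dvd.intro_left _ (by ring : (2 ^ f) ^ 4 * ((2 ^ f) ^ 4 - 1) * ((2 ^ f) ^ 2 - 1) = _)
  · rw [hord]
    exact ((dvd_pow_self 2 (by omega)).trans (dvd_pow_self _ (by norm_num))).mul_right _
  · rw [(MonoidHom.ker_eq_bot_iff _).2 (fun _ _ h => h), Subgroup.card_bot]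
    exact odd_one
  · rw [hcard]
    rcases Nat.lt_or_ge f 3 with h5 | h5
    · left; omega
    · exact Or.inr (six_lt h5)

/-- **`PΩ⁻_2m(2^f)`, `m ≥ 4`** -/
theorem row2_pomega_minus {m : ℕ} (hm : 4 ≤ m) (a b : F)
    (hab : ∀ z₁ z₂ : F, z₁ ^ 2 + a * z₁ * z₂ + b * z₂ ^ 2 = 0 → z₁ = 0 ∧ z₂ = 0)
    (h : MeetIn 2 (Cfsg.POmega F (Cfsg.quadFormMinus (m - 1) F a b))) :
    Row3 2 (Cfsg.POmega F (Cfsg.quadFormMinus (m - 1) F a b)) := by
  obtain ⟨f, hf, hF⟩ := exists_pow (F := F)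
  have hs : IsSimpleGroup (Cfsg.POmega F (Cfsg.quadFormMinus (m - 1) F a b)) := Cfsg.Agent.S0297.result m hm a b hab
  obtain ⟨hc, hcard⟩ := Cfsg.Agent.S2605.result hf hF hm a b hab
  have hev : Even (2 ^ f) := even_two.pow_of_ne_zero (by omega)
  have hord := Cfsg.Agent.S0294.result (F := F) hF m hm a b hab
  have hgcd : Nat.gcd 4 ((2 ^ f) ^ m + 1) = 1 := by
    rw [← Nat.Coprime, show (4 : ℕ) = 2 ^ 2 by norm_num]
    apply Nat.Coprime.pow_left
    rw [Nat.coprime_two_left]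
    exact (hev.pow_of_ne_zero (by omega)).add_one
  rw [hgcd, one_mul] at hord
  have hd : (2 ^ f) ^ 2 - 1 ∣ Nat.card (Cfsg.POmega F (Cfsg.quadFormMinus (m - 1) F a b)) := by
    rw [hord]
    apply Dvd.dvd.mul_left
    exact Finset.dvd_prod_of_mem (fun i => (2 ^ f) ^ (2 * (i + 1)) - 1) (Finset.mem_range.2 (by omega : 0 < m - 1))
  refine row_of (odd_sq hf) ?_ hd ?_ h (MonoidHom.id _) ?_ ?_
  · have : 2 ≤ 2 ^ f := Nat.le_self_pow (by omega) 2
    nlinarith [Nat.sub_add_cancel (Nat.one_le_pow 2 (2 ^ f) (by positivity))]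
  · rw [hord]
    have hm0 : m * (m - 1) ≠ 0 := Nat.mul_ne_zero (by omega) (by omega)
    exact (((dvd_pow_self 2 (by omega)).trans (dvd_pow_self _ hm0)).mul_right _).mul_right _
  · rw [(MonoidHom.ker_eq_bot_iff _).2 (fun _ _ h => h), Subgroup.card_bot]
    exact odd_one
  · rw [hcard]
    rcases Nat.lt_or_ge f 3 with h5 | h5
    · left; omega
    · exact Or.inr (six_lt h5)

omit [CharP F 2] in
theorem isSimpleGroup_psl2 (h4 : 4 ≤ Fintype.card F) :
    IsSimpleGroup (Matrix.ProjectiveSpecialLinearGroup (Fin 2) F) :=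
  Matrix.ProjectiveSpecialLinearGroup.rank_two_simple (by rw [Nat.card_eq_fintype_card]; omega)

/-- **`PSL_2(2^f)`, `f ≥ 2`** -/
theorem row2_psl2 (h4 : 4 ≤ Fintype.card F) (h : MeetIn 2 (Matrix.ProjectiveSpecialLinearGroup (Fin 2) F)) :
    Row3 2 (Matrix.ProjectiveSpecialLinearGroup (Fin 2) F) := by
  obtain ⟨f, hf, hF⟩ := exists_pow (F := F)
  have : Fact (Nat.Prime 2) := ⟨Nat.prime_two⟩
  have hs := isSimpleGroup_psl2 (F := F) h4
  have hf0 : NeZero f := ⟨by omega⟩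
  have h4' : 4 ≤ 2 ^ f := hF ▸ h4
  obtain ⟨φ, -, -, hk⟩ := Cfsg.Agent.S2602.result (F := F) hf hF h4'
  have hodd : Odd (2 ^ f - 1) :=
    Nat.Even.sub_odd (Nat.one_le_pow _ _ (by norm_num)) (even_two.pow_of_ne_zero (by omega)) odd_one
  have hgcd : Nat.gcd 2 (2 ^ f - 1) = 1 := by rw [← Nat.Coprime, Nat.coprime_two_left]; exact hodd
  rw [hgcd] at hk
  have hord := Cfsg.Agent.S0243.result (F := F) hF 2 le_rfl
  rw [hgcd, one_mul, Fin.prod_univ_two] at hord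
  have hord' : Nat.card (Matrix.ProjectiveSpecialLinearGroup (Fin 2) F) = 2 ^ f * ((2 ^ f) ^ 2 - 1) := by
    have h1 : (2 ^ f) ^ 2 - (2 ^ f) ^ ((1 : Fin 2) : ℕ) = 2 ^ f * (2 ^ f - 1) := by
      rw [Nat.mul_sub, mul_one, Fin.val_one, pow_one, pow_two]
    rw [h1, Fin.val_zero, pow_zero] at hord
    have h2 : (2 ^ f - 1) * Nat.card (Matrix.ProjectiveSpecialLinearGroup (Fin 2) F) =
        (2 ^ f - 1) * (2 ^ f * ((2 ^ f) ^ 2 - 1)) := by rw [hord]; ring
    exact Nat.eq_of_mul_eq_mul_left (by omega) h2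
  refine row_of (odd_sq hf) ?_ ?_ ?_ h φ ?_ ?_
  · nlinarith [Nat.sub_add_cancel (Nat.one_le_pow 2 (2 ^ f) (by positivity))]
  · rw [hord']
    exact dvd_mul_left _ _
  · rw [hord']
    exact (dvd_pow_self 2 (by omega)).mul_right _
  · rw [hk]
    exact odd_one
  · rw [Nat.card_congr Multiplicative.toAdd, Nat.card_zmod]
    rcases Nat.lt_or_ge f 3 with h5 | h5
    · left; omega
    · have := six_lt h5
      right; omega

theorem six_lt_eight {f : ℕ} (hf : 1 ≤ f) : 3 * (2 * f) < (2 ^ f) ^ 3 + 1 := by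
  have h1 : 3 * (2 * f) < 8 ^ f + 1 := by
    induction f, hf using Nat.le_induction with
    | base => norm_num
    | succ k hk ih => rw [pow_succ]; omega
  rw [← pow_mul, mul_comm f 3, pow_mul]
  norm_num
  omega

/-- **`PSU_n(2^f)`, `n ≥ 3`, not `PSU_3(2)`** -/
theorem row2_psu {n q : ℕ} (hF : Fintype.card F = q ^ 2) (hn : 3 ≤ n) (h32 : ¬ (n = 3 ∧ q = 2))
    (h : MeetIn 2 (Cfsg.PSU n F q)) : Row3 2 (Cfsg.PSU n F q) := by
  obtain ⟨k, hk, hFk⟩ := exists_pow (F := F)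
  have : Fact (Nat.Prime 2) := ⟨Nat.prime_two⟩
  obtain ⟨f, hf, hq⟩ : ∃ f, 1 ≤ f ∧ q = 2 ^ f := by
    have h1 : q ∣ 2 ^ k := by
      rw [← hFk, hF]
      exact dvd_pow_self q (by norm_num)
    obtain ⟨f, -, hf⟩ := (Nat.dvd_prime_pow Nat.prime_two).1 h1
    refine ⟨f, ?_, hf⟩
    by_contra hcon
    have : f = 0 := by omega
    rw [this, pow_zero] at hf
    rw [hf, hFk, one_pow] at hF
    have := Nat.one_lt_pow (n := k) (by omega) (by norm_num : 1 < 2)
    omega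
  have hs : IsSimpleGroup (Cfsg.PSU n F q) := Cfsg.Agent.S0283.result hF n hn h32
  have hf0 : NeZero (2 * f) := ⟨by omega⟩
  obtain ⟨φ, -, -, hker⟩ := Cfsg.Agent.S2603.result (K := F) (p := 2) (f := f) (q := q) (n := n) hf hq hF hn h32
  have hqe : Even q := by rw [hq]; exact even_two.pow_of_ne_zero (by omega)
  have hq2 : 2 ≤ q := by
    rw [hq]
    exact Nat.le_self_pow (by omega) 2
  have hord := Cfsg.Agent.S0280.result hF n (by omega)
  obtain ⟨j, rfl⟩ : ∃ j, n = 3 + j := ⟨n - 3, by omega⟩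
  rw [Finset.prod_range_add, Finset.prod_range_succ, Finset.prod_range_succ, Finset.prod_range_one] at hord
  simp only [Even.zero, if_true, Nat.not_even_one, if_false, even_two, zero_add, pow_one] at hord
  obtain ⟨c, hc⟩ : Nat.gcd (3 + j) (q + 1) ∣ q ^ 2 - 1 := by
    refine (Nat.gcd_dvd_right _ _).trans ⟨q - 1, ?_⟩
    have := Nat.sq_sub_sq q 1
    rwa [one_pow] at this
  have hg0 : 0 < Nat.gcd (3 + j) (q + 1) := Nat.gcd_pos_of_pos_left _ (by omega)
  have hcard : ∃ Y, Nat.card (Cfsg.PSU (3 + j) F q) = q ^ ((3 + j) * (3 + j - 1) / 2) * (q ^ 3 + 1) * Y := by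
    refine ⟨c * ∏ x ∈ Finset.range j, (if Even (3 + x) then q ^ (3 + x + 1) + 1 else q ^ (3 + x + 1) - 1), ?_⟩
    have h1 : 0 < Nat.gcd (3 + j) (q + 1) * (q + 1) := by positivity
    apply Nat.eq_of_mul_eq_mul_left h1
    rw [mul_assoc, hord, show 1 + 1 = 2 from rfl, show 2 + 1 = 3 from rfl, hc]
    ring
  obtain ⟨Y, hY⟩ := hcard
  refine row_of (m := q ^ 3 + 1) (hqe.pow_of_ne_zero (by norm_num)).add_one ?_ ?_ ?_ h φ ?_ (Or.inr ?_)
  · have : 0 < q ^ 3 := by positivity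
    omega
  · rw [hY]
    exact (dvd_mul_left _ _).mul_right _
  · rw [hY]
    have h1 : (3 + j) * (3 + j - 1) / 2 ≠ 0 := by
      have : 3 * 2 ≤ (3 + j) * (3 + j - 1) := Nat.mul_le_mul (by omega) (by omega)
      omega
    exact ((even_iff_two_dvd.1 (hqe.pow_of_ne_zero h1)).mul_right _).mul_right _
  · rw [hker]
    exact Odd.of_dvd_nat hqe.add_one (Nat.gcd_dvd_right _ _)
  · rw [Nat.card_congr Multiplicative.toAdd, Nat.card_zmod, hq]
    exact six_lt_eight hf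

end Cfsg.Agent.H597.B3Two
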