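import Cfsg.Agent.H954.OutLin
import Cfsg.Agent.H934.IdxPSU

/-!
# The degrees of the nonlinear characters of `PSU_n(q)`, `n ≥ 3`, are at least `(q - 1) q ^ (n - 2)`
-/

set_option autoImplicit false

namespace Cfsg.Agent.H597.PsuDeg

open Cfsg MulAction Cfsg.Agent.LieClassical.HermBasic Cfsg.Agent.LieClassical.HermSiegel
  Cfsg.Agent.LieClassical.HermGen Cfsg.Agent.LieClassical.SUBasic Cfsg.Agent.ClassicalGeometry.PSUAutBasic
  Cfsg.Agent.ClassicalGeometry.PSUAutSylow Cfsg.Agent.H934 Cfsg.Agent.H934.IdxPSU Cfsg.Agent.H954.OutDeg Matrix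

variable {F : Type*} [Field F] [Fintype F] {q n : ℕ}

theorem mono_aux {z q : ℕ} (hq : 1 ≤ q) (hz : q ≤ z) :
    (q - 1) ^ 2 * z ≤ (z - 1) ^ 2 * q := by
  obtain ⟨a, rfl⟩ : ∃ a, q = a + 1 := ⟨q - 1, by omega⟩
  obtain ⟨b, rfl⟩ : ∃ b, z = a + 1 + b := ⟨z - (a + 1), by omega⟩
  have h1 : a + 1 - 1 = a := by omega
  have h2 : a + 1 + b - 1 = a + b := by omega
  rw [h1, h2]
  nlinarith [Nat.zero_le (a * b), Nat.zero_le (a * a * b), Nat.zero_le (a * b * b), Nat.zero_le (b * b)]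

/-- **The degree bound for `PSU_n(q)`.** -/
theorem md_psu {X : Type*} [Group X] [Finite X] [IsSimpleGroup X] (hF : Fintype.card F = q ^ 2) (hn : 3 ≤ n)
    (i : X ≃* PSU n F q) : MD X ((q - 1) * q ^ (n - 2)) := by
  classical
  obtain ⟨e, f, hfr⟩ := exists_frame (F := F) (n := n) hF (by omega)
  have he0 : e ≠ 0 := by
    rintro rfl
    have := hfr.ef
    rw [herm_zero_left] at this
    exact zero_ne_one this
  have hfe : hermForm n F q f e = 1 := by rw [herm_swap hF, hfr.ef, one_pow]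
  set π : SU n F q →* X := (i.symm : PSU n F q →* X).comp (pr n F q) with hπ
  obtain ⟨c0, hc0, hc⟩ := exists_trace_zero_ne hF
  set t := transv hF e hfr.ee c0 hc with ht
  have hπt : π t ≠ 1 := by
    intro h1
    have h2 : pr n F q t = 1 := by
      have h3 : i.symm (pr n F q t) = 1 := h1
      exact (MulEquiv.map_eq_one_iff i.symm).1 h3
    rw [pr_eq_one_iff] at h2
    obtain ⟨c, -, -, hc'⟩ := exists_scalar_of_mem_center hF hn h2
    have h3 := hc' f
    rw [act_transv, hfe, mul_one] at h3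
    have h4 := congrArg (fun v => hermForm n F q v f) h3
    simp only [herm_add_left, herm_smul_left, hfr.ff, hfr.ef, zero_add, mul_one, mul_zero] at h4
    exact hc0 h4
  have hyp0 := hyp hF he0 hfr.ee
  have htT : t ∈ transvG hF e hfr.ee := mem_transvG.2 ⟨c0, hc, rfl⟩
  set Z := (transvG hF e hfr.ee).subgroupOf (siegG hF e hfr.ee) with hZdef
  have hZ : q ≤ Nat.card Z := by
    rw [hZdef, Nat.card_congr (Subgroup.subgroupOfEquivOfLe (transvG_le_siegG hF hfr.ee)).toEquiv]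
    exact card_transvG hF he0 hfr.ee
  have hQ := card_siegG hF hfr
  have hq1 : 1 ≤ q := by
    rcases Nat.eq_zero_or_pos q with h0 | h0
    · rw [h0] at hF
      have := Fintype.card_pos (α := F)
      omega
    · exact h0
  intro χ hχ
  have h1 := heis_gen (P := siegG hF e hfr.ee) (X := X) (π.comp (Subgroup.subtype _)) hyp0 (by
    intro x hx y hy hx1 hy1
    rw [Subgroup.mem_subgroupOf] at hx hy
    obtain ⟨μ, hμ, hxμ⟩ := mem_transvG.1 hx
    obtain ⟨ν, hν, hyν⟩ := mem_transvG.1 hy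
    have hμ0 : μ ≠ 0 := fun h0 => hx1 (Subtype.ext (by rw [hxμ, transv_eq_one hF hfr.ee hμ h0]; rfl))
    have hν0 : ν ≠ 0 := fun h0 => hy1 (Subtype.ext (by rw [hyν, transv_eq_one hF hfr.ee hν h0]; rfl))
    have h2 := transv_isConj hF hn he0 hfr.ee hμ hν hμ0 hν0
    rw [← hxμ, ← hyν] at h2
    exact MonoidHom.map_isConj π h2) ⟨⟨t, transvG_le_siegG hF hfr.ee htT⟩, htT, hπt⟩ χ hχ
  set z := Nat.card Z with hzdef
  set D := Cfsg.charDegree (χ : X → ℂ) with hD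
  have h2 : (q - 1) ^ 2 * z ≤ (z - 1) ^ 2 * q := mono_aux hq1 hZ
  have h3 : z * ((q - 1) * q ^ (n - 2)) ^ 2 ≤ z * D ^ 2 := by
    calc z * ((q - 1) * q ^ (n - 2)) ^ 2 = ((q - 1) ^ 2 * z) * (q ^ (n - 2)) ^ 2 := by ring
      _ ≤ ((z - 1) ^ 2 * q) * (q ^ (n - 2)) ^ 2 := Nat.mul_le_mul_right _ h2
      _ = (z - 1) ^ 2 * ((q ^ 2) ^ (n - 2) * q) := by rw [← pow_mul, ← pow_mul, mul_comm 2 (n - 2)]; ring
      _ ≤ (z - 1) ^ 2 * Nat.card (siegG hF e hfr.ee) := Nat.mul_le_mul_left _ hQ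
      _ ≤ z * D ^ 2 := h1
  have hz0 : 0 < z := Nat.card_pos
  exact (Nat.pow_le_pow_iff_left two_ne_zero).1 (Nat.le_of_mul_le_mul_left h3 hz0)

end Cfsg.Agent.H597.PsuDeg
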