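import Cfsg.Agent.H404.Avg.Good
import Cfsg.Agent.H597.PsuDeg
import Cfsg.Agent.H183.OutPSU
import Cfsg.Agent.S0280

/-!
# `Good p (PSU_n(q))`, `n ≥ 4` (S4831, task 1391)
-/

set_option autoImplicit false

namespace Cfsg.Agent.H597.PsuGood

open Cfsg Cfsg.Agent.H404.Avg

universe u

theorem OutIdx.mono {S : Type u} [Group S] {c d : ℕ} (h : OutIdx S c) (hcd : c ≤ d) : OutIdx S d := by
  obtain ⟨g, hg⟩ := h
  exact ⟨g, hg.trans hcd⟩

/-- A cyclic quotient of `Out S` with kernel of order `c`. -/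
theorem outIdx_of_ker {S : Type u} [Group S] [Finite S] {m : ℕ} [NeZero m] (φ : Cfsg.Out S →* Multiplicative (ZMod m))
    (hφ : Function.Surjective φ) : OutIdx S (Nat.card φ.ker) := by
  classical
  have : Finite (MulAut S) := Finite.of_injective (fun f : MulAut S => (f : S → S)) DFunLike.coe_injective
  obtain ⟨x, hx⟩ := hφ (Multiplicative.ofAdd 1)
  obtain ⟨g, rfl⟩ := QuotientGroup.mk_surjective x
  refine ⟨g, ?_⟩
  set mk : MulAut S →* Cfsg.Out S := QuotientGroup.mk' (Cfsg.Inn S) with hmk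
  have h1 : ((MulAut.conj : S →* MulAut S).range ⊔ Subgroup.zpowers g).index =
      (Subgroup.zpowers (mk g)).index := by
    have h2 : (MulAut.conj : S →* MulAut S).range ⊔ Subgroup.zpowers g =
        (Subgroup.zpowers (mk g)).comap mk := by
      rw [← MonoidHom.map_zpowers, Subgroup.comap_map_eq, sup_comm, hmk, QuotientGroup.ker_mk']
    rw [h2, Subgroup.index_comap_of_surjective _ (QuotientGroup.mk'_surjective _)]
  rw [h1]
  -- `zpowers ḡ ⊔ ker φ = ⊤`
  have h3 : Nat.card (Cfsg.Out S) = Nat.card φ.ker * m := by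
    have h4 := Subgroup.card_mul_index φ.ker
    rw [Subgroup.index_ker, MonoidHom.range_eq_top.2 hφ, Subgroup.card_top] at h4
    rw [← h4]
    congr 1
    show Nat.card (ZMod m) = m
    exact Nat.card_zmod m
  have h5 : m ∣ Nat.card (Subgroup.zpowers (mk g)) := by
    rw [Nat.card_zpowers]
    have h6 : orderOf (Multiplicative.ofAdd (1 : ZMod m)) = m := by
      rw [orderOf_ofAdd_eq_addOrderOf, ZMod.addOrderOf_one]
    have h7 : orderOf (φ (mk g)) ∣ orderOf (mk g) := orderOf_map_dvd φ (mk g)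
    have h8 : φ (mk g) = Multiplicative.ofAdd 1 := hx
    rwa [h8, h6] at h7
  have h9 := Subgroup.card_mul_index (Subgroup.zpowers (mk g))
  rw [h3] at h9
  have hm : 0 < m := Nat.pos_of_ne_zero (NeZero.ne m)
  have h10 : m ≤ Nat.card (Subgroup.zpowers (mk g)) := Nat.le_of_dvd Nat.card_pos h5
  have h11 : m * (Subgroup.zpowers (mk g)).index ≤ m * Nat.card φ.ker := by
    calc m * (Subgroup.zpowers (mk g)).index ≤ Nat.card (Subgroup.zpowers (mk g)) * (Subgroup.zpowers (mk g)).index :=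
          Nat.mul_le_mul_right _ h10
      _ = Nat.card φ.ker * m := h9
      _ = m * Nat.card φ.ker := mul_comm _ _
  exact Nat.le_of_mul_le_mul_left h11 hm



/-- target inequality for small `p` -/
theorem small_le {q n d p : ℕ} (hq : 3 ≤ q) (hn : 4 ≤ n) (hd : d ≤ q + 1) (hp : p ≤ q + 1) :
    (d + 1) * p ≤ 2 * ((q - 1) * q ^ (n - 2)) := by
  have h1 : (d + 1) * p ≤ (q + 2) * (q + 1) := Nat.mul_le_mul (by omega) hp
  have h2 : q ^ 2 ≤ q ^ (n - 2) := Nat.pow_le_pow_right (by omega) (by omega)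
  obtain ⟨a, rfl⟩ : ∃ a, q = a + 3 := ⟨q - 3, by omega⟩
  have h3 : a + 3 - 1 = a + 2 := by omega
  rw [h3]
  have h4 : (a + 2) * (a + 3) ^ 2 ≤ (a + 2) * (a + 3) ^ (n - 2) := Nat.mul_le_mul_left _ h2
  nlinarith

/-- odd exponents below `n` -/
theorem odd_le {q n d p m : ℕ} (hq : 3 ≤ q) (hn : 4 ≤ n) (hd : d ≤ q + 1) (hm : Odd m) (hmn : m + 1 ≤ n) (hp : p.Prime)
    (h : p ∣ q ^ m + 1) : (d + 1) * p ≤ 2 * ((q - 1) * q ^ (n - 2)) := by
  obtain ⟨M, hM⟩ : q + 1 ∣ q ^ m + 1 := by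
    simpa using Odd.nat_add_dvd_pow_add_pow q 1 hm
  rw [hM, hp.dvd_mul] at h
  rcases h with h | h
  · exact small_le hq hn hd (Nat.le_of_dvd (by omega) h)
  · have hM0 : 0 < M := by
      rcases Nat.eq_zero_or_pos M with h0 | h0
      · rw [h0] at hM
        omega
      · exact h0
    have h1 : p ≤ M := Nat.le_of_dvd hM0 h
    have h2 : (q + 1) * p ≤ q ^ m + 1 := hM ▸ Nat.mul_le_mul_left _ h1
    have h3 : q ^ m ≤ q ^ (n - 1) := Nat.pow_le_pow_right (by omega) (by omega)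
    have h4 : q ^ (n - 1) = q * q ^ (n - 2) := by
      rw [← pow_succ']
      congr 1
      omega
    have h5 : q ^ 2 ≤ q ^ (n - 2) := Nat.pow_le_pow_right (by omega) (by omega)
    set t := q ^ (n - 2)
    have h6 : (q + 1) * p ≤ q * t + 1 := by omega
    have h7 : (d + 1) * p ≤ (q + 2) * p := Nat.mul_le_mul_right _ (by omega)
    refine h7.trans ?_
    -- multiply by q + 1
    refine Nat.le_of_mul_le_mul_left ?_ (show 0 < q + 1 by omega)
    have h8 : (q + 1) * ((q + 2) * p) ≤ (q + 2) * (q * t + 1) := by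
      calc (q + 1) * ((q + 2) * p) = (q + 2) * ((q + 1) * p) := by ring
        _ ≤ _ := Nat.mul_le_mul_left _ h6
    refine h8.trans ?_
    clear_value t
    obtain ⟨a, rfl⟩ : ∃ a, q = a + 3 := ⟨q - 3, by omega⟩
    have h9 : a + 3 - 1 = a + 2 := by omega
    rw [h9]
    nlinarith [Nat.zero_le (a * t), Nat.zero_le (a * a * t)]

/-- even exponents -/
theorem even_le {q n d p m : ℕ} (hq : 3 ≤ q) (hn : 4 ≤ n) (hnq : ¬ (n = 4 ∧ q ≤ 4)) (hd : d ≤ q + 1) (hm1 : 1 ≤ m)
    (hmn : 2 * m ≤ n) (hp : p.Prime) (h : p ∣ q ^ (2 * m) - 1) : (d + 1) * p ≤ 2 * ((q - 1) * q ^ (n - 2)) := by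
  have h1 : q ^ (2 * m) - 1 = (q ^ m + 1) * (q ^ m - 1) := by
    rw [mul_comm 2 m, pow_mul]
    have := Nat.sq_sub_sq (q ^ m) 1
    rw [one_pow] at this
    exact this
  have hqm : q ≤ q ^ m := Nat.le_self_pow (by omega) q
  have h2 : p ≤ q ^ m + 1 := by
    rw [h1, hp.dvd_mul] at h
    rcases h with h | h
    · exact Nat.le_of_dvd (by omega) h
    · exact (Nat.le_of_dvd (by omega) h).trans (by omega)
  by_cases hn4 : n = 4
  · subst hn4
    have hq5 : 5 ≤ q := by omega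
    have h3 : q ^ m ≤ q ^ 2 := Nat.pow_le_pow_right (by omega) (by omega)
    have h4 : (d + 1) * p ≤ (q + 2) * (q ^ 2 + 1) := Nat.mul_le_mul (by omega) (by omega)
    refine h4.trans ?_
    show (q + 2) * (q ^ 2 + 1) ≤ 2 * ((q - 1) * q ^ 2)
    obtain ⟨a, rfl⟩ : ∃ a, q = a + 5 := ⟨q - 5, by omega⟩
    have h5 : a + 5 - 1 = a + 4 := by omega
    rw [h5]
    nlinarith [Nat.zero_le (a * a), Nat.zero_le (a * a * a)]
  · have h3 : q ^ (m + 1) ≤ q ^ (n - 2) := Nat.pow_le_pow_right (by omega) (by omega)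
    have h4 : (d + 1) * p ≤ (q + 2) * (q ^ m + 1) := Nat.mul_le_mul (by omega) h2
    refine h4.trans ?_
    have h5 : 2 * ((q - 1) * q ^ (m + 1)) ≤ 2 * ((q - 1) * q ^ (n - 2)) :=
      Nat.mul_le_mul_left _ (Nat.mul_le_mul_left _ h3)
    refine le_trans ?_ h5
    rw [pow_succ]
    set t := q ^ m
    clear_value t
    obtain ⟨a, rfl⟩ : ∃ a, q = a + 3 := ⟨q - 3, by omega⟩
    have h6 : a + 3 - 1 = a + 2 := by omega
    rw [h6]
    nlinarith [Nat.zero_le (a * t), Nat.zero_le (a * a * t)]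

/-- the top exponent, `n` odd -/
theorem top_le {q n d p : ℕ} (hq : 3 ≤ q) (hn : 4 ≤ n) (hd : d = Nat.gcd n (q + 1)) (hd4 : 4 ≤ d) (ho : Odd n)
    (hp : p.Prime) (h : p ∣ q ^ n + 1) : (d + 1) * p ≤ 2 * ((q - 1) * q ^ (n - 2)) := by
  have hdq : d ∣ q + 1 := hd ▸ Nat.gcd_dvd_right _ _
  have hdn : d ∣ n := hd ▸ Nat.gcd_dvd_left _ _
  have hdle : d ≤ q + 1 := Nat.le_of_dvd (by omega) hdq
  by_cases hnp : n.Prime
  · have hdn' : d = n := ((Nat.dvd_prime hnp).1 hdn).resolve_left (by omega)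
    obtain ⟨M, hM⟩ : q + 1 ∣ q ^ n + 1 := by
      simpa using Odd.nat_add_dvd_pow_add_pow q 1 ho
    rw [hM, hp.dvd_mul] at h
    by_cases hpq : p ∣ q + 1
    · exact small_le hq hn hdle (Nat.le_of_dvd (by omega) hpq)
    have h1 : p ∣ M := h.resolve_left hpq
    have hM0 : 0 < M := by
      rcases Nat.eq_zero_or_pos M with h0 | h0
      · rw [h0] at hM
        omega
      · exact h0
    -- `n ∣ M`
    have h2 : n ∣ M := by
      have h3 : (((q + 1 : ℕ) : ℤ)) * (M : ℤ) = (q : ℤ) ^ n + 1 := by exact_mod_cast hM.symm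
      have h4 : (q : ℤ) ^ n + 1 = ((q : ℤ) + 1) * ∑ i ∈ Finset.range n, (-1) ^ i * (q : ℤ) ^ (n - 1 - i) := by
        have h5 := Commute.geom_sum₂_mul (R := ℤ) (Commute.all (-1 : ℤ) (q : ℤ)) n
        rw [Odd.neg_one_pow ho] at h5
        linear_combination h5
      have h5 : (M : ℤ) = ∑ i ∈ Finset.range n, (-1) ^ i * (q : ℤ) ^ (n - 1 - i) := by
        rw [h4] at h3
        have h6 : ((q : ℤ) + 1) ≠ 0 := by positivity
        push_cast at h3
        exact mul_left_cancel₀ h6 h3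
      have h6 : ((M : ℤ) : ZMod n) = 0 := by
        rw [h5]
        push_cast
        have h7 : (q : ZMod n) = -1 := by
          have h8 : ((q + 1 : ℕ) : ZMod n) = 0 := (ZMod.natCast_eq_zero_iff _ _).2 (hdn' ▸ hdq)
          push_cast at h8
          linear_combination h8
        rw [h7]
        have h8 : ∀ i ∈ Finset.range n, (-1 : ZMod n) ^ i * (-1) ^ (n - 1 - i) = 1 := by
          intro i hi
          rw [Finset.mem_range] at hi
          rw [← pow_add, show i + (n - 1 - i) = n - 1 by omega]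
          obtain ⟨k, hk⟩ := ho
          rw [hk, Nat.add_sub_cancel, pow_mul]
          simp
        rw [Finset.sum_congr rfl h8]
        simp
      rw [Int.cast_natCast, ZMod.natCast_eq_zero_iff] at h6
      exact h6
    have hpn : p ≠ n := fun h3 => hpq (h3 ▸ hdn' ▸ hdq)
    have h3 : n * p ∣ M := Nat.Coprime.mul_dvd_of_dvd_of_dvd ((Nat.coprime_primes hnp hp).2 (Ne.symm hpn)) h2 h1
    have h4 : n * p ≤ M := Nat.le_of_dvd hM0 h3
    have h5 : (q + 1) * (n * p) ≤ q ^ n + 1 := hM ▸ Nat.mul_le_mul_left _ h4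
    have h6 : q ^ n = q * q * q ^ (n - 2) := by
      rw [mul_assoc, ← pow_succ', ← pow_succ']
      congr 1
      omega
    rw [h6] at h5
    have ht : 1 ≤ q ^ (n - 2) := Nat.one_le_pow _ _ (by omega)
    rw [hdn']
    have hn5 : 5 ≤ n := by
      rcases ho with ⟨k, hk⟩
      omega
    have hq4 : 4 ≤ q := by
      have := Nat.le_of_dvd (by omega) hdq
      omega
    set t := q ^ (n - 2)
    clear_value t
    refine Nat.le_of_mul_le_mul_left ?_ (show 0 < (q + 1) * n by positivity)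
    have h7 : (q + 1) * n * ((n + 1) * p) ≤ (n + 1) * (q * q * t + 1) := by
      calc (q + 1) * n * ((n + 1) * p) = (n + 1) * ((q + 1) * (n * p)) := by ring
        _ ≤ _ := Nat.mul_le_mul_left _ h5
    refine h7.trans ?_
    obtain ⟨a, rfl⟩ : ∃ a, q = a + 4 := ⟨q - 4, by omega⟩
    obtain ⟨b, rfl⟩ : ∃ b, n = b + 5 := ⟨n - 5, by omega⟩
    obtain ⟨s, rfl⟩ : ∃ s, t = s + 1 := ⟨t - 1, by omega⟩
    have h8 : a + 4 - 1 = a + 3 := by omega
    rw [h8]
    have hz : (a + 4 + 1) * (b + 5) * (2 * ((a + 3) * (s + 1))) =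
        (b + 5 + 1) * ((a + 4) * (a + 4) * (s + 1) + 1) +
        (a ^ 2 * b * s + a ^ 2 * b + 4 * a ^ 2 * s + 4 * a ^ 2 + 8 * a * b * s + 8 * a * b + 32 * a * s + 32 * a +
          14 * b * s + 13 * b + 54 * s + 48) := by ring
    rw [hz]
    exact Nat.le_add_right _ _
  · -- composite
    set a := n.minFac with ha
    obtain ⟨b, hb⟩ : a ∣ n := Nat.minFac_dvd n
    have hap : a.Prime := Nat.minFac_prime (by omega)
    have hao : Odd a := Odd.of_dvd_nat ho ⟨b, hb⟩
    have hbo : Odd b := Odd.of_dvd_nat ho ⟨a, by rw [hb, mul_comm]⟩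
    have hb1 : b ≠ 1 := by
      rintro rfl
      rw [mul_one] at hb
      exact hnp (hb ▸ hap)
    have ha3 : 3 ≤ a := by
      have := hap.two_le
      rcases hao with ⟨k, hk⟩
      omega
    have hb3 : 3 ≤ b := by
      rcases hbo with ⟨k, hk⟩
      omega
    obtain ⟨M, hM⟩ : q ^ a + 1 ∣ q ^ n + 1 := by
      have := Odd.nat_add_dvd_pow_add_pow (q ^ a) 1 hbo
      rw [one_pow, ← pow_mul, ← hb] at this
      exact this
    have hM0 : 0 < M := by
      rcases Nat.eq_zero_or_pos M with h0 | h0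
      · rw [h0] at hM
        omega
      · exact h0
    have key : p ≤ q ^ (n - 3) := by
      rw [hM, hp.dvd_mul] at h
      rcases h with h | h
      · have h1 : p ≤ q ^ a + 1 := Nat.le_of_dvd (by omega) h
        have h2 : 1 ≤ q ^ a := Nat.one_le_pow _ _ (by omega)
        have h3 : q ^ (a + 1) ≤ q ^ (n - 3) := Nat.pow_le_pow_right (by omega) (by nlinarith [hb, ha3, hb3, Nat.sub_add_cancel (show 3 ≤ n by omega)])
        rw [pow_succ] at h3
        nlinarith
      · have h1 : (q ^ a + 1) * p ≤ q ^ n + 1 := hM ▸ Nat.mul_le_mul_left _ (Nat.le_of_dvd hM0 h)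
        have h2 : q ^ 3 ≤ q ^ a := Nat.pow_le_pow_right (by omega) ha3
        have h3 : q ^ n = q ^ 3 * q ^ (n - 3) := by
          rw [← pow_add]
          congr 1
          omega
        have h4 : (q ^ 3 + 1) * p ≤ (q ^ a + 1) * p := Nat.mul_le_mul_right _ (by omega)
        have h5 : q ^ 3 * p + p ≤ q ^ 3 * q ^ (n - 3) + 1 := by
          rw [← h3]
          calc q ^ 3 * p + p = (q ^ 3 + 1) * p := by ring
            _ ≤ _ := h4.trans h1
        have h6 := hp.one_lt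
        exact Nat.le_of_mul_le_mul_left (show q ^ 3 * p ≤ q ^ 3 * q ^ (n - 3) by omega) (by positivity)
    have h1 : q ^ (n - 2) = q * q ^ (n - 3) := by
      rw [← pow_succ']
      congr 1
      omega
    rw [h1]
    set t := q ^ (n - 3)
    clear_value t
    calc (d + 1) * p ≤ (q + 2) * t := Nat.mul_le_mul (by omega) key
      _ ≤ (2 * ((q - 1) * q)) * t := by
        refine Nat.mul_le_mul_right _ ?_
        obtain ⟨a, rfl⟩ : ∃ a, q = a + 3 := ⟨q - 3, by omega⟩
        have h6 : a + 3 - 1 = a + 2 := by omega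
        rw [h6]
        nlinarith
      _ = _ := by ring


/-- primes dividing `|PSU_n(q)|` -/
theorem prime_le {F : Type*} [Field F] [Fintype F] {n q : ℕ} (hF : Fintype.card F = q ^ 2) (hn : 4 ≤ n) (hq : 3 ≤ q)
    (hnq : ¬ (n = 4 ∧ q ≤ 4)) (hd4 : 4 ≤ Nat.gcd n (q + 1)) {p : ℕ} (hp : p.Prime) (h : p ∣ Nat.card (Cfsg.PSU n F q)) :
    (Nat.gcd n (q + 1) + 1) * p ≤ 2 * ((q - 1) * q ^ (n - 2)) := by
  have hd : Nat.gcd n (q + 1) ≤ q + 1 := Nat.gcd_le_right _ (by omega)
  have h1 := Cfsg.Agent.S0280.result hF n (by omega)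
  have h2 : p ∣ q ^ (n * (n - 1) / 2) * ∏ i ∈ Finset.range n, (if Even i then q ^ (i + 1) + 1 else q ^ (i + 1) - 1) := by
    rw [← h1]
    exact Dvd.dvd.mul_left (Dvd.dvd.mul_left h _) _
  rw [hp.dvd_mul] at h2
  rcases h2 with h2 | h2
  · exact small_le hq hn hd ((Nat.le_of_dvd (by omega) (hp.dvd_of_dvd_pow h2)).trans (by omega))
  · obtain ⟨i, hi, h3⟩ := (Prime.dvd_finsetProd_iff hp.prime _).1 h2
    rw [Finset.mem_range] at hi
    by_cases he : Even i
    · rw [if_pos he] at h3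
      by_cases hin : i + 1 = n
      · rw [hin] at h3
        exact top_le hq hn rfl hd4 (hin ▸ he.add_one) hp h3
      · exact odd_le hq hn hd he.add_one (by omega) hp h3
    · rw [if_neg he] at h3
      rw [Nat.not_even_iff_odd] at he
      obtain ⟨k, hk⟩ := he
      refine even_le hq hn hnq hd (m := k + 1) (by omega) (by omega) hp ?_
      rwa [show 2 * (k + 1) = i + 1 by omega]

/-- **`Good p (PSU_n(q))`, `n ≥ 4`.** -/
theorem good_psu {F : Type u} [Field F] [Fintype F] {n q : ℕ} (hF : Fintype.card F = q ^ 2) (hn : 4 ≤ n)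
    [IsSimpleGroup (Cfsg.PSU n F q)] (hna : ¬ IsMulCommutative (Cfsg.PSU n F q)) {p : ℕ} (hp : p.Prime) (_h5 : 5 ≤ p)
    (hd : p ∣ Nat.card (Cfsg.PSU n F q))
    (hIM : ∃ χ : IrrCharacter (Cfsg.PSU n F q), p ∣ charDegree (χ : Cfsg.PSU n F q → ℂ))
    (hOL : OutLin (Cfsg.PSU n F q)) : Good p (Cfsg.PSU n F q) := by
  classical
  obtain ⟨r, _, k, hr, hk⟩ := FiniteField.card' F
  have : Fact r.Prime := ⟨hr⟩
  obtain ⟨f, -, hf⟩ : ∃ f ≤ (k : ℕ), q = r ^ f := (Nat.dvd_prime_pow hr).1 ⟨q, by rw [← hk, hF, sq]⟩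
  have hq2 : 2 ≤ q := by
    have := Fintype.one_lt_card (α := F)
    rw [hF] at this
    by_contra hcon
    push Not at hcon
    interval_cases q <;> simp at this
  have hf1 : 1 ≤ f := by
    rcases Nat.eq_zero_or_pos f with h0 | h0
    · rw [h0, pow_zero] at hf
      omega
    · exact h0
  have : NeZero (2 * f) := ⟨by omega⟩
  obtain ⟨φ, hφ, -, hφc⟩ := Cfsg.Agent.H183.OutPSU.out_psu hf1 hf hF (by omega) (by omega : ¬ (n = 3 ∧ q = 2))
  have hidx := outIdx_of_ker φ hφ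
  rw [hφc] at hidx
  by_cases hd3 : Nat.gcd n (q + 1) ≤ 3
  · exact good_of_im hna hp hIM hOL (Or.inl (OutIdx.mono hidx hd3))
  push Not at hd3
  have hq3 : 3 ≤ q := by
    have := Nat.gcd_le_right n (show 0 < q + 1 by omega)
    omega
  by_cases hnq : n = 4 ∧ q ≤ 4
  · obtain ⟨rfl, hq4⟩ := hnq
    have hq' : q = 3 := by
      rcases Nat.lt_or_ge q 4 with h | h
      · omega
      · obtain rfl : q = 4 := by omega
        exact absurd hd3 (by decide)
    subst hq'
    have hf' : f = 1 := by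
      have h1 : Nat.Prime (r ^ f) := hf ▸ Nat.prime_three
      exact (Nat.Prime.eq_one_of_pow h1)
    refine good_of_im hna hp hIM hOL (Or.inr ?_)
    have h4 := Subgroup.card_mul_index φ.ker
    rw [Subgroup.index_ker, MonoidHom.range_eq_top.2 hφ, Subgroup.card_top, hφc] at h4
    rw [← h4, hf']
    have h5 : Nat.card (Multiplicative (ZMod (2 * 1))) = 2 := Nat.card_zmod 2
    rw [h5]
    decide
  · obtain ⟨α, hα⟩ := hIM
    have hα1 : charDegree (α : Cfsg.PSU n F q → ℂ) ≠ 1 := by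
      intro h1
      rw [h1] at hα
      exact hp.one_lt.not_ge (Nat.le_of_dvd one_pos hα)
    have h1 := Cfsg.Agent.H597.PsuDeg.md_psu hF (by omega) (MulEquiv.refl (Cfsg.PSU n F q)) α hα1
    refine good_of_idx hna α hα hidx ?_
    exact (prime_le hF hn hq3 hnq hd3 hp hd).trans (Nat.mul_le_mul_left _ h1)

end Cfsg.Agent.H597.PsuGood
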