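import Mathlib

/-!
# A configuration with `G / Y` of order `p²` and `Y` abelian

`Y ≤ H ≤ G` normal subgroups, `|G : H| = |H : Y| = p`, `Y` abelian and every `G`-class of an element
of `Y` is an `H`-class. Then `G` has an abelian normal subgroup of index `p`.
-/

set_option autoImplicit false

namespace Cfsg.Agent.H597.PPart

open Subgroup

variable {G : Type*} [Group G]

/-- `B = A ⟨x⟩` when `A` is normal and `|B : A|` is prime. -/
theorem exists_mul_zpow [Finite G] {p : ℕ} (hp : p.Prime) (A B : Subgroup G) [A.Normal]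
    (h : A.relIndex B = p) {x : G} (hx : x ∈ B) (hxA : x ∉ A) {b : G} (hb : b ∈ B) :
    ∃ a ∈ A, ∃ i : ℤ, b = a * x ^ i := by
  have := Fact.mk hp
  have h1 : Nat.card (B ⧸ A.subgroupOf B) = p := by rw [← index_eq_card]; exact h
  have h2 : (QuotientGroup.mk ⟨x, hx⟩ : B ⧸ A.subgroupOf B) ≠ 1 :=
    fun h => hxA ((QuotientGroup.eq_one_iff (N := A.subgroupOf B) _).1 h)
  have h3 := mem_zpowers_of_prime_card h1 h2 (g' := (QuotientGroup.mk ⟨b, hb⟩ : B ⧸ A.subgroupOf B))
  obtain ⟨i, hi⟩ := mem_zpowers_iff.1 h3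
  refine ⟨b * (x ^ i)⁻¹, ?_, i, by group⟩
  have h4 : (QuotientGroup.mk ((⟨b, hb⟩ : B) * ((⟨x, hx⟩ : B) ^ i)⁻¹) : B ⧸ A.subgroupOf B) = 1 := by
    rw [QuotientGroup.mk_mul, QuotientGroup.mk_inv, QuotientGroup.mk_zpow, hi, mul_inv_cancel]
  exact (QuotientGroup.eq_one_iff (N := A.subgroupOf B) _).1 h4

/-- The configuration. -/
structure Conf (p : ℕ) (H Y : Subgroup G) : Prop where
  prime : p.Prime
  hHn : H.Normal
  hYn : Y.Normal
  hH : H.index = p
  hY : Y.relIndex H = p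
  hYH : Y ≤ H
  hab : ∀ a ∈ Y, ∀ b ∈ Y, a * b = b * a
  hZ : center G ≤ Y
  hconj : ∀ y ∈ Y, ∀ g : G, ∃ k ∈ H, g * y * g⁻¹ = k * y * k⁻¹

variable {p : ℕ} {H Y : Subgroup G}

theorem Conf.top (h : Conf p H Y) [Finite G] {x : G} (hx : x ∉ H) (g : G) :
    ∃ k ∈ H, ∃ i : ℤ, g = k * x ^ i := by
  have := h.hHn
  exact exists_mul_zpow h.prime H ⊤ (by rw [relIndex_top_right]; exact h.hH) (mem_top x) hx
    (mem_top g)

/-- (F2) -/
theorem Conf.mem_Y (h : Conf p H Y) [Finite G] {y : G} (hy : y ∈ Y) (hyZ : y ∉ center G) {k : G}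
    (hk : k ∈ H) (hc : Commute k y) : k ∈ Y := by
  have := h.hYn
  by_contra hkY
  apply hyZ
  have hcH : ∀ k' ∈ H, Commute k' y := by
    intro k' hk'
    obtain ⟨w, hw, i, rfl⟩ := exists_mul_zpow h.prime Y H h.hY hk hkY hk'
    exact (show Commute w y from h.hab w hw y hy).mul_left (hc.zpow_left i)
  rw [Subgroup.mem_center_iff]
  intro g
  obtain ⟨k', hk', hk''⟩ := h.hconj y hy g
  rw [(hcH k' hk').eq, mul_inv_cancel_right] at hk''
  calc g * y = (g * y * g⁻¹) * g := by group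
    _ = y * g := by rw [hk'']

/-- (F1) -/
theorem Conf.exists_comm (h : Conf p H Y) {y : G} (hy : y ∈ Y) (g : G) :
    ∃ k ∈ H, Commute (k⁻¹ * g) y := by
  obtain ⟨k, hk, hk'⟩ := h.hconj y hy g
  refine ⟨k, hk, ?_⟩
  show k⁻¹ * g * y = y * (k⁻¹ * g)
  calc k⁻¹ * g * y = k⁻¹ * (g * y * g⁻¹) * g := by group
    _ = y * (k⁻¹ * g) := by rw [hk']; group

theorem Conf.exists_notMem (h : Conf p H Y) {y : G} (hy : y ∈ Y) : ∃ x, x ∉ H ∧ Commute x y := by
  obtain ⟨g, hg⟩ : ∃ g, g ∉ H := by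
    by_contra hcon
    push Not at hcon
    have : H = ⊤ := eq_top_iff.2 fun x _ => hcon x
    have h1 := h.hH
    rw [this, index_top] at h1
    exact h.prime.one_lt.ne h1
  obtain ⟨k, hk, hk'⟩ := h.exists_comm hy g
  refine ⟨k⁻¹ * g, fun hc => hg ?_, hk'⟩
  have := mul_mem hk hc
  rwa [mul_inv_cancel_left] at this

/-- (F3) -/
theorem Conf.commute_of (h : Conf p H Y) [Finite G] {y y' : G} (hy : y ∈ Y) (hyZ : y ∉ center G)
    (hy' : y' ∈ Y) {x : G} (hx : x ∉ H) (hxy : Commute x y) (hxy' : Commute x y') {g : G}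
    (hg : Commute g y) : Commute g y' := by
  obtain ⟨k, hk, i, rfl⟩ := h.top hx g
  have h1 : Commute k y := by
    have h2 := hg.mul_left (hxy.zpow_left (-i))
    rwa [zpow_neg, mul_inv_cancel_right] at h2
  have h2 := h.mem_Y hy hyZ hk h1
  exact (show Commute k y' from h.hab k h2 y' hy').mul_left (hxy'.zpow_left i)

/-- (F4) -/
theorem Conf.commute_conj (h : Conf p H Y) [Finite G] {y : G} (hy : y ∈ Y) {c : G}
    (hc : Commute c y) (g : G) : Commute (g * c * g⁻¹) y := by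
  have := h.hYn
  have := Fact.mk h.prime
  have h1 : Nat.card (G ⧸ Y) = p ^ 2 := by
    rw [← index_eq_card, ← relIndex_mul_index h.hYH, h.hY, h.hH, sq]
  have h2 := IsPGroup.commutative_of_card_eq_prime_sq h1 (QuotientGroup.mk g : G ⧸ Y)
    (QuotientGroup.mk c)
  have h3 : g * c * g⁻¹ * c⁻¹ ∈ Y := by
    rw [← QuotientGroup.eq_one_iff]
    have : g * c * g⁻¹ * c⁻¹ = (g * c) * (c * g)⁻¹ := by group
    rw [this, QuotientGroup.mk_mul, QuotientGroup.mk_inv, QuotientGroup.mk_mul,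
      QuotientGroup.mk_mul, h2, mul_inv_cancel]
  have h4 : g * c * g⁻¹ = (g * c * g⁻¹ * c⁻¹) * c := by group
  rw [h4]
  exact (show Commute _ y from h.hab _ h3 y hy).mul_left hc

/-- `a` and `b` commute with a common element outside `H`. -/
def R (H : Subgroup G) (a b : G) : Prop := ∃ x, x ∉ H ∧ Commute x a ∧ Commute x b

/-- (F5) -/
theorem Conf.mem_center (h : Conf p H Y) [Finite G] {a b w : G} (ha : a ∈ Y)
    (hb : b ∈ Y) (hR : ¬ R H a b) (hw : w ∈ Y)
    (h1 : ∀ c, Commute c a → Commute c w) (h2 : ∀ c, Commute c b → Commute c w) :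
    w ∈ center G := by
  by_contra hwZ
  obtain ⟨x, hx, hxa⟩ := h.exists_notMem ha
  obtain ⟨x', hx', hxb⟩ := h.exists_notMem hb
  exact hR ⟨x', hx', h.commute_of hw hwZ ha hx (h1 x hxa) hxa (h2 x' hxb), hxb⟩

/-- (F6)–(F8) -/
theorem Conf.pow_mem_center (h : Conf p H Y) [Finite G] {a b : G} (ha : a ∈ Y)
    (hb : b ∈ Y) (hR : ¬ R H a b) (hR' : ¬ R H (a * b) b) :
    b ^ p ∈ center G := by
  have hYn := h.hYn
  have hHn := h.hHn
  obtain ⟨u, hu, huab⟩ := h.exists_notMem (mul_mem ha hb)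
  have hδ : ∀ y ∈ Y, u * y * u⁻¹ * y⁻¹ ∈ Y := fun y hy =>
    mul_mem (hYn.conj_mem y hy u) (inv_mem hy)
  have hδc : ∀ y ∈ Y, ∀ c, Commute c y → Commute c (u * y * u⁻¹ * y⁻¹) := by
    intro y hy c hc
    refine Commute.mul_right ?_ hc.inv_right
    have h1 := h.commute_conj hy hc u⁻¹
    rw [inv_inv] at h1
    show c * (u * y * u⁻¹) = u * y * u⁻¹ * c
    calc c * (u * y * u⁻¹) = u * ((u⁻¹ * c * u) * y) * u⁻¹ := by group
      _ = u * (y * (u⁻¹ * c * u)) * u⁻¹ := by rw [h1.eq]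
      _ = u * y * u⁻¹ * c := by group
  have hprod : (u * a * u⁻¹ * a⁻¹) * (u * b * u⁻¹ * b⁻¹) = 1 := by
    have h1 : u * (a * b) * u⁻¹ * (a * b)⁻¹ = 1 := by rw [huab.eq]; group
    have h2 : Commute a⁻¹ (u * b * u⁻¹ * b⁻¹) := h.hab _ (inv_mem ha) _ (hδ b hb)
    calc (u * a * u⁻¹ * a⁻¹) * (u * b * u⁻¹ * b⁻¹)
        = u * a * u⁻¹ * (a⁻¹ * (u * b * u⁻¹ * b⁻¹)) := by group
      _ = u * a * u⁻¹ * ((u * b * u⁻¹ * b⁻¹) * a⁻¹) := by rw [h2.eq]
      _ = u * (a * b) * u⁻¹ * (a * b)⁻¹ := by group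
      _ = 1 := h1
  have hbZ' : u * b * u⁻¹ * b⁻¹ ∈ center G := by
    apply h.mem_center ha hb hR (hδ b hb) _ (hδc b hb)
    intro c hc
    have h1 := (hδc a ha c hc).inv_right
    rwa [inv_eq_of_mul_eq_one_right hprod] at h1
  obtain ⟨v, hv, hvb⟩ := h.exists_notMem hb
  obtain ⟨k, hk, i, hki⟩ := h.top hv u
  have hkb : k * b * k⁻¹ * b⁻¹ ∈ center G := by
    have h1 : k = u * v ^ (-i) := by rw [hki]; group
    have h2 : k * b * k⁻¹ * b⁻¹ = u * b * u⁻¹ * b⁻¹ := by
      rw [h1]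
      have h3 := (hvb.zpow_left (-i)).eq
      calc u * v ^ (-i) * b * (u * v ^ (-i))⁻¹ * b⁻¹
          = u * (v ^ (-i) * b) * (v ^ (-i))⁻¹ * u⁻¹ * b⁻¹ := by group
        _ = u * b * u⁻¹ * b⁻¹ := by rw [h3]; group
    rw [h2]; exact hbZ'
  have hkY : k ∉ Y := by
    intro hkY
    apply hR'
    refine ⟨u, hu, huab, ?_⟩
    rw [hki]
    exact (show Commute k b from h.hab k hkY b hb).mul_left (hvb.zpow_left i)
  set z := k * b * k⁻¹ * b⁻¹ with hz
  have hkbz : k * b * k⁻¹ = z * b := by rw [hz]; group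
  have hzc : ∀ g, Commute g z := fun g => Subgroup.mem_center_iff.1 hkb g
  have hpow : ∀ n : ℕ, k ^ n * b * (k ^ n)⁻¹ = z ^ n * b := by
    intro n
    induction n with
    | zero => simp
    | succ n ih =>
      calc k ^ (n + 1) * b * (k ^ (n + 1))⁻¹ = k * (k ^ n * b * (k ^ n)⁻¹) * k⁻¹ := by
            rw [pow_succ' k n]; group
        _ = k * (z ^ n * b) * k⁻¹ := by rw [ih]
        _ = z ^ n * (k * b * k⁻¹) := by
            rw [← mul_assoc k, ((hzc k).pow_right n).eq]; group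
        _ = z ^ (n + 1) * b := by rw [hkbz, pow_succ]; group
  have hkp : k ^ p ∈ Y := by
    have h1 : (QuotientGroup.mk ⟨k, hk⟩ : H ⧸ Y.subgroupOf H) ^ p = 1 := by
      have h2 : Nat.card (H ⧸ Y.subgroupOf H) = p := by rw [← index_eq_card]; exact h.hY
      rw [← h2]; exact pow_card_eq_one'
    rw [← QuotientGroup.mk_pow] at h1
    exact (QuotientGroup.eq_one_iff (N := Y.subgroupOf H) _).1 h1
  have hzp : z ^ p = 1 := by
    have h1 := hpow p
    have h2 : Commute (k ^ p) b := h.hab _ hkp b hb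
    rw [h2.eq, mul_inv_cancel_right] at h1
    exact (mul_eq_right (b := b)).1 h1.symm
  have hkbp : Commute k (b ^ p) := by
    have h1 : k * b ^ p * k⁻¹ = b ^ p := by
      rw [← conj_pow, hkbz, ((hzc b).symm).mul_pow, hzp, one_mul]
    show k * b ^ p = b ^ p * k
    calc k * b ^ p = (k * b ^ p * k⁻¹) * k := by group
      _ = b ^ p * k := by rw [h1]
  rw [Subgroup.mem_center_iff]
  intro g
  obtain ⟨k', hk', j, rfl⟩ := h.top hv g
  obtain ⟨w, hw, l, rfl⟩ := exists_mul_zpow h.prime Y H h.hY hk hkY hk'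
  have h1 : Commute w (b ^ p) := (show Commute w b from h.hab w hw b hb).pow_right p
  exact ((h1.mul_left (hkbp.zpow_left l)).mul_left ((hvb.pow_right p).zpow_left j)).eq

/-- (F9) -/
theorem Conf.false_of_pow (h : Conf p H Y) [Finite G] {a b : G} (ha : a ∈ Y)
    (hb : b ∈ Y) (hR : ¬ R H a b) (hbp : b ^ p ∈ center G) : False := by
  classical
  have hYn := h.hYn
  obtain ⟨g₀, hg₀, -⟩ := h.exists_notMem ha
  have hex : ∀ y : Y, ∃ k : H, Commute ((k : G)⁻¹ * g₀) (y : G) := by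
    intro y
    obtain ⟨k, hk, hk'⟩ := h.exists_comm y.2 g₀
    exact ⟨⟨k, hk⟩, hk'⟩
  choose κ hκ using hex
  have hnot : ∀ y : Y, ((κ y : G)⁻¹ * g₀) ∉ H := by
    intro y hy
    apply hg₀
    have := mul_mem (κ y).2 hy
    rwa [mul_inv_cancel_left] at this
  -- elements with the same value of `κ` modulo `Y` commute with a common element
  have hsame : ∀ y y' : Y, (QuotientGroup.mk (κ y) : H ⧸ Y.subgroupOf H) = QuotientGroup.mk (κ y') →
      R H (y : G) (y' : G) := by
    intro y y' heq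
    have h0 : (κ y)⁻¹ * κ y' ∈ Y.subgroupOf H := QuotientGroup.eq.1 heq
    have h1 : ((κ y : G)⁻¹ * (κ y' : G)) ∈ Y := h0
    refine ⟨(κ y : G)⁻¹ * g₀, hnot y, hκ y, ?_⟩
    have h2 : (κ y : G)⁻¹ * g₀ = ((κ y : G)⁻¹ * (κ y' : G)) * ((κ y' : G)⁻¹ * g₀) := by group
    rw [h2]
    exact (show Commute _ (y' : G) from h.hab _ h1 y' y'.2).mul_left (hκ y')
  let F : Option (Fin p) → Y := fun o => match o with
    | none => ⟨b, hb⟩
    | some i => ⟨a * b ^ (i : ℕ), mul_mem ha (pow_mem hb _)⟩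
  have hcard : Nat.card (H ⧸ Y.subgroupOf H) = p := by rw [← index_eq_card]; exact h.hY
  have hnoinj : ¬ Function.Injective (fun o => (QuotientGroup.mk (κ (F o)) : H ⧸ Y.subgroupOf H)) := by
    intro hinj
    have := Nat.card_le_card_of_injective _ hinj
    rw [hcard, Nat.card_eq_fintype_card, Fintype.card_option, Fintype.card_fin] at this
    omega
  have hfin : ∀ (x : G) (i j : ℕ), i < j → j < p → Commute x (a * b ^ i) → Commute x (a * b ^ j) →
      Commute x a ∧ Commute x b := by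
    intro x i j hij hj h1 h2
    have h3 : Commute x (b ^ (j - i)) := by
      have h4 := h1.inv_right.mul_right h2
      have h5 : (a * b ^ i)⁻¹ * (a * b ^ j) = b ^ (j - i) := by
        rw [mul_inv_rev, mul_assoc, inv_mul_cancel_left, pow_sub b hij.le]
        exact (Commute.pow_pow_self b j i).inv_right.symm.eq
      rwa [h5] at h4
    have h4 : Commute x (b ^ p) := Subgroup.mem_center_iff.1 hbp x
    have h5 : Nat.gcd (j - i) p = 1 := by
      rw [← Nat.coprime_iff_gcd_eq_one, Nat.coprime_comm]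
      exact (h.prime.coprime_iff_not_dvd).2 fun hd => by
        have := Nat.le_of_dvd (by omega) hd
        omega
    have h6 : Commute x b := by
      have h7 : b = (b ^ (j - i)) ^ (Nat.gcdA (j - i) p) * (b ^ p) ^ (Nat.gcdB (j - i) p) := by
        rw [← zpow_natCast, ← zpow_natCast b p, ← zpow_mul, ← zpow_mul, ← zpow_add,
          ← Nat.gcd_eq_gcd_ab, h5]
        simp
      rw [h7]
      exact (h3.zpow_right _).mul_right (h4.zpow_right _)
    refine ⟨?_, h6⟩
    have h7 := h1.mul_right (h6.pow_right i).inv_right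
    rwa [mul_inv_cancel_right] at h7
  apply hnoinj
  intro o o' heq
  by_contra hne
  obtain ⟨x, hx, hx1, hx2⟩ := hsame (F o) (F o') heq
  apply hR
  match o, o' with
  | none, none => exact absurd rfl hne
  | none, some i =>
    have h1 : Commute x b := hx1
    have h2 : Commute x (a * b ^ (i : ℕ)) := hx2
    refine ⟨x, hx, ?_, h1⟩
    have h7 := h2.mul_right (h1.pow_right i).inv_right
    rwa [mul_inv_cancel_right] at h7
  | some i, none =>
    have h1 : Commute x b := hx2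
    have h2 : Commute x (a * b ^ (i : ℕ)) := hx1
    refine ⟨x, hx, ?_, h1⟩
    have h7 := h2.mul_right (h1.pow_right i).inv_right
    rwa [mul_inv_cancel_right] at h7
  | some i, some j =>
    have hij : (i : ℕ) ≠ j := fun h => hne (by rw [Fin.ext h])
    rcases lt_or_gt_of_ne hij with h1 | h1
    · obtain ⟨h2, h3⟩ := hfin x i j h1 j.2 hx1 hx2
      exact ⟨x, hx, h2, h3⟩
    · obtain ⟨h2, h3⟩ := hfin x j i h1 i.2 hx2 hx1
      exact ⟨x, hx, h2, h3⟩

/-- In the configuration there is an abelian normal subgroup of index `p`. -/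
theorem Conf.exists_abelian (h : Conf p H Y) [Finite G] :
    ∃ A : Subgroup G, A.Normal ∧ (∀ a ∈ A, ∀ b ∈ A, a * b = b * a) ∧ A.index = p := by
  classical
  by_contra hno
  have hYn := h.hYn
  have hHn := h.hHn
  -- `Y` is not central
  have h1 : ∃ a ∈ Y, a ∉ center G := by
    by_contra hcon
    push Not at hcon
    apply hno
    refine ⟨H, hHn, ?_, h.hH⟩
    have hne : ¬ H ≤ Y := by
      intro hle
      have := h.hY
      rw [relIndex_eq_one.2 hle] at this
      exact h.prime.one_lt.ne this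
    obtain ⟨k, hk, hkY⟩ := SetLike.not_le_iff_exists.1 hne
    intro x hx y hy
    obtain ⟨w, hw, i, rfl⟩ := exists_mul_zpow h.prime Y H h.hY hk hkY hx
    obtain ⟨w', hw', j, rfl⟩ := exists_mul_zpow h.prime Y H h.hY hk hkY hy
    have e1 : ∀ g, Commute g w := fun g => Subgroup.mem_center_iff.1 (hcon w hw) g
    have e2 : ∀ g, Commute g w' := fun g => Subgroup.mem_center_iff.1 (hcon w' hw') g
    have e3 : Commute (k ^ i) (k ^ j) := Commute.zpow_zpow_self k i j
    exact (((e2 w).mul_right (e1 _).symm).mul_left ((e2 _).mul_right e3)).eq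
  obtain ⟨a, ha, haZ⟩ := h1
  -- some `b` with a different centraliser
  have h2 : ∃ b ∈ Y, b ∉ center G ∧ ¬ R H a b := by
    by_contra hcon
    push Not at hcon
    apply hno
    obtain ⟨x, hx, hxa⟩ := h.exists_notMem ha
    have hcen : ∀ c, Commute c a → ∀ b ∈ Y, Commute c b := by
      intro c hc b hb
      by_cases hbZ : b ∈ center G
      · exact Subgroup.mem_center_iff.1 hbZ c
      · obtain ⟨x', hx', h3, h4⟩ := hcon b hb hbZ
        exact h.commute_of ha haZ hb hx' h3 h4 hc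
    have hmem : ∀ c, c ∈ centralizer ({a} : Set G) ↔ Commute c a := by
      intro c
      rw [mem_centralizer_singleton_iff]
      exact Iff.rfl
    have hform : ∀ c, Commute c a → ∃ w ∈ Y, ∃ i : ℤ, c = w * x ^ i := by
      intro c hc
      obtain ⟨k, hk, i, rfl⟩ := h.top hx c
      refine ⟨k, ?_, i, rfl⟩
      apply h.mem_Y ha haZ hk
      have h2 := hc.mul_left (hxa.zpow_left (-i))
      rwa [zpow_neg, mul_inv_cancel_right] at h2
    have hCn : (centralizer ({a} : Set G)).Normal := by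
      constructor
      intro c hc g
      rw [hmem] at hc ⊢
      exact h.commute_conj ha hc g
    refine ⟨centralizer ({a} : Set G), hCn, ?_, ?_⟩
    · intro c hc d hd
      rw [hmem] at hc hd
      obtain ⟨w, hw, i, rfl⟩ := hform c hc
      obtain ⟨w', hw', j, rfl⟩ := hform d hd
      have e1 : Commute (x ^ i) w' := (hcen x hxa w' hw').zpow_left i
      have e2 : Commute (x ^ j) w := (hcen x hxa w hw).zpow_left j
      have e3 : Commute (x ^ i) (x ^ j) := Commute.zpow_zpow_self x i j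
      have e4 : Commute w w' := h.hab w hw w' hw'
      exact ((e4.mul_right e2.symm).mul_left (e1.mul_right e3)).eq
    · have e1 : H ⊔ centralizer ({a} : Set G) = ⊤ := by
        rw [eq_top_iff]
        intro g _
        obtain ⟨k, hk, i, rfl⟩ := h.top hx g
        exact mul_mem (mem_sup_left hk) (mem_sup_right (zpow_mem ((hmem x).2 hxa) i))
      have e2 := relIndex_sup_right (H := H) (K := centralizer ({a} : Set G))
      rw [e1, relIndex_top_right] at e2
      rw [e2, ← inf_relIndex_right, ← h.hY]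
      congr 1
      apply le_antisymm
      · rintro c ⟨hc1, hc2⟩
        exact h.mem_Y ha haZ hc2 ((hmem c).1 hc1)
      · intro c hc
        exact ⟨(hmem c).2 (h.hab c hc a ha), h.hYH hc⟩
  obtain ⟨b, hb, -, hR⟩ := h2
  by_cases hR1 : R H (a * b) b
  · have hR2 : ¬ R H (b * a) a := by
      rintro ⟨x', hx', h3, h4⟩
      obtain ⟨x, hx, h5, h6⟩ := hR1
      apply hR
      refine ⟨x', hx', h4, ?_⟩
      have hab : a * b = b * a := h.hab a ha b hb
      rw [← hab] at h3
      have h7 := h4.inv_right.mul_right h3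
      rwa [inv_mul_cancel_left] at h7
    have hR' : ¬ R H b a := fun ⟨x, hx, h3, h4⟩ => hR ⟨x, hx, h4, h3⟩
    exact h.false_of_pow hb ha hR' (h.pow_mem_center hb ha hR' hR2)
  · exact h.false_of_pow ha hb hR (h.pow_mem_center ha hb hR hR1)

end Cfsg.Agent.H597.PPart
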