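import Cfsg.Agent.H597.SYPsu
import Cfsg.Agent.H301.SY.Rep

/-!
# The row `PSU_n(q)`, `n ≥ 3`, of S3846 (task 1515)
-/

set_option autoImplicit false
set_option linter.unusedSectionVars false

namespace Cfsg.Agent.H597.SYPsu

open Matrix Subgroup Module Cfsg Cfsg.Agent.H459.Rad Cfsg.Agent.H459.Iface Cfsg.Agent.H301.SY
open Cfsg.Agent.LieClassical.HermBasic Cfsg.Agent.LieClassical.HermSiegel
open Cfsg.Agent.ClassicalGeometry.PSUAutBasic Cfsg.Agent.ClassicalGeometry.HermOrtho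
open Cfsg.Agent.H880.Cl

/-- **Row `PSU_n(q)`, `n ≥ 3`, of S3846.** -/
theorem crow_psu (hh : Cfsg.Agent.H301.SY.HH) {K : Type*} [Group K] [Finite K] [IsSimpleGroup K] {F : Type} [Field F]
    [Fintype F] {n q r p : ℕ} [Fact r.Prime] [Fact p.Prime] [CharP F r] (hF : Fintype.card F = q ^ 2) (hn : 3 ≤ n)
    (e : Nonempty (K ≃* Cfsg.PSU n F q)) (hp : 5 ≤ p) (hpr : p ≠ r) : Cfsg.Agent.H301.SY.CRow r p K := by
  obtain ⟨e⟩ := e
  refine CRow.congr e (crow_of_m0 hF hn hp hpr fun x hx hcyc hfix hnp => ?_)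
  refine m0_of_rep hh (pr n F q) pr_surjective ?_ (toEnd n F q : Representation F (SU n F q) (Fin n → F))
    toEnd_injective hpr (by rw [Module.finrank_fin_fun]; exact hnp) hcyc hx hfix
  intro z hz
  exact (QuotientGroup.eq_one_iff _).1 (MonoidHom.mem_ker.1 hz)

end Cfsg.Agent.H597.SYPsu
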