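import Cfsg.Agent.H870.IMFiTwentyThree
import Cfsg.Agent.H387.VO.Main
import Cfsg.Agent.H710.VanCount
import Cfsg.Agent.KFacts.FiTTh.Has

/-!
# S4987, the sporadic row `Fi₂₃`, `p = 5` (helper597, for helper620)

* `exists_elt` : `C(x) / ⟨x⟩ ≅ S_n`, `x` of prime order `p`: for `σ ∈ S_n` of order `m` prime to `p` there is an element
  `w` of order `p m` with `|C(w)| ≤ p |C(σ)|`;
* `two_fi23_five` : the row. The elements have orders 30 and 35, their centralizers too, and `Fi₂₃` has at least 50 classes.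
-/

set_option autoImplicit false

namespace Cfsg.Agent.H597.Fi23Five

open Subgroup Cfsg Equiv

/-- The centre of a symmetric group (copy of `H805.MSym.center_perm`). -/
theorem center_perm {n : ℕ} (hn : 3 ≤ n) : Subgroup.center (Equiv.Perm (Fin n)) = ⊥ := by
  rw [eq_bot_iff]
  intro σ hσ
  rw [Subgroup.mem_center_iff] at hσ
  rw [Subgroup.mem_bot]
  have key : ∀ i j : Fin n, i ≠ j → Equiv.swap (σ i) (σ j) = Equiv.swap i j := by
    intro i j _
    rw [Equiv.swap_apply_apply, ← hσ, mul_assoc, mul_inv_cancel, mul_one]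
  ext i
  have hcard : Fintype.card (Fin n) = n := Fintype.card_fin n
  obtain ⟨j, hj, k, hk, hjk⟩ : ∃ j, j ≠ i ∧ ∃ k, k ≠ i ∧ j ≠ k := by
    have h1 : 1 < (Finset.univ.erase i : Finset (Fin n)).card := by
      rw [Finset.card_erase_of_mem (Finset.mem_univ i), Finset.card_univ, hcard]
      omega
    obtain ⟨j, hj, k, hk, hjk⟩ := Finset.one_lt_card.1 h1
    exact ⟨j, (Finset.mem_erase.1 hj).1, k, (Finset.mem_erase.1 hk).1, hjk⟩
  have h3 : ∀ j : Fin n, j ≠ i → σ i = i ∨ σ i = j := by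
    intro j hj
    by_contra hcon
    push Not at hcon
    have h4 := congrArg (fun τ : Equiv.Perm (Fin n) => τ (σ i)) (key i j hj.symm)
    simp only [Equiv.swap_apply_left] at h4
    rw [Equiv.swap_apply_of_ne_of_ne hcon.1 hcon.2] at h4
    exact hj (σ.injective h4)
  rcases h3 j hj with h4 | h4
  · rw [h4]; rfl
  · rcases h3 k hk with h5 | h5
    · rw [h5]; rfl
    · exact absurd (h4.symm.trans h5) hjk

theorem exists_elt {G : Type*} [Group G] [Finite G] {p n m : ℕ} (hn : 3 ≤ n) {x : G} (hx : orderOf x = p)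
    (f : ↥(centralizer ({x} : Set G)) →* Perm (Fin n)) (hf : Function.Surjective f) (hk : Nat.card f.ker = p)
    (σ : Perm (Fin n)) (hσ : orderOf σ = m) (hm : p.Coprime m) :
    ∃ w : G, orderOf w = p * m ∧
      Nat.card (centralizer ({w} : Set G)) ≤ p * Nat.card (centralizer ({σ} : Set (Perm (Fin n)))) := by
  let x' : ↥(centralizer ({x} : Set G)) := ⟨x, mem_centralizer_singleton_iff.2 rfl⟩
  have hxc : ∀ c : ↥(centralizer ({x} : Set G)), c * x' = x' * c := fun c =>
    Subtype.ext (mem_centralizer_singleton_iff.1 c.2)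
  have hx' : orderOf x' = p := by rw [← hx, Subgroup.orderOf_mk]
  have hp0 : p ≠ 0 := by rw [← hx]; exact (orderOf_pos x).ne'
  have hm0 : m ≠ 0 := by rw [← hσ]; exact (orderOf_pos σ).ne'
  have hfx : f x' = 1 := by
    have h1 : f x' ∈ Subgroup.center (Perm (Fin n)) := by
      rw [Subgroup.mem_center_iff]
      intro τ
      obtain ⟨c, rfl⟩ := hf τ
      rw [← map_mul, hxc, map_mul]
    rwa [center_perm hn, Subgroup.mem_bot] at h1
  obtain ⟨c, hc⟩ := hf σ
  obtain ⟨k, hk1, hk2⟩ := Nat.chineseRemainder hm 0 1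
  obtain ⟨l, hl1, hl2⟩ := Nat.chineseRemainder hm 1 0
  -- the `m`-part
  obtain ⟨d, hd⟩ : ∃ d, d = c ^ k := ⟨_, rfl⟩
  have hfd : f d = σ := by
    rw [hd, map_pow, hc]
    have h4 : σ ^ k = σ ^ 1 := pow_eq_pow_iff_modEq.2 (by rw [hσ]; exact hk2)
    rwa [pow_one] at h4
  have hdm : d ^ m = 1 := by
    obtain ⟨j, hj⟩ := (Nat.modEq_zero_iff_dvd).1 hk1
    have h1 : c ^ m ∈ f.ker := by rw [MonoidHom.mem_ker, map_pow, hc, ← hσ, pow_orderOf_eq_one]
    have h2 : (c ^ m) ^ p = 1 := by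
      have h3 : (⟨c ^ m, h1⟩ : f.ker) ^ Nat.card f.ker = 1 := pow_card_eq_one'
      rw [hk] at h3
      exact congrArg Subtype.val h3
    rw [hd, ← pow_mul, hj, show p * j * m = m * p * j by ring, pow_mul, pow_mul, h2, one_pow]
  have hdo : orderOf d = m := by
    apply Nat.dvd_antisymm (orderOf_dvd_of_pow_eq_one hdm)
    rw [← hσ, ← hfd]
    exact orderOf_map_dvd f d
  have hcomm : Commute x' d := (hxc d).symm
  have hwo : orderOf (x' * d) = p * m := by
    rw [hcomm.orderOf_mul_eq_mul_orderOf_of_coprime (by rw [hx', hdo]; exact hm), hx', hdo]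
  have hwx : (x' * d) ^ l = x' := by
    rw [hcomm.mul_pow]
    have h1 : x' ^ l = x' ^ 1 := pow_eq_pow_iff_modEq.2 (by rw [hx']; exact hl1)
    have h2 : d ^ l = d ^ 0 := pow_eq_pow_iff_modEq.2 (by rw [hdo]; exact hl2)
    rw [h1, h2, pow_one, pow_zero, mul_one]
  have hwd : (x' * d) ^ k = d := by
    rw [hcomm.mul_pow]
    have h1 : x' ^ k = x' ^ 0 := pow_eq_pow_iff_modEq.2 (by rw [hx']; exact hk1)
    have h2 : d ^ k = d ^ 1 := pow_eq_pow_iff_modEq.2 (by rw [hdo]; exact hk2)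
    rw [h1, h2, pow_one, pow_zero, one_mul]
  refine ⟨((x' * d : ↥(centralizer ({x} : Set G))) : G), by rw [Subgroup.orderOf_coe, hwo], ?_⟩
  obtain ⟨w, hw⟩ : ∃ w : ↥(centralizer ({x} : Set G)), w = x' * d := ⟨_, rfl⟩
  rw [← hw] at hwx hwd ⊢
  have hHC : centralizer ({(w : G)} : Set G) ≤ centralizer ({x} : Set G) := by
    intro g hg
    rw [mem_centralizer_singleton_iff] at hg ⊢
    have h1 : Commute g ((w : G) ^ l) := (show Commute g (w : G) from hg).pow_right l
    rw [← Subgroup.coe_pow, hwx] at h1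
    exact h1
  let ι : ↥(centralizer ({(w : G)} : Set G)) →* ↥(centralizer ({x} : Set G)) := inclusion hHC
  have hι : Function.Injective ι := inclusion_injective hHC
  let g := f.comp ι
  have h1 : Nat.card ↥(centralizer ({(w : G)} : Set G)) = Nat.card g.ker * Nat.card g.range := by
    rw [← index_ker, card_mul_index]
  rw [h1]
  refine Nat.mul_le_mul ?_ ?_
  · rw [← hk]
    refine Nat.card_le_card_of_injective (fun y : g.ker => (⟨ι y, y.2⟩ : f.ker)) ?_
    intro a b hab
    exact Subtype.ext (hι (congrArg Subtype.val hab))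
  · refine card_le_of_le ?_
    rintro _ ⟨a, rfl⟩
    rw [mem_centralizer_singleton_iff, ← hfd, ← hwd]
    have h2 : Commute (ι a) w := Subtype.ext (mem_centralizer_singleton_iff.1 a.2)
    exact (h2.pow_right k).map f

/-- cycles of length `m` in `S_n` -/
theorem exists_cycle {n m : ℕ} (hm : 2 ≤ m) (hmn : m ≤ n) (hn : n ≤ m + 1) : ∃ σ : Perm (Fin n), orderOf σ = m ∧
    Nat.card (centralizer ({σ} : Set (Perm (Fin n)))) = m := by
  obtain ⟨σ, hσ⟩ := (Equiv.Perm.exists_with_cycleType_iff (Fin n) (m := {m})).2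
    ⟨by simpa using hmn, by simpa using hm⟩
  refine ⟨σ, ?_, ?_⟩
  · rw [← Equiv.Perm.lcm_cycleType, hσ]
    simp
  · rw [Equiv.Perm.nat_card_centralizer, hσ]
    have h1 : n - m = 0 ∨ n - m = 1 := by omega
    rcases h1 with h1 | h1 <;> simp [h1]

/-- **The row `Fi₂₃`, `p = 5`.** -/
theorem two_fi23_five {K : Type*} [Group K] (h : Spor.IsoFi23 K) : H387.VO.TwoVan 5 K := by
  obtain ⟨e⟩ := h
  refine H387.VO.TwoVan.mulEquiv ?_ e.symm
  have hfin : Finite Spor.Fi23 := Nat.finite_of_card_ne_zero (by rw [LThreeFi23.card_G]; norm_num)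
  have : Fact (Nat.Prime 5) := ⟨by norm_num⟩
  obtain ⟨x, hx⟩ := exists_prime_orderOf_dvd_card' (G := Spor.Fi23) 5 (by rw [LThreeFi23.card_G]; norm_num)
  obtain ⟨f, hf, hk⟩ := H870.IMFi23.exists_surj_elt hx
    (H838.Fi23.five_main (zpowers x) (by rw [Nat.card_zpowers, hx]))
  have hin : ∀ α : MulAut Spor.Fi23, α ∈ (MulAut.conj : Spor.Fi23 →* MulAut Spor.Fi23).range := fun α => by
    obtain ⟨g, rfl⟩ := KFacts.FiTTh.Has.inn α
    exact ⟨g, rfl⟩
  obtain ⟨σ, h1, h2⟩ := exists_cycle (n := 7) (m := 6) (by norm_num) (by norm_num) (by norm_num)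
  obtain ⟨τ, h3, h4⟩ := exists_cycle (n := 7) (m := 7) (by norm_num) (by norm_num) (by norm_num)
  obtain ⟨w, h5, h6⟩ := exists_elt (by norm_num) hx f hf hk σ h1 (by norm_num)
  obtain ⟨v, h7, h8⟩ := exists_elt (by norm_num) hx f hf hk τ h3 (by norm_num)
  have h50 := H870.Fi23Fix.fifty_le
  refine H387.VO.TwoVan.of_order (x := w) (y := v) (by rw [h5]; norm_num) (by rw [h7]; norm_num)
    (H710.VanCount.vz_of_card_inner w (by rw [h2] at h6; omega) hin)
    (H710.VanCount.vz_of_card_inner v (by rw [h4] at h8; omega) hin) (by rw [h5, h7]; norm_num)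

end Cfsg.Agent.H597.Fi23Five
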