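import Cfsg.Agent.S2472
import Cfsg.Agent.H150.FarSp
import Cfsg.Agent.H390.Cocl

/-!
# No prime is adjacent to all other primes in `PSp_2n(q)`, `q` odd, `n ≥ 5` (S3588, task L5)
-/

set_option autoImplicit false

namespace Cfsg.Agent.H597.SpHub

open Cfsg Cfsg.Agent.H390 Cfsg.Agent.H390.NonAdj

section main

variable {F : Type} [Field F] [Fintype F] {n : ℕ}

/-- the classes divide the order -/
theorem dvd_card (hn : 3 ≤ n) {r e η : ℕ} (hr : r.Prime) (he : orderOf ((Nat.card F : ℕ) : ZMod r) = e) (h3 : 3 ≤ e)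
    (hη : IsEta e η) (hle : η ≤ n) : r ∣ Nat.card (PSp n F) := by
  have hq : Nat.card F = Fintype.card F := Nat.card_eq_fintype_card
  have hq1 : 1 < Nat.card F := Finite.one_lt_card
  obtain ⟨hr2, hr3, hrq, -, -⟩ := prim_cond hr he h3
  have h1 : r ∣ Nat.card (Matrix.symplecticGroup (Fin n) F) := by
    rw [Cfsg.Agent.S0245.result (F := F) rfl n]
    apply Dvd.dvd.mul_left
    rw [← hq]
    exact dvd_of_eta hq1.le he hη (hη.ne (by omega)) hle
  have := Fact.mk hr
  obtain ⟨y, hy⟩ := exists_prime_orderOf_dvd_card' r h1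
  obtain ⟨x, hx⟩ := Lift.desc_odd _ (fun z hz => Cfsg.Agent.H376.SpEmb.center_pow z hz) (hr.odd_of_ne_two hr2) ⟨y, hy⟩
  rw [← hx]
  exact orderOf_dvd_natCard x

/-- the class of a prime divisor -/
theorem eta_le {w k η : ℕ} (hw : w.Prime) (hwq : ¬ w ∣ Nat.card F)
    (hd : w ∣ Nat.card (PSp n F)) (hk : orderOf ((Nat.card F : ℕ) : ZMod w) = k) (hη : IsEta k η) : η ≤ n := by
  have hq : Nat.card F = Fintype.card F := Nat.card_eq_fintype_card
  have hq1 : 1 < Nat.card F := Finite.one_lt_card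
  have h1 : w ∣ Nat.card (Matrix.symplecticGroup (Fin n) F) :=
    hd.trans (Subgroup.card_quotient_dvd_card (Subgroup.center (Matrix.symplecticGroup (Fin n) F)))
  rw [Cfsg.Agent.S0245.result (F := F) rfl n, ← hq] at h1
  rcases hw.dvd_mul.1 h1 with h1 | h1
  · exact absurd (hw.dvd_of_dvd_pow h1) hwq
  · obtain ⟨i, hi, h2⟩ := (hw.prime.dvd_finsetProd_iff _).1 h1
    rw [Finset.mem_range] at hi
    have h3 : k ∣ 2 * (i + 1) := by
      rw [← hk]
      apply orderOf_dvd_of_pow_eq_one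
      have h4 : ((Nat.card F ^ (2 * (i + 1)) - 1 : ℕ) : ZMod w) = 0 := (ZMod.natCast_eq_zero_iff _ _).2 h2
      rw [Nat.cast_sub (Nat.one_le_pow _ _ (by omega)), Nat.cast_one, Nat.cast_pow, sub_eq_zero] at h4
      exact h4
    rcases hη with ⟨ho, rfl⟩ | ⟨-, hη⟩
    · have h4 : η ∣ i + 1 := (Nat.Coprime.dvd_of_dvd_mul_left (Nat.Coprime.symm (Nat.coprime_two_left.2 ho)) h3)
      have := Nat.le_of_dvd (by omega) h4
      omega
    · rw [← hη] at h3
      have h4 : η ∣ i + 1 := (Nat.mul_dvd_mul_iff_left (by norm_num)).1 h3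
      have := Nat.le_of_dvd (by omega) h4
      omega

/-- **no prime is adjacent to all other primes in `PSp_2n(q)`, `q` odd, `n ≥ 5`** -/
theorem exists_nonadj (hodd : Odd (Fintype.card F)) {n : ℕ} (hn : 5 ≤ n) (w : ℕ) (hw : w.Prime) :
    ∃ z : ℕ, z.Prime ∧ z ≠ w ∧ z ∣ Nat.card (Cfsg.PSp n F) ∧ ∀ x : Cfsg.PSp n F, orderOf x ≠ z * w := by
  have hq : Nat.card F = Fintype.card F := Nat.card_eq_fintype_card
  have hq1 : 1 < Nat.card F := Finite.one_lt_card
  have hq3 : 3 ≤ Nat.card F := by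
    rw [← hq] at hodd
    rcases hodd with ⟨s, hs⟩
    omega
  have hF2 : (2 : F) ≠ 0 := by
    intro h2
    have : CharP F 2 := CharTwo.of_one_ne_zero_of_two_eq_zero one_ne_zero h2
    obtain ⟨f, -, hf⟩ := FiniteField.card F 2
    rw [hf] at hodd
    exact (Nat.not_even_iff_odd.2 hodd) (Nat.even_pow.2 ⟨even_two, f.2.ne'⟩)
  -- the case `w = 2`
  by_cases hw2 : w = 2
  · subst hw2
    obtain ⟨r, hr, hr2, hd, hg⟩ := Cfsg.Agent.H150.psp_far_odd (F := F) hF2 (n := n) (by omega)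
    exact ⟨r, hr, hr2, hd, fun x => by rw [mul_comm]; exact hg x⟩
  -- the prime `z₁`
  obtain ⟨z, hz, hzo⟩ := Cfsg.Agent.Lib.Zsigmondy.exists_prime_orderOf (a := Nat.card F) (n := 2 * n) (by omega) (by omega)
    (by omega) (by omega)
  have hzd : z ∣ Nat.card (PSp n F) := dvd_card (by omega) hz hzo (by omega) (eta_even n) le_rfl
  obtain ⟨hz2, hz3, hzq, -, -⟩ := prim_cond hz hzo (by omega)
  by_cases hwd : w ∣ Nat.card (PSp n F)
  swap
  · refine ⟨z, hz, fun h => hwd (h ▸ hzd), hzd, fun x hx => hwd ?_⟩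
    exact (Dvd.intro_left z rfl).trans (hx ▸ orderOf_dvd_natCard x)
  obtain ⟨p, hp⟩ := CharP.exists F
  have hpp : p.Prime := CharP.char_is_prime F p
  have := Fact.mk hpp
  obtain ⟨f, -, hf⟩ := FiniteField.card F p
  have hpd : ∀ r : ℕ, r.Prime → ¬ r ∣ Nat.card F → r ≠ p := by
    rintro r - h rfl
    apply h
    rw [hq, hf]
    exact dvd_pow_self _ f.2.ne'
  by_cases hwp : w = p
  · subst hwp
    refine ⟨z, hz, hpd z hz hzq, hzd, fun x hx => ?_⟩
    have h1 := (Cfsg.Agent.S2472.result (F := F) w n (by omega) (by omega) z hz hz2 (hpd z hz hzq) hzd (2 * n) n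
      (by rw [← hq]; exact hzo.symm) (eta_even n)).2 (by omega)
    exact h1 ⟨x, hx⟩
  have hwq : ¬ w ∣ Nat.card F := by
    rw [hq, hf]
    intro h
    exact hwp ((Nat.prime_dvd_prime_iff_eq hw hpp).1 (hw.dvd_of_dvd_pow h))
  obtain ⟨k, hk⟩ : ∃ k, orderOf ((Nat.card F : ℕ) : ZMod w) = k := ⟨_, rfl⟩
  have hk1 : 1 ≤ k := by
    have := Fact.mk hw
    rw [← hk, Nat.succ_le_iff, orderOf_pos_iff, isOfFinOrder_iff_pow_eq_one]
    refine ⟨w - 1, by have := hw.two_le; omega, ZMod.pow_card_sub_one_eq_one ?_⟩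
    exact fun h => hwq ((ZMod.natCast_eq_zero_iff _ _).1 h)
  obtain ⟨η, hη⟩ : ∃ η, IsEta k η := by
    rcases Nat.even_or_odd k with ⟨j, hj⟩ | h
    · exact ⟨j, Or.inr ⟨⟨j, hj⟩, by omega⟩⟩
    · exact ⟨k, Or.inl ⟨h, rfl⟩⟩
  have hη1 := hη.ne hk1
  have hηn := eta_le (n := n) hw hwq hwd hk hη
  have hcw : ((w : ℕ) : F) ≠ 0 := natCast_ne_zero hw hwq
  by_cases hrat : ∃ t : ℕ, Odd t ∧ 2 * n = k * t
  swap
  · -- `z₁` does it
    have hne : z ≠ w := by
      rintro rfl
      exact hrat ⟨1, odd_one, by rw [mul_one, ← hk, hzo]⟩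
    exact ⟨z, hz, hne, hzd, psp_nonadj (by omega) (by omega) hz hw hz2 hw2 hne (natCast_ne_zero hz hzq) hcw hzo hk
      (eta_even n) hη hηn (by omega) hrat⟩
  obtain ⟨t, ht, hkt⟩ := hrat
  have hke : Even k := by
    by_contra hke
    rw [Nat.not_even_iff_odd] at hke
    have := hke.mul ht
    rw [← hkt] at this
    exact (Nat.not_even_iff_odd.2 this) (even_two_mul n)
  have hkη : 2 * η = k := by
    rcases hη with ⟨ho, -⟩ | ⟨-, h⟩
    · exact absurd hke (Nat.not_even_iff_odd.2 ho)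
    · exact h
  have hηt : n = η * t := by
    rw [← hkη, mul_assoc] at hkt
    exact Nat.eq_of_mul_eq_mul_left (by norm_num) hkt
  rcases Nat.even_or_odd n with hne | hno
  · -- `n` even : order `2 (n - 1)`
    obtain ⟨y, hy, hyo⟩ := Cfsg.Agent.Lib.Zsigmondy.exists_prime_orderOf (a := Nat.card F) (n := 2 * (n - 1)) (by omega)
      (by omega) (by omega) (by omega)
    have hyd : y ∣ Nat.card (PSp n F) := dvd_card (by omega) hy hyo (by omega) (eta_even (n - 1)) (by omega)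
    obtain ⟨hy2, hy3, hyq, -, -⟩ := prim_cond hy hyo (by omega)
    have hηe : Even η := by
      by_contra h
      rw [Nat.not_even_iff_odd] at h
      have := h.mul ht
      rw [← hηt] at this
      exact (Nat.not_even_iff_odd.2 this) hne
    have hk2 : k ≠ 2 * (n - 1) := by
      intro h
      have h1 : η = n - 1 := by omega
      obtain ⟨j, hj⟩ := hηe
      obtain ⟨i, hi⟩ := hne
      omega
    have hyw : y ≠ w := by
      rintro rfl
      exact hk2 (hk.symm.trans hyo)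
    obtain ⟨s, hs⟩ := ht
    rcases Nat.eq_zero_or_pos s with h0 | h0
    · subst h0
      have hηn' : η = n := by rw [hηt, hs]; ring
      refine ⟨y, hy, hyw, hyd, fun x => ?_⟩
      rw [mul_comm]
      exact psp_nonadj (by omega) (by omega) hw hy hw2 hy2 hyw.symm hcw (natCast_ne_zero hy hyq) hk hyo hη
        (eta_even (n - 1)) (by omega) (by omega) (rat_lt (by omega) (by omega)) x
    · have h3 : 3 * η ≤ n := by
        rw [hηt, mul_comm]
        exact Nat.mul_le_mul_left _ (by omega)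
      have hη2 : 2 ≤ η := by
        obtain ⟨j, hj⟩ := hηe
        omega
      refine ⟨y, hy, hyw, hyd, psp_nonadj (by omega) (by omega) hy hw hy2 hw2 hyw (natCast_ne_zero hy hyq) hcw hyo hk
        (eta_even (n - 1)) hη (by omega) (by omega) ?_⟩
      rintro ⟨t', ht', h⟩
      rw [← hkη, mul_assoc] at h
      have h4 : n - 1 = η * t' := Nat.eq_of_mul_eq_mul_left (by norm_num) h
      have h5 : Even (n - 1) := by rw [h4]; exact hηe.mul_right _
      obtain ⟨i, hi⟩ := hne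
      obtain ⟨j, hj⟩ := h5
      omega
  · -- `n` odd : order `n`
    obtain ⟨y, hy, hyo⟩ := Cfsg.Agent.Lib.Zsigmondy.exists_prime_orderOf (a := Nat.card F) (n := n) (by omega)
      (by omega) (by omega) (by omega)
    have hηn' : IsEta n n := Or.inl ⟨hno, rfl⟩
    have hyd : y ∣ Nat.card (PSp n F) := dvd_card (by omega) hy hyo (by omega) hηn' le_rfl
    obtain ⟨hy2, hy3, hyq, -, -⟩ := prim_cond hy hyo (by omega)
    have hyw : y ≠ w := by
      rintro rfl
      rw [← hyo, hk] at hno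
      exact (Nat.not_even_iff_odd.2 hno) hke
    refine ⟨y, hy, hyw, hyd, psp_nonadj (by omega) (by omega) hy hw hy2 hw2 hyw (natCast_ne_zero hy hyq) hcw hyo hk
      hηn' hη hηn (by omega) ?_⟩
    rintro ⟨t', ht', h⟩
    rw [h] at hno
    exact (Nat.not_even_iff_odd.2 hno) (hke.mul_right _)

end main

end Cfsg.Agent.H597.SpHub
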