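import Cfsg.Agent.Schreier.ClassPSL
import Cfsg.Agent.StdL2.FGal

/-!
# The field part of an automorphism of `PSL₂(F)` (helper597, for S4898)

* `fp` : the homomorphism `Aut(PSL₂(F)) → Aut(F)`;
* `exists_form` : `α = lift (cj A * fld (fp α))`;
* `exists_inner` : `lift (cj A)` is inner if `det A` is a square;
* `exists_frob` : the automorphisms of `F` are `a ↦ a ^ p ^ i`, `i < f`.
-/

set_option autoImplicit false
set_option linter.unusedSectionVars false

namespace Cfsg.Agent.H597.L2Aut

open Matrix
open Cfsg.Agent.ClassicalGeometry.AutPSL.Root Cfsg.Agent.ClassicalGeometry.AutPSL.Auto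
  Cfsg.Agent.ClassicalGeometry.AutPSL.Main
open Cfsg.Agent.Schreier.ClassPSL (fld_mul_cj)

section Frob

/-- Every automorphism of a finite field is a small power of the Frobenius automorphism. -/
theorem exists_frob {F : Type*} [Field F] [Fintype F] {p f : ℕ} [Fact p.Prime] [CharP F p]
    (hF : Fintype.card F = p ^ f) (σ : F ≃+* F) : ∃ i : ℕ, i < f ∧ ∀ a, σ a = a ^ p ^ i := by
  let _ : Algebra (ZMod p) F := ZMod.algebra F p
  have hfin : Module.finrank (ZMod p) F = f := by
    have h1 := Module.card_eq_pow_finrank (K := ZMod p) (V := F)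
    rw [ZMod.card, hF] at h1
    exact (Nat.pow_right_injective (Fact.out : p.Prime).two_le h1).symm
  have hcomm : ∀ r : ZMod p, σ (algebraMap (ZMod p) F r) = algebraMap (ZMod p) F r := by
    intro r
    obtain ⟨n, rfl⟩ := ZMod.natCast_zmod_surjective r
    rw [map_natCast, map_natCast]
  obtain ⟨i, hi⟩ := (FiniteField.bijective_frobeniusAlgEquivOfAlgebraic_pow (ZMod p) F).2
    (AlgEquiv.ofRingEquiv (f := σ) hcomm)
  refine ⟨i, hfin ▸ i.2, fun a => ?_⟩
  have h1 := DFunLike.congr_fun hi a
  have h3 : (AlgEquiv.ofRingEquiv (f := σ) hcomm) a = σ a := rfl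
  rw [← h3, ← h1]
  have h5 : ∀ j : ℕ, ((FiniteField.frobeniusAlgEquivOfAlgebraic (ZMod p) F) ^ j) a = a ^ p ^ j := by
    intro j
    induction j with
    | zero => simp
    | succ j ih =>
      rw [pow_succ', AlgEquiv.mul_apply, ih, FiniteField.coe_frobeniusAlgEquivOfAlgebraic]
      simp only [ZMod.card]
      rw [← pow_mul, pow_succ]
  exact h5 i

theorem card_ringEquiv_le {F : Type*} [Field F] [Fintype F] {p f : ℕ} [Fact p.Prime] [CharP F p]
    (hF : Fintype.card F = p ^ f) : Nat.card (F ≃+* F) ≤ f := by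
  classical
  choose i hi h using exists_frob hF
  have hinj : Function.Injective (fun σ : F ≃+* F => (⟨i σ, hi σ⟩ : Fin f)) := by
    intro σ τ hστ
    have h1 : i σ = i τ := congrArg Fin.val hστ
    ext a
    rw [h σ a, h τ a, h1]
  have := Nat.card_le_card_of_injective _ hinj
  rwa [Nat.card_eq_fintype_card (α := Fin f), Fintype.card_fin] at this

theorem isCyclic_ringEquiv (F : Type*) [Field F] [Finite F] : IsCyclic (F ≃+* F) := by
  obtain ⟨p, hp⟩ := CharP.exists F
  have hpp : Fact p.Prime := ⟨CharP.char_is_prime F p⟩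
  let _ : Algebra (ZMod p) F := ZMod.algebra F p
  let φ : (F ≃ₐ[ZMod p] F) →* (F ≃+* F) :=
    { toFun := fun σ => σ.toRingEquiv
      map_one' := rfl
      map_mul' := fun _ _ => rfl }
  have hφ : Function.Surjective φ := by
    intro σ
    refine ⟨AlgEquiv.ofRingEquiv (f := σ) ?_, ?_⟩
    · intro x
      have : (σ : F →+* F).comp (algebraMap (ZMod p) F) = algebraMap (ZMod p) F :=
        Subsingleton.elim _ _
      exact RingHom.congr_fun this x
    · ext x
      rfl
  exact isCyclic_of_surjective φ hφ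

end Frob

section Aut

variable {F : Type*} [Field F] [Fintype F]

local notation "PSL" => Matrix.ProjectiveSpecialLinearGroup (Fin 2) F
local notation "SL" => Matrix.SpecialLinearGroup (Fin 2) F

theorem sigma_unique {A B : GL (Fin 2) F} {σ τ : F ≃+* F}
    (h : (lift (cj A * fld σ) : MulAut PSL) = lift (cj B * fld τ)) : σ = τ := by
  have h1 : (lift (cj (B⁻¹ * A) * fld σ) : MulAut PSL) = lift (fld τ) := by
    rw [map_mul cj, map_inv, mul_assoc, map_mul, h, ← map_mul, ← mul_assoc, inv_mul_cancel,
      one_mul]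
  exact (injective_aux h1).2

theorem surj (α : MulAut PSL) : ∃ (A : GL (Fin 2) F) (σ : F ≃+* F), α = lift (cj A * fld σ) := by
  obtain ⟨p, hp⟩ := CharP.exists F
  have hpp : Fact p.Prime := ⟨CharP.char_is_prime F p⟩
  exact surj_two p α

/-- The field part of an automorphism of `PSL₂(F)`. -/
noncomputable def fp : MulAut PSL →* (F ≃+* F) where
  toFun α := (surj α).choose_spec.choose
  map_one' := by
    have h := (surj (1 : MulAut PSL)).choose_spec.choose_spec
    symm
    apply sigma_unique (A := 1) (B := (surj (1 : MulAut PSL)).choose)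
    rw [← h, map_one, map_one, one_mul, map_one]
  map_mul' α β := by
    have h1 := (surj α).choose_spec.choose_spec
    have h2 := (surj β).choose_spec.choose_spec
    have h3 := (surj (α * β)).choose_spec.choose_spec
    generalize (surj α).choose_spec.choose = σ at *
    generalize (surj β).choose_spec.choose = τ at *
    generalize (surj (α * β)).choose_spec.choose = υ at *
    generalize (surj α).choose = A at *
    generalize (surj β).choose = B at *
    symm
    apply sigma_unique (A := A * Matrix.GeneralLinearGroup.map (σ : F →+* F) B) (B := (surj (α * β)).choose)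
    rw [← h3]
    nth_rw 1 [h1]
    rw [h2, ← map_mul lift, map_mul cj, map_mul fld]
    congr 1
    rw [mul_assoc (cj A), ← mul_assoc (cj _) (fld σ), ← fld_mul_cj]
    simp only [mul_assoc]

theorem exists_form (α : MulAut PSL) : ∃ A : GL (Fin 2) F, α = lift (cj A * fld (fp α)) :=
  ⟨_, (surj α).choose_spec.choose_spec⟩

theorem fp_lift (A : GL (Fin 2) F) (σ : F ≃+* F) : fp (lift (cj A * fld σ) : MulAut PSL) = σ := by
  obtain ⟨B, hB⟩ := exists_form (lift (cj A * fld σ) : MulAut PSL)
  exact (sigma_unique hB).symm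

theorem fp_lift_cj (A : GL (Fin 2) F) : fp (lift (cj A) : MulAut PSL) = 1 := by
  have h := fp_lift A 1
  rwa [map_one, mul_one] at h

/-- Conjugation by an element of `SL`. -/
theorem cj_sl (B : SL) : (cj (B : GL (Fin 2) F) : MulAut SL) = MulAut.conj B := by
  apply MulEquiv.ext
  intro g
  apply Subtype.ext
  rw [coe_cj, MulAut.conj_apply, ← map_inv]
  rfl

theorem lift_conj (B : SL) : (lift (MulAut.conj B) : MulAut PSL) = MulAut.conj (pr B) := by
  apply MulEquiv.ext
  intro x
  obtain ⟨x, rfl⟩ := pr_surjective x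
  rw [lift_pr, MulAut.conj_apply, MulAut.conj_apply]
  rfl

theorem fp_conj (s : PSL) : fp (MulAut.conj s) = 1 := by
  obtain ⟨B, rfl⟩ := pr_surjective s
  rw [← lift_conj, ← cj_sl, fp_lift_cj]

/-- If the determinant is a square then the automorphism is inner. -/
theorem exists_inner (A : GL (Fin 2) F) (h : IsSquare (A : Matrix (Fin 2) (Fin 2) F).det) :
    ∃ B : SL, (cj A : MulAut SL) = MulAut.conj B := by
  obtain ⟨c, hc⟩ := h
  have hdet : (A : Matrix (Fin 2) (Fin 2) F).det ≠ 0 := by
    have := (Matrix.isUnit_iff_isUnit_det (A : Matrix (Fin 2) (Fin 2) F)).1 A.isUnit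
    exact this.ne_zero
  have hc0 : c ≠ 0 := by
    rintro rfl
    rw [mul_zero] at hc
    exact hdet hc
  let B : SL := ⟨c⁻¹ • (A : Matrix (Fin 2) (Fin 2) F), by
    rw [Matrix.det_smul, Fintype.card_fin, hc]
    field_simp⟩
  refine ⟨B, ?_⟩
  have hB : A = (B : GL (Fin 2) F) * (Matrix.GeneralLinearGroup.scalar (Fin 2) (Units.mk0 c hc0)) := by
    apply Units.ext
    rw [Units.val_mul]
    change (A : Matrix (Fin 2) (Fin 2) F) = (c⁻¹ • (A : Matrix (Fin 2) (Fin 2) F)) * Matrix.scalar (Fin 2) c
    rw [Matrix.scalar_apply, ← Matrix.smul_one_eq_diagonal c, Matrix.mul_smul, mul_one, smul_smul,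
      mul_inv_cancel₀ hc0, one_smul]
  have h2 : (cj (Matrix.GeneralLinearGroup.scalar (Fin 2) (Units.mk0 c hc0)) : MulAut SL) = 1 :=
    cj_eq_one_of_scalar (r := c) rfl
  rw [hB, map_mul, h2, mul_one, cj_sl]

end Aut

end Cfsg.Agent.H597.L2Aut
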