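import Cfsg.Agent.H597.OEG4

/-!
# `PΩ⁺₈(q)`: G5 (task 1682 of helper465)

A similitude `b` of `plusForm 4 F` with `b ^ p` scalar, `p` prime, which fixes a totally singular 3-space, fixes a
singular point or a totally singular 4-space.
-/

set_option autoImplicit false

namespace Cfsg.Agent.H597.OEight

open Module QuadraticMap Cfsg.Agent.LieClassical.OrthCore Cfsg.Agent.LieClassical.OrthTrans
  Cfsg.Agent.ClassicalGeometry.OrthAut1 Cfsg.Agent.LieClassical.QuadForms Cfsg.Agent.ClassicalGeometry.TrialityOct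
  Cfsg.Agent.ClassicalGeometry.Triality Cfsg.Agent.H465.OEight

variable {F : Type*} [Field F]

/-- the second 4-space -/
def phiX (F : Type*) [Field F] : (Fin 4 → F) →ₗ[F] V8 F where
  toFun x := Sum.elim ![x 0, x 1, x 2, 0] ![0, 0, 0, x 3]
  map_add' x y := by
    funext i
    rcases i with i | i <;> fin_cases i <;> simp
  map_smul' c x := by
    funext i
    rcases i with i | i <;> fin_cases i <;> simp

theorem phiX_apply (x : Fin 4 → F) : phiX F x = Sum.elim ![x 0, x 1, x 2, 0] ![0, 0, 0, x 3] := rfl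

theorem phiX_inj : Function.Injective (phiX F) := by
  intro x y h
  rw [phiX_apply, phiX_apply] at h
  funext i
  fin_cases i
  · simpa using congrFun h (.inl 0)
  · simpa using congrFun h (.inl 1)
  · simpa using congrFun h (.inl 2)
  · simpa using congrFun h (.inr 3)

theorem ts_X1 : TS (plusForm 4 F) (LinearMap.range (phiX F)) := by
  rintro _ ⟨x, rfl⟩
  rw [plusForm_apply, Fin.sum_univ_four, phiX_apply]
  simp

theorem finrank_X1 : finrank F (LinearMap.range (phiX F)) = 4 := by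
  rw [LinearMap.finrank_range_of_inj phiX_inj, finrank_fin_fun]

theorem mem_X1 {v : V8 F} : v ∈ LinearMap.range (phiX F) ↔
    v (.inl 3) = 0 ∧ v (.inr 0) = 0 ∧ v (.inr 1) = 0 ∧ v (.inr 2) = 0 := by
  constructor
  · rintro ⟨x, rfl⟩
    rw [phiX_apply]
    simp
  · rintro ⟨h0, h1, h2, h3⟩
    refine ⟨![v (.inl 0), v (.inl 1), v (.inl 2), v (.inr 3)], ?_⟩
    rw [phiX_apply]
    funext i
    rcases i with i | i <;> fin_cases i <;> simp [h0, h1, h2, h3]

theorem mem_W0 {v : V8 F} : v ∈ LinearMap.range (phiL F) ↔ v (.inl 3) = 0 ∧ ∀ i, v (.inr i) = 0 := by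
  constructor
  · rintro ⟨x, rfl⟩
    rw [phiL_apply]
    refine ⟨by simp, fun i => ?_⟩
    fin_cases i <;> simp
  · rintro ⟨h0, h1⟩
    refine ⟨![v (.inl 0), v (.inl 1), v (.inl 2)], ?_⟩
    rw [phiL_apply]
    funext i
    rcases i with i | i <;> fin_cases i <;> simp [h0, h1]

theorem Sim.polar {b : V8 F ≃ₗ[F] V8 F} {c : F} (hb : ∀ v, plusForm 4 F (b v) = c * plusForm 4 F v) (u v : V8 F) :
    QuadraticMap.polar (plusForm 4 F) (b u) (b v) = c * QuadraticMap.polar (plusForm 4 F) u v := by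
  unfold QuadraticMap.polar
  rw [← map_add, hb, hb, hb]
  ring

/-- `W₀^⊥` -/
def Pp (v : V8 F) : Prop := v (.inr 0) = 0 ∧ v (.inr 1) = 0 ∧ v (.inr 2) = 0

theorem Pp_iff {v : V8 F} : Pp v ↔ ∀ w ∈ LinearMap.range (phiL F), QuadraticMap.polar (plusForm 4 F) w v = 0 := by
  constructor
  · rintro ⟨h0, h1, h2⟩ _ ⟨x, rfl⟩
    rw [polar_plusForm, Fin.sum_univ_four, phiL_apply]
    simp [h0, h1, h2]
  · intro h
    have h0 := h _ ⟨![1, 0, 0], rfl⟩
    have h1 := h _ ⟨![0, 1, 0], rfl⟩
    have h2 := h _ ⟨![0, 0, 1], rfl⟩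
    rw [polar_plusForm, Fin.sum_univ_four, phiL_apply] at h0 h1 h2
    simp at h0 h1 h2
    exact ⟨h0, h1, h2⟩

/-- the standard case -/
theorem fixed_of_std {b : V8 F ≃ₗ[F] V8 F} (hb : Sim b) {p : ℕ} (hp : p.Prime) {s : F}
    (hbp : ∀ v, (b ^ p) v = s • v) (hbW : im b (LinearMap.range (phiL F)) = LinearMap.range (phiL F)) :
    (∃ u : V8 F, plusForm 4 F u = 0 ∧ u ≠ 0 ∧ im b (Submodule.span F {u}) = Submodule.span F {u}) ∨
    ∃ X, TS (plusForm 4 F) X ∧ finrank F X = 4 ∧ im b X = X := by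
  obtain ⟨c, hc, hQ⟩ := hb
  set W := LinearMap.range (phiL F) with hW
  have hbw : ∀ w ∈ W, b w ∈ W := by
    intro w hw
    rw [← hbW]
    exact ⟨w, hw, rfl⟩
  have hs : s ≠ 0 := by
    rintro rfl
    have h1 := hbp (Pi.single (.inl 0) 1)
    rw [zero_smul] at h1
    have h2 := ((b ^ p).map_eq_zero_iff).1 h1
    have h3 := congrFun h2 (.inl 0)
    simp at h3
  rcases hp.eq_two_or_odd' with rfl | hodd
  · -- `p = 2`
    left
    have hd : finrank F W = 3 := (frame_std (0 : F)).d₁
    let T : W →ₗ[F] W := b.toLinearMap.restrict hbw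
    have hT : ∀ w : W, ((T w : W) : V8 F) = b w := fun _ => rfl
    have hTT : T * T = s • (1 : Module.End F W) := by
      ext1 w
      apply Subtype.ext
      have h1 := hbp (w : V8 F)
      rw [pow_two] at h1
      exact h1
    have hdet : LinearMap.det T * LinearMap.det T = s ^ 3 := by
      rw [← map_mul, hTT, LinearMap.det_smul, map_one, mul_one, hd]
    set t : F := LinearMap.det T / s with ht
    have hts : t * t = s := by
      rw [ht]
      field_simp
      linear_combination hdet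
    have ht0 : t ≠ 0 := by
      intro h
      rw [h, mul_zero] at hts
      exact hs hts.symm
    obtain ⟨w, hw, hw0⟩ : ∃ w ∈ W, w ≠ 0 := by
      refine ⟨phiL F ![1, 0, 0], ⟨_, rfl⟩, ?_⟩
      intro h
      have h1 := congrFun h (.inl 0)
      rw [phiL_apply] at h1
      simp at h1
    have hbb : b (b w) = s • w := by
      have h1 := hbp w
      rw [pow_two] at h1
      exact h1
    by_cases h0 : b w + t • w = 0
    · refine ⟨w, (frame_std (0 : F)).ts₁ w hw, hw0, im_span (β := -t) ?_ hw0⟩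
      rw [neg_smul]
      exact eq_neg_of_add_eq_zero_left h0
    · refine ⟨b w + t • w, (frame_std (0 : F)).ts₁ _ (W.add_mem (hbw w hw) (W.smul_mem _ hw)), h0,
        im_span (β := t) ?_ h0⟩
      rw [map_add, map_smul, hbb, smul_add, smul_smul, hts, add_comm]
  · -- `p` odd
    right
    set e : V8 F := Pi.single (.inl 3) 1 with he
    set f : V8 F := Pi.single (.inr 3) 1 with hf
    have hPe : Pp e := ⟨by simp [he], by simp [he], by simp [he]⟩
    have hPf : Pp f := ⟨by simp [hf], by simp [hf], by simp [hf]⟩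
    have hPb : ∀ v, Pp v → Pp (b v) := by
      intro v hv
      rw [Pp_iff] at hv ⊢
      intro w hw
      obtain ⟨w', hw', rfl⟩ : w ∈ im b W := by rw [hbW]; exact hw
      show QuadraticMap.polar (plusForm 4 F) (b w') (b v) = 0
      rw [Sim.polar hQ, hv w' hw', mul_zero]
    have hQP : ∀ v, Pp v → plusForm 4 F v = v (.inl 3) * v (.inr 3) := by
      rintro v ⟨h0, h1, h2⟩
      rw [plusForm_apply, Fin.sum_univ_four, h0, h1, h2]
      ring
    -- coordinates of `b v`
    have hdec : ∀ v, Pp v → ∃ w ∈ W, v = w + v (.inl 3) • e + v (.inr 3) • f := by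
      rintro v ⟨h0, h1, h2⟩
      refine ⟨v - v (.inl 3) • e - v (.inr 3) • f, mem_W0.2 ⟨by simp [he, hf], fun i => ?_⟩, by abel⟩
      fin_cases i <;> simp [he, hf, h0, h1, h2]
    have hl : ∀ v, Pp v → (b v) (.inl 3) = v (.inl 3) * (b e) (.inl 3) + v (.inr 3) * (b f) (.inl 3) := by
      intro v hv
      obtain ⟨w, hw, h1⟩ := hdec v hv
      have h2 : b v = b w + v (.inl 3) • b e + v (.inr 3) • b f := by
        conv_lhs => rw [h1]
        rw [map_add, map_add, map_smul, map_smul]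
      rw [h2]
      have h3 := (mem_W0.1 (hbw w hw)).1
      simp [h3]
    have hr : ∀ v, Pp v → (b v) (.inr 3) = v (.inl 3) * (b e) (.inr 3) + v (.inr 3) * (b f) (.inr 3) := by
      intro v hv
      obtain ⟨w, hw, h1⟩ := hdec v hv
      have h2 : b v = b w + v (.inl 3) • b e + v (.inr 3) • b f := by
        conv_lhs => rw [h1]
        rw [map_add, map_add, map_smul, map_smul]
      rw [h2]
      have h3 := (mem_W0.1 (hbw w hw)).2 3
      simp [h3]
    have hαβ : (b e) (.inl 3) * (b e) (.inr 3) = 0 := by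
      rw [← hQP _ (hPb e hPe), hQ, hQP e hPe]
      simp [he]
    have hγδ : (b f) (.inl 3) * (b f) (.inr 3) = 0 := by
      rw [← hQP _ (hPb f hPf), hQ, hQP f hPf]
      simp [hf]
    by_cases hβ : (b e) (.inr 3) = 0
    · refine ⟨Xl F, ts_Xl, finrank_Xl, ?_⟩
      refine Submodule.eq_of_le_of_finrank_eq ?_ (LinearEquiv.finrank_map_eq b (Xl F))
      rintro _ ⟨v, hv, rfl⟩
      have hv' := mem_Xl.1 hv
      have hPv : Pp v := ⟨hv' 0, hv' 1, hv' 2⟩
      obtain ⟨h0, h1, h2⟩ := hPb v hPv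
      rw [mem_Xl]
      intro i
      show (b v) (.inr i) = 0
      fin_cases i
      · exact h0
      · exact h1
      · exact h2
      · show (b v) (.inr 3) = 0
        rw [hr v hPv, hv' 3, hβ]
        ring
    by_cases hγ : (b f) (.inl 3) = 0
    · refine ⟨LinearMap.range (phiX F), ts_X1, finrank_X1, ?_⟩
      refine Submodule.eq_of_le_of_finrank_eq ?_ (LinearEquiv.finrank_map_eq b _)
      rintro _ ⟨v, hv, rfl⟩
      obtain ⟨h3, h0, h1, h2⟩ := mem_X1.1 hv
      have hPv : Pp v := ⟨h0, h1, h2⟩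
      obtain ⟨k0, k1, k2⟩ := hPb v hPv
      rw [mem_X1]
      refine ⟨?_, k0, k1, k2⟩
      show (b v) (.inl 3) = 0
      rw [hl v hPv, h3, hγ]
      ring
    exfalso
    have hα : (b e) (.inl 3) = 0 := (mul_eq_zero.1 hαβ).resolve_right hβ
    have hδ : (b f) (.inr 3) = 0 := (mul_eq_zero.1 hγδ).resolve_left hγ
    -- odd powers
    have hev : ∀ k : ℕ, Pp ((b ^ (2 * k)) e) ∧ ((b ^ (2 * k)) e) (.inr 3) = 0 := by
      intro k
      induction k with
      | zero => exact ⟨hPe, by simp [he]⟩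
      | succ k ih =>
        have h1 : (b ^ (2 * (k + 1))) e = b (b ((b ^ (2 * k)) e)) := by
          rw [show 2 * (k + 1) = (2 * k + 1) + 1 by ring, pow_succ', pow_succ']
          rfl
        rw [h1]
        refine ⟨hPb _ (hPb _ ih.1), ?_⟩
        rw [hr _ (hPb _ ih.1), hl _ ih.1, hα, hδ, ih.2]
        ring
    obtain ⟨k, hk⟩ := hodd
    have h1 : (b ^ p) e = b ((b ^ (2 * k)) e) := by
      rw [hk, pow_succ']
      rfl
    have h2 := hl _ (hev k).1
    rw [← h1, hα, (hev k).2, hbp] at h2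
    have h3 : s * 1 = 0 := by
      simpa [he] using h2
    rw [mul_one] at h3
    exact hs h3

theorem im_conj (g b : V8 F ≃ₗ[F] V8 F) (S : Submodule F (V8 F)) : im (g * b * g⁻¹) (im g S) = im g (im b S) := by
  ext v
  constructor
  · rintro ⟨_, ⟨w, hw, rfl⟩, rfl⟩
    refine ⟨b w, ⟨w, hw, rfl⟩, ?_⟩
    show g (b w) = g (b (g.symm (g w)))
    rw [g.symm_apply_apply]
  · rintro ⟨_, ⟨w, hw, rfl⟩, rfl⟩
    refine ⟨g w, ⟨w, hw, rfl⟩, ?_⟩
    show g (b (g.symm (g w))) = g (b w)
    rw [g.symm_apply_apply]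

theorem im_injective (g : V8 F ≃ₗ[F] V8 F) : Function.Injective (im g) :=
  Submodule.map_injective_of_injective g.injective

/-- **G5** -/
theorem fixed_of_three {b : V8 F ≃ₗ[F] V8 F} (hb : Sim b) {p : ℕ} (hp : p.Prime) {s : F}
    (hbp : ∀ v, (b ^ p) v = s • v) {W : Submodule F (V8 F)} (hW : TS (plusForm 4 F) W) (h3 : finrank F W = 3)
    (hbW : im b W = W) :
    (∃ u : V8 F, plusForm 4 F u = 0 ∧ u ≠ 0 ∧ im b (Submodule.span F {u}) = Submodule.span F {u}) ∨
    ∃ X, TS (plusForm 4 F) X ∧ finrank F X = 4 ∧ im b X = X := by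
  set W0 := LinearMap.range (phiL F) with hW0
  have hd : finrank F W0 = 3 := (frame_std (0 : F)).d₁
  have hts : TS (plusForm 4 F) W0 := (frame_std (0 : F)).ts₁
  obtain ⟨g, hgQ, hg⟩ := Cfsg.Agent.ClassicalGeometry.WittQuad.extend (plusForm 4 F)
    (by
      refine ⟨fun x hx => polar_plusForm_nondeg 4 x hx, fun x hx => polar_plusForm_nondeg 4 x fun y => ?_⟩
      have := hx y
      rwa [polarBilin_apply_apply, polar_comm] at this) W W0
    (LinearEquiv.ofFinrankEq W W0 (by rw [h3, hd]))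
    (fun x => by rw [hW x x.2]; exact hts _ (Subtype.mem _))
  have hgW : im g W = W0 := by
    refine Submodule.eq_of_le_of_finrank_eq ?_ ?_
    · rintro _ ⟨w, hw, rfl⟩
      show g w ∈ W0
      rw [hg ⟨w, hw⟩]
      exact Subtype.mem _
    · rw [hd, ← h3]
      exact LinearEquiv.finrank_map_eq g W
  have hgi : ∀ v, plusForm 4 F (g.symm v) = plusForm 4 F v := by
    intro v
    rw [← hgQ (g.symm v), g.apply_symm_apply]
  obtain ⟨c, hc, hQ⟩ := hb
  have hpow : ∀ (k : ℕ) (v : V8 F), ((g * b * g⁻¹) ^ k) v = g ((b ^ k) (g.symm v)) := by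
    intro k
    induction k with
    | zero =>
      intro v
      show v = g (g.symm v)
      rw [g.apply_symm_apply]
    | succ k ih =>
      intro v
      rw [pow_succ, pow_succ]
      show ((g * b * g⁻¹) ^ k) (g (b (g.symm v))) = g ((b ^ k) (b (g.symm v)))
      rw [ih, g.symm_apply_apply]
  have h1 := fixed_of_std (b := g * b * g⁻¹) ⟨c, hc, fun v => by
    show plusForm 4 F (g (b (g.symm v))) = c * plusForm 4 F v
    rw [hgQ, hQ, hgi]⟩ hp (s := s) (fun v => by
      rw [hpow, hbp, map_smul, g.apply_symm_apply]) (by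
      rw [← hW0, ← hgW, im_conj, hbW])
  have hback : ∀ S : Submodule F (V8 F), im g (im g.symm S) = S := by
    intro S
    ext v
    constructor
    · rintro ⟨_, ⟨w, hw, rfl⟩, rfl⟩
      show g (g.symm w) ∈ S
      rwa [g.apply_symm_apply]
    · intro hv
      exact ⟨g.symm v, ⟨v, hv, rfl⟩, g.apply_symm_apply v⟩
  rcases h1 with ⟨u, hu, hu0, h⟩ | ⟨X, hX, h4, h⟩
  · left
    have hspan : im g.symm (Submodule.span F {u}) = Submodule.span F {g.symm u} := by
      show (Submodule.span F {u}).map g.symm.toLinearMap = _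
      rw [Submodule.map_span, Set.image_singleton]
      rfl
    refine ⟨g.symm u, by rw [hgi, hu], fun h0 => hu0 (g.symm.map_eq_zero_iff.1 h0), ?_⟩
    rw [← hspan]
    apply im_injective g
    rw [← im_conj, hback, h]
  · right
    refine ⟨im g.symm X, ?_, ?_, ?_⟩
    · rintro _ ⟨w, hw, rfl⟩
      show plusForm 4 F (g.symm w) = 0
      rw [hgi, hX w hw]
    · exact (LinearEquiv.finrank_map_eq g.symm X).trans h4
    · apply im_injective g
      rw [← im_conj, hback, h]

end Cfsg.Agent.H597.OEight
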