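import Cfsg.Agent.H465.OEBase
import Cfsg.Agent.AutOrth.Final
import Cfsg.Agent.H989.OutOrth.Four

/-!
# Orders: `PΩ⁺₈(q)`, `q = 2, 3, 5`, `r = q² + q + 1`
-/

set_option autoImplicit false

namespace Cfsg.Agent.H597.OECards

open Module QuadraticMap Cfsg.Agent.LieClassical.OrthCore Cfsg.Agent.LieClassical.OrthTrans
  Cfsg.Agent.LieClassical.OrthSimple
  Cfsg.Agent.ClassicalGeometry.OrthAut1 Cfsg.Agent.LieClassical.QuadForms Cfsg.Agent.ClassicalGeometry.TrialityOct
  Cfsg.Agent.ClassicalGeometry.Triality Cfsg.Agent.ClassicalGeometry.OrthSemi Cfsg.Agent.H198.TriAut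
  Cfsg.Agent.H989.OutOrth.Four

variable {F : Type*} [Field F] [Fintype F]

theorem card_Gam_eq : 3 * Nat.card (Gam (plusForm 4 F)) = (Fintype.card F - 1) * Nat.card (MulAut (P8 F)) := by
  have h1 := card_Gam (good4 (F := F))
  have h2 := (Psi (plusForm 4 F)).range.card_mul_index
  rw [index_three] at h2
  rw [h1, Nat.card_units, Nat.card_eq_fintype_card (α := F)]
  change _ = _ * Nat.card (MulAut (P (plusForm 4 F)))
  rw [← h2]
  ring

/-- the isomorphism of `POmega` with `P8` -/
noncomputable def pe8 : Cfsg.POmega F (Cfsg.quadFormPlus 4 F) ≃* P8 F :=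
  Classical.choice (by
    rw [← Cfsg.Agent.LieClassical.OrthForms.coe_plusForm, Cfsg.Agent.AutOrth.Main.plusForm_eq]
    exact ⟨Cfsg.Agent.AutOrth.Main.pe good4⟩)

omit [Fintype F] in
theorem isSimpleGroup_P8 [Finite F] : IsSimpleGroup (P8 F) := by
  have := Fintype.ofFinite F
  exact good_isSimpleGroup good4

theorem card_P8 : Nat.gcd 4 (Fintype.card F ^ 4 - 1) * Nat.card (P8 F) =
    Fintype.card F ^ 12 * (Fintype.card F ^ 4 - 1) * ∏ i ∈ Finset.range 3, (Fintype.card F ^ (2 * (i + 1)) - 1) := by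
  rw [← Nat.card_congr (pe8 (F := F)).toEquiv]
  exact Cfsg.Agent.S0293.result (F := F) rfl 4 le_rfl

theorem card_two (h : Fintype.card F = 2) : Nat.card (P8 F) = 174182400 := by
  have h1 := card_P8 (F := F)
  rw [h, Finset.prod_range_succ, Finset.prod_range_succ, Finset.prod_range_one] at h1
  norm_num at h1
  exact h1

theorem card_three (h : Fintype.card F = 3) : Nat.card (P8 F) = 4952179814400 := by
  have h1 := card_P8 (F := F)
  rw [h, Finset.prod_range_succ, Finset.prod_range_succ, Finset.prod_range_one] at h1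
  norm_num at h1
  omega

theorem card_five (h : Fintype.card F = 5) : Nat.card (P8 F) = 8911539000000000000 := by
  have h1 := card_P8 (F := F)
  rw [h, Finset.prod_range_succ, Finset.prod_range_succ, Finset.prod_range_one] at h1
  norm_num at h1
  omega

theorem card_out_of {p : ℕ} [Fact p.Prime] (h : Fintype.card F = p) :
    Nat.card (Cfsg.Out (P8 F)) = 3 * (if p = 2 then 2 else 8) := by
  have h1 := card_Out4 (F := F) (p := p) (f := 1) le_rfl (by rw [h, pow_one])
  rw [mul_one] at h1
  exact h1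

theorem card_Gam_of {p : ℕ} [Fact p.Prime] (h : Fintype.card F = p) :
    Nat.card (Gam (plusForm 4 F)) = (if p = 2 then 2 else 8) * (p - 1) * Nat.card (P8 F) := by
  have h1 := card_Gam (good4 (F := F))
  have h2 := card_Psi (F := F) (p := p) (f := 1) le_rfl (by rw [h, pow_one])
  rw [mul_one, Nat.card_congr (Cfsg.Agent.AutOrth.Main.pe (good4 (F := F))).toEquiv] at h2
  rw [h1, h2, Nat.card_units, Nat.card_eq_fintype_card (α := F), h]
  change _ * Nat.card (P8 F) * _ = _
  ring

theorem card_Gam_two (h : Fintype.card F = 2) : Nat.card (Gam (plusForm 4 F)) = 348364800 := by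
  have : Fact (Nat.Prime 2) := ⟨Nat.prime_two⟩
  rw [card_Gam_of h, card_two h]
  norm_num

theorem card_Gam_three (h : Fintype.card F = 3) : Nat.card (Gam (plusForm 4 F)) = 16 * 4952179814400 := by
  have : Fact (Nat.Prime 3) := ⟨Nat.prime_three⟩
  rw [card_Gam_of h, card_three h]
  norm_num

theorem card_Gam_five (h : Fintype.card F = 5) : Nat.card (Gam (plusForm 4 F)) = 32 * 8911539000000000000 := by
  have : Fact (Nat.Prime 5) := ⟨Nat.prime_five⟩
  rw [card_Gam_of h, card_five h]
  norm_num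

theorem not_dvd_out (hq : Fintype.card F = 2 ∨ Fintype.card F = 3 ∨ Fintype.card F = 5) :
    ¬ Fintype.card F ^ 2 + Fintype.card F + 1 ∣ Nat.card (Cfsg.Out (P8 F)) := by
  rcases hq with h | h | h
  · have : Fact (Nat.Prime 2) := ⟨Nat.prime_two⟩
    rw [card_out_of h, h]
    norm_num
  · have : Fact (Nat.Prime 3) := ⟨Nat.prime_three⟩
    rw [card_out_of h, h]
    norm_num
  · have : Fact (Nat.Prime 5) := ⟨Nat.prime_five⟩
    rw [card_out_of h, h]
    norm_num

theorem not_sq_card (hq : Fintype.card F = 2 ∨ Fintype.card F = 3 ∨ Fintype.card F = 5) :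
    ¬ (Fintype.card F ^ 2 + Fintype.card F + 1) ^ 2 ∣ Nat.card (P8 F) := by
  rcases hq with h | h | h
  · rw [card_two h, h]; norm_num
  · rw [card_three h, h]; norm_num
  · rw [card_five h, h]; norm_num

theorem dvd_card (hq : Fintype.card F = 2 ∨ Fintype.card F = 3 ∨ Fintype.card F = 5) :
    Fintype.card F ^ 2 + Fintype.card F + 1 ∣ Nat.card (P8 F) := by
  rcases hq with h | h | h
  · rw [card_two h, h]; norm_num
  · rw [card_three h, h]; norm_num
  · rw [card_five h, h]; norm_num

theorem not_sq_Gam (hq : Fintype.card F = 2 ∨ Fintype.card F = 3 ∨ Fintype.card F = 5) :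
    ¬ (Fintype.card F ^ 2 + Fintype.card F + 1) ^ 2 ∣ Nat.card (Gam (plusForm 4 F)) := by
  rcases hq with h | h | h
  · rw [card_Gam_two h, h]; norm_num
  · rw [card_Gam_three h, h]; norm_num
  · rw [card_Gam_five h, h]; norm_num

omit [Field F] in
theorem prime_r (hq : Fintype.card F = 2 ∨ Fintype.card F = 3 ∨ Fintype.card F = 5) :
    (Fintype.card F ^ 2 + Fintype.card F + 1).Prime := by
  rcases hq with h | h | h <;> rw [h] <;> norm_num

theorem arith_two (hq : Fintype.card F = 2) : ∀ t k : ℕ, t.Prime → t ≠ 7 → t ≠ 2 →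
    t ^ k ∣ Nat.card (Gam (plusForm 4 F)) → 7 ∣ t ^ k - 1 → k = 0 := by
  intro t k ht ht7 ht2 hd h7
  rw [card_Gam_two hq] at hd
  by_contra hk
  have h1 : t ∣ 348364800 := (dvd_pow_self t hk).trans hd
  have h2 : (348364800 : ℕ) = 2 ^ 13 * 3 ^ 5 * 5 ^ 2 * 7 := by norm_num
  have h3 : t = 3 ∨ t = 5 := by
    rw [h2] at h1
    rcases ht.dvd_mul.1 h1 with h1 | h1
    · rcases ht.dvd_mul.1 h1 with h1 | h1
      · rcases ht.dvd_mul.1 h1 with h1 | h1
        · exact absurd ((Nat.prime_dvd_prime_iff_eq ht Nat.prime_two).1 (ht.dvd_of_dvd_pow h1)) ht2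
        · exact Or.inl ((Nat.prime_dvd_prime_iff_eq ht Nat.prime_three).1 (ht.dvd_of_dvd_pow h1))
      · exact Or.inr ((Nat.prime_dvd_prime_iff_eq ht Nat.prime_five).1 (ht.dvd_of_dvd_pow h1))
    · exact absurd ((Nat.prime_dvd_prime_iff_eq ht (by norm_num)).1 h1) ht7
  rcases h3 with rfl | rfl
  · have h4 : k < 6 := by
      by_contra h4
      have h5 := (pow_dvd_pow 3 (not_lt.1 h4)).trans hd
      norm_num at h5
    interval_cases k <;> revert h7 hk <;> norm_num
  · have h4 : k < 3 := by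
      by_contra h4
      have h5 := (pow_dvd_pow 5 (not_lt.1 h4)).trans hd
      norm_num at h5
    interval_cases k <;> revert h7 hk <;> norm_num

omit [Fintype F] in
theorem center_P8 [Finite F] : Subgroup.center (P8 F) = ⊥ := by
  have := Fintype.ofFinite F
  have hs : IsSimpleGroup (P8 F) := isSimpleGroup_P8
  have h1 := Cfsg.Agent.H989.OutOrth.Basic.conj_injective (good4 (F := F))
  rw [Subgroup.eq_bot_iff_forall]
  intro x hx
  apply h1
  ext y
  rw [MulAut.conj_apply, map_one, MulAut.one_apply]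
  change x * y * x⁻¹ = y
  rw [← Subgroup.mem_center_iff.1 hx y, mul_inv_cancel_right]

end Cfsg.Agent.H597.OECards
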