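import Cfsg.Agent.S4455
import Cfsg.Agent.H597.Base
import Cfsg.Agent.H597.Norm
import Cfsg.Agent.H597.Degrees
import Cfsg.Agent.H597.Broline
import Cfsg.Agent.H597.IndexP

/-!
# A relative form of Thompson's theorem

Let `N` be a normal subgroup of `G`. If `p` divides the degree of every irreducible character of `G`
whose kernel does not contain `N'`, then `N` has a normal `p`-complement.
-/

set_option autoImplicit false

namespace Cfsg.Agent.H597.RelThompson

open Cfsg
open Cfsg.Agent.Characters.Core Cfsg.Agent.Characters.Clifford Cfsg.Agent.Characters.Linear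
open Cfsg.Agent.CharactersDeep.ExtUnique
open Cfsg.Agent.H597.Base Cfsg.Agent.H597.Norm Cfsg.Agent.H597.Degrees
open Cfsg.Agent.Blocks.Basic (charDegree_of_eq irr_one_eq_charDegree charDegree_pos)
open Subgroup

universe u
variable {G : Type u} [Group G]

/-- An irreducible character with the commutator subgroup in its kernel is linear. -/
theorem charDegree_eq_one [Finite G] {χ : G → ℂ} (hχ : IsIrrCharacter G χ)
    (h : ∀ k ∈ commutator G, χ k = χ 1) : charDegree χ = 1 := by
  classical
  have := Fintype.ofFinite G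
  have h1 := sum_normSq_irr hχ
  rw [Finset.sum_congr rfl (fun z _ => normSq_eq_of_central hχ (z := z) fun g => h _ (by
    have := commutator_mem_commutator (mem_top g) (mem_top z)
    rw [commutator_def]
    simpa [commutatorElement_def] using this)), Finset.sum_const, nsmul_eq_mul, Finset.card_univ,
    ← Nat.card_eq_fintype_card] at h1
  have h2 : Nat.card G * (charDegree χ) ^ 2 = Nat.card G := by exact_mod_cast h1
  have h3 : 0 < Nat.card G := Nat.card_pos
  have h4 : (charDegree χ) ^ 2 = 1 := by nlinarith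
  exact (Nat.pow_eq_one.1 h4).resolve_right (by norm_num)

/-- `O^p(N)` as a subgroup of `G`. -/
def Op (p : ℕ) (N : Subgroup G) : Subgroup G := closure {g : G | g ∈ N ∧ Nat.Coprime (orderOf g) p}

theorem Op_le (p : ℕ) (N : Subgroup G) : Op p N ≤ N := (closure_le N).2 fun _ h => h.1

instance Op_normal (p : ℕ) (N : Subgroup G) [N.Normal] : (Op p N).Normal := by
  constructor
  intro n hn g
  have h : Op p N ≤ (Op p N).comap (MulAut.conj g).toMonoidHom := by
    conv_lhs => unfold Op
    rw [closure_le]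
    rintro x ⟨hx1, hx2⟩
    refine subset_closure ⟨?_, ?_⟩
    · exact Normal.conj_mem inferInstance x hx1 g
    · rwa [show (MulAut.conj g).toMonoidHom x = (MulAut.conj g) x from rfl, MulEquiv.orderOf_eq]
  exact h hn

theorem Op_eq_map (p : ℕ) (N : Subgroup G) : Op p N = (pResidual p N).map N.subtype := by
  rw [Transfer.Residual.pResidual_def, MonoidHom.map_closure]
  unfold Op
  congr 1
  ext x
  constructor
  · rintro ⟨hx, hx'⟩
    exact ⟨⟨x, hx⟩, by rwa [Set.mem_ofPred_eq, orderOf_mk], rfl⟩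
  · rintro ⟨y, hy, rfl⟩
    refine ⟨y.2, ?_⟩
    rwa [Set.mem_ofPred_eq, ← orderOf_coe] at hy

/-- The index of `O^p(N)` in `N` is a power of `p`. -/
theorem relIndex_Op [Finite G] (p : ℕ) [Fact p.Prime] (N : Subgroup G) :
    ∃ k : ℕ, (Op p N).relIndex N = p ^ k := by
  obtain ⟨k, hk⟩ := Transfer.Residual.exists_index_pResidual_eq_pow (G := N) p
  refine ⟨k, ?_⟩
  rw [relIndex, subgroupOf, Op_eq_map, comap_map_eq_self_of_injective N.subtype_injective, hk]

/-- `O^p(O^p(N)) = O^p(N)`. -/
theorem pResidual_Op (p : ℕ) (N : Subgroup G) : pResidual p (Op p N) = ⊤ := by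
  rw [eq_top_iff]
  have h : Op p N ≤ (pResidual p (Op p N)).map (Op p N).subtype := by
    conv_lhs => unfold Op
    rw [closure_le]
    rintro g ⟨hg, hg'⟩
    have hgm : g ∈ Op p N := subset_closure ⟨hg, hg'⟩
    refine ⟨⟨g, hgm⟩, Transfer.Residual.mem_pResidual_of_coprime ?_, rfl⟩
    have h1 : orderOf (⟨g, hgm⟩ : Op p N) = orderOf g := orderOf_mk g hgm
    rw [h1]
    exact hg'
  intro x _
  obtain ⟨y, hy, hyx⟩ := h x.2
  have : y = x := Subtype.ext hyx
  exact this ▸ hy

/-- The determinantal order of a character of a group `K = O^p(K)` is prime to `p`. -/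
theorem detOrder_not_dvd {K : Type*} [Group K] [Finite K] (p : ℕ) [Fact p.Prime]
    (hK : pResidual p K = ⊤) {θ : K → ℂ} (hθ : IsIrrCharacter K θ) : ¬ p ∣ detOrder θ := by
  obtain ⟨δ, hδ⟩ := exists_hom_detChar hθ
  obtain ⟨m, hm, hm'⟩ := S4455.orderOf_hom_coprime p hK δ
  have h1 : detOrder θ ∣ m := by
    show orderOf (detChar θ) ∣ m
    rw [orderOf_dvd_iff_pow_eq_one]
    funext n
    rw [Pi.pow_apply, hδ, Pi.one_apply, ← Units.val_pow_eq_pow_val, hm', Units.val_one]
  exact fun h => hm (h.trans h1)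

/-- The number of homomorphisms `K → ℂˣ` in a subgroup is prime to `p` when `K = O^p(K)`. -/
theorem not_dvd_card_hom {K : Type*} [Group K] [Finite K] (p : ℕ) [hp : Fact p.Prime]
    (hK : pResidual p K = ⊤) (D : Subgroup (K →* ℂˣ)) : ¬ p ∣ Nat.card D := by
  intro h
  have hfin : Finite (K →* ℂˣ) := by
    have := finite_irr (G := K)
    exact Finite.of_equiv _ (linearEquiv K).symm
  obtain ⟨f, hf⟩ := exists_prime_orderOf_dvd_card' p h
  obtain ⟨m, hm, hm'⟩ := S4455.orderOf_hom_coprime p hK (f : K →* ℂˣ)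
  apply hm
  rw [← hf, ← Subgroup.orderOf_coe, orderOf_dvd_iff_pow_eq_one]
  ext k
  rw [MonoidHom.pow_apply, hm']
  rfl

/-- Extension of an invariant character of degree prime to `p` to `T`, `T / K` a `p`-group. -/
theorem exists_extension [Finite G] (p : ℕ) [hp : Fact p.Prime] (K T : Subgroup G) [hKn : K.Normal]
    (hKT : K ≤ T) (hidx : ∃ k, K.relIndex T = p ^ k) (hK : pResidual p K = ⊤) {θ : K → ℂ}
    (hθ : IsIrrCharacter K θ) (hd : ¬ p ∣ charDegree θ)
    (hinv : ∀ g ∈ T, ∀ n : K, θ ⟨g * n * g⁻¹, hKn.conj_mem (n : G) n.2 g⟩ = θ n) :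
    ∃ ξ : T → ℂ, IsIrrCharacter T ξ ∧ ∀ n : K, ξ ⟨n, hKT n.2⟩ = θ n := by
  let e : K.subgroupOf T ≃* K := subgroupOfEquivOfLe hKT
  have hirr : IsIrrCharacter (K.subgroupOf T) (θ ∘ e) := isIrr_comp (e : K.subgroupOf T →* K)
    e.surjective hθ
  have hdeg : charDegree (θ ∘ e) = charDegree θ := by
    rw [Blocks.Basic.charDegree_def, Blocks.Basic.charDegree_def, Function.comp_apply, map_one]
  have hres : pResidual p (K.subgroupOf T) = ⊤ := by
    rw [← Transfer.Residual.map_pResidual_equiv p e.symm, hK, ← MonoidHom.range_eq_map,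
      MonoidHom.range_eq_top]
    exact e.symm.surjective
  obtain ⟨ξ, ⟨h1, h2, -⟩, -⟩ := S0867.result (K.subgroupOf T) (θ ∘ e) hirr (fun g n => by
      exact hinv g g.2 (e n)) (charDegree (θ ∘ e)) (irr_one_eq_charDegree hirr) (by
      obtain ⟨k, hk⟩ := hidx
      rw [show (K.subgroupOf T).index = p ^ k from hk]
      apply Nat.Coprime.pow_left
      apply Nat.Coprime.mul_right
      · exact (hp.out.coprime_iff_not_dvd).2 (detOrder_not_dvd p hres hirr)
      · rw [hdeg]; exact (hp.out.coprime_iff_not_dvd).2 hd)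
  refine ⟨ξ, h1, fun n => ?_⟩
  have := h2 (e.symm n)
  rw [Function.comp_apply, MulEquiv.apply_symm_apply] at this
  rw [← this]
  rfl

/-- An irreducible character of degree prime to `p` over a character of a subgroup of index prime
to `p`. -/
theorem exists_over_not_dvd [Fintype G] (p : ℕ) [hp : Fact p.Prime] (T : Subgroup G) [Fintype T]
    (hT : ¬ p ∣ T.index) {ξ : T → ℂ} (hξ : IsIrrCharacter T ξ) (hd : ¬ p ∣ charDegree ξ) :
    ∃ χ : G → ℂ, IsIrrCharacter G χ ∧ classInner (fun t : T => χ t) ξ ≠ 0 ∧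
      ¬ p ∣ charDegree χ := by
  classical
  have := finite_irr (G := G)
  have := Fintype.ofFinite (IrrCharacter G)
  obtain ⟨c, hc, hc'⟩ := CharDeep.CliffordCorr.exists_nat_coeffs_indFun T (isIrr_isCharacter hξ)
  have h1 := degree_eq_sum hc
  rw [H597.Broline.indFun_apply_one, irr_one_eq_charDegree hξ, ← Nat.cast_mul, Nat.cast_inj] at h1
  by_contra hcon
  push Not at hcon
  have h2 : p ∣ ∑ η : IrrCharacter G, c η * charDegree (η : G → ℂ) := by
    refine Finset.dvd_sum fun η _ => ?_
    by_cases h0 : c η = 0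
    · rw [h0, zero_mul]; exact dvd_zero _
    · refine Dvd.dvd.mul_left (hcon η η.2 ?_) _
      rw [← classInner_conj_symm, hc' η]
      simpa using h0
  rw [← h1] at h2
  rcases hp.out.dvd_mul.1 h2 with h | h
  · exact hT h
  · exact hd h

/-- **Relative form of Thompson's theorem.** -/
theorem card_Op_coprime [Finite G] (p : ℕ) (hp : p.Prime) (N : Subgroup G) [hN : N.Normal]
    (h : ∀ χ : G → ℂ, IsIrrCharacter G χ → (∃ x ∈ ⁅N, N⁆, χ x ≠ χ 1) → p ∣ charDegree χ) :
    (Nat.card (Op p N)).Coprime p := by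
  classical
  have := Fact.mk hp
  have := Fintype.ofFinite G
  set K := Op p N with hKdef
  have hKn : K.Normal := Op_normal p N
  have hKK : pResidual p K = ⊤ := pResidual_Op p N
  have := Fintype.ofFinite K
  have := finite_irr (G := K)
  have := Fintype.ofFinite (IrrCharacter K)
  let P : Sylow p G := default
  set T : Subgroup G := K ⊔ (P : Subgroup G) with hTdef
  have := Fintype.ofFinite T
  have hKT : K ≤ T := le_sup_left
  have hTidx : ¬ p ∣ T.index := fun hd =>
    P.not_dvd_index (hd.trans (index_dvd_of_le le_sup_right))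
  have hrel : ∃ k, K.relIndex T = p ^ k := by
    rw [hTdef, relIndex_sup_left]
    have h1 : K.relIndex (P : Subgroup G) ∣ Nat.card (P : Subgroup G) := relIndex_dvd_card _ _
    obtain ⟨k, hk⟩ := IsPGroup.iff_card.1 P.isPGroup'
    rw [hk] at h1
    obtain ⟨j, -, hj⟩ := (Nat.dvd_prime_pow hp).1 h1
    exact ⟨j, hj⟩
  -- the action
  let act : MulAction G (IrrCharacter K) := S4455.conjAction K
  have hact : ∀ (g : G) (θ : IrrCharacter K), ((g • θ : IrrCharacter K) : K → ℂ) =
    (θ : K → ℂ) ∘ (MulAut.conjNormal g⁻¹ : MulAut K) := fun g θ => rfl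
  -- fixed characters of degree prime to `p` are linear
  have hlin : ∀ θ : IrrCharacter K, (∀ g : (P : Subgroup G), g • θ = θ) →
      ¬ p ∣ charDegree (θ : K → ℂ) → charDegree (θ : K → ℂ) = 1 := by
    intro θ hfix hd
    have hst : T ≤ MulAction.stabilizer G θ := by
      rw [hTdef, sup_le_iff]
      constructor
      · intro x hx
        rw [MulAction.mem_stabilizer_iff]
        apply Subtype.ext
        funext n
        rw [hact, Function.comp_apply]
        have h1 := isIrr_isClassFunction θ.2 n ⟨x, hx⟩⁻¹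
        rw [← h1]
        congr 1
      · intro x hx
        exact hfix ⟨x, hx⟩
    have hinv : ∀ g ∈ T, ∀ n : K, (θ : K → ℂ) ⟨g * n * g⁻¹, hKn.conj_mem (n : G) n.2 g⟩ =
        (θ : K → ℂ) n := by
      intro g hg n
      have h1 : g⁻¹ ∈ MulAction.stabilizer G θ := hst (inv_mem hg)
      rw [MulAction.mem_stabilizer_iff] at h1
      have h2 := congrFun (congrArg Subtype.val h1) n
      rw [hact, inv_inv] at h2
      exact h2
    obtain ⟨ξ, hξ, hξθ⟩ := exists_extension p K T hKT hrel hKK θ.2 hd hinv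
    have hξd : charDegree ξ = charDegree (θ : K → ℂ) := by
      rw [Blocks.Basic.charDegree_def, Blocks.Basic.charDegree_def]
      have := hξθ 1
      rw [← this]
      rfl
    obtain ⟨χ, hχ, hne, hχd⟩ := exists_over_not_dvd p T hTidx hξ (by rw [hξd]; exact hd)
    have hker : ∀ x ∈ ⁅N, N⁆, χ x = χ 1 := by
      intro x hx
      by_contra hne
      exact hχd (h χ hχ ⟨x, hx, hne⟩)
    apply charDegree_eq_one θ.2
    intro k hk
    have hkN : (k : G) ∈ ⁅N, N⁆ := by
      have h1 : (k : G) ∈ ⁅K, K⁆ := (H597.IndexP.mem_commutator_iff K).1 hk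
      exact commutator_mono (Op_le p N) (Op_le p N) h1
    have h1 : ξ ⟨k, hKT k.2⟩ = ξ 1 :=
      ker_of_constituent (isCharacter_restrict T (isIrr_isCharacter hχ)) hξ hne
        (a := ⟨k, hKT k.2⟩) (hker _ hkN)
    have h2 := hξθ k
    have h3 := hξθ 1
    rw [← h2, ← h3, h1]
    rfl
  -- counting
  have hw := H596.sum_modEq_sum_fixed P.isPGroup' (α := IrrCharacter K)
    (fun θ : IrrCharacter K => charDegree (θ : K → ℂ) ^ 2) (fun g θ => by
      have h1 : ((g • θ : IrrCharacter K) : K → ℂ) 1 = (θ : K → ℂ) 1 := by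
        show (θ : K → ℂ) (MulAut.conjNormal (g : G)⁻¹ 1) = _
        rw [map_one]
      show charDegree ((g • θ : IrrCharacter K) : K → ℂ) ^ 2 = _
      rw [charDegree_of_eq (n := charDegree (θ : K → ℂ)) (by rw [h1, irr_one_eq_charDegree θ.2])])
  have hcard : (∑ θ : IrrCharacter K, charDegree (θ : K → ℂ) ^ 2) = Nat.card K := by
    have h1 := CharDeep.PowerDegrees.sum_sq (G := K)
    have h2 : (((∑ θ : IrrCharacter K, charDegree (θ : K → ℂ) ^ 2 : ℕ)) : ℂ) = Nat.card K := by
      rw [← h1]
      push_cast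
      exact Finset.sum_congr rfl fun θ _ => by rw [irr_one_eq_charDegree θ.2]
    exact_mod_cast h2
  rw [hcard] at hw
  let F : Finset (IrrCharacter K) :=
    Finset.univ.filter (fun θ : IrrCharacter K => ∀ g : (P : Subgroup G), g • θ = θ)
  have hw1 : Nat.card K ≡ ∑ θ ∈ F, charDegree (θ : K → ℂ) ^ 2 [MOD p] := by
    convert hw using 2
    ext θ
    simp only [F, Finset.mem_filter]
  have e3 := Finset.sum_filter_add_sum_filter_not F
    (fun θ : IrrCharacter K => ¬ p ∣ charDegree (θ : K → ℂ))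
    (fun θ : IrrCharacter K => charDegree (θ : K → ℂ) ^ 2)
  have e4 : ∑ θ ∈ F.filter (fun θ : IrrCharacter K => ¬ ¬ p ∣ charDegree (θ : K → ℂ)),
      charDegree (θ : K → ℂ) ^ 2 ≡ 0 [MOD p] := by
    rw [Nat.modEq_zero_iff_dvd]
    refine Finset.dvd_sum fun θ hθ => ?_
    rw [Finset.mem_filter, not_not] at hθ
    exact dvd_pow hθ.2 two_ne_zero
  have e5 : ∑ θ ∈ F.filter (fun θ : IrrCharacter K => ¬ p ∣ charDegree (θ : K → ℂ)),
      charDegree (θ : K → ℂ) ^ 2 =
      (F.filter (fun θ : IrrCharacter K => ¬ p ∣ charDegree (θ : K → ℂ))).card := by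
    rw [Finset.card_eq_sum_ones]
    refine Finset.sum_congr rfl fun θ hθ => ?_
    rw [Finset.mem_filter, Finset.mem_filter] at hθ
    rw [hlin θ hθ.1.2 hθ.2, one_pow]
  -- the invariant homomorphisms
  let D : Subgroup (K →* ℂˣ) :=
    { carrier := {f | ∀ g ∈ (P : Subgroup G), f.comp (MulAut.conjNormal g⁻¹ : MulAut K).toMonoidHom = f}
      mul_mem' := fun {a b} ha hb g hg => by
        rw [MonoidHom.mul_comp, ha g hg, hb g hg]
      one_mem' := fun g hg => by rw [MonoidHom.one_comp]
      inv_mem' := fun {a} ha g hg => by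
        ext k
        have := DFunLike.congr_fun (ha g hg) k
        show (((a⁻¹ : K →* ℂˣ) _ : ℂˣ) : ℂ) = _
        rw [MonoidHom.inv_apply, MonoidHom.inv_apply]
        rw [show a ((MulAut.conjNormal g⁻¹ : MulAut K).toMonoidHom k) = a k from this] }
  have hD : (F.filter (fun θ : IrrCharacter K => ¬ p ∣ charDegree (θ : K → ℂ))).card =
      Nat.card D := by
    rw [← Nat.card_eq_finsetCard]
    refine (Nat.card_congr (Equiv.ofBijective
      (fun f : D => (⟨⟨fun k => (f.1 k : ℂ), isIrrCharacter_hom f.1⟩, ?_⟩ :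
        (F.filter (fun θ : IrrCharacter K => ¬ p ∣ charDegree (θ : K → ℂ)) : Finset _)))
      ⟨?_, ?_⟩)).symm
    · rw [Finset.mem_filter, Finset.mem_filter]
      refine ⟨⟨Finset.mem_univ _, fun g => ?_⟩, ?_⟩
      · apply Subtype.ext
        funext k
        have := DFunLike.congr_fun (f.2 g g.2) k
        show ((f.1 ((MulAut.conjNormal (g : G)⁻¹ : MulAut K) k) : ℂˣ) : ℂ) = (f.1 k : ℂ)
        rw [← this]
        rfl
      · have : charDegree (fun k => (f.1 k : ℂ)) = 1 := charDegree_of_eq (by simp)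
        show ¬ p ∣ charDegree (fun k => (f.1 k : ℂ))
        rw [this]; exact hp.not_dvd_one
    · intro f f' hff
      apply Subtype.ext
      ext k
      exact congrFun (congrArg (fun x => ((Subtype.val x : IrrCharacter K) : K → ℂ)) hff) k
    · rintro ⟨θ, hθ⟩
      have hθ' := hθ
      rw [Finset.mem_filter, Finset.mem_filter] at hθ'
      obtain ⟨f, hf⟩ := exists_hom_of_isIrrCharacter θ.2
        (by rw [irr_one_eq_charDegree θ.2, hlin θ hθ'.1.2 hθ'.2, Nat.cast_one])
      refine ⟨⟨f, fun g hg => ?_⟩, ?_⟩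
      · ext k
        have h1 := congrFun (congrArg Subtype.val (hθ'.1.2 ⟨g, hg⟩)) k
        have h2 : (θ : K → ℂ) ((MulAut.conjNormal g⁻¹ : MulAut K) k) = (θ : K → ℂ) k := h1
        rw [hf] at h2
        exact h2
      · apply Subtype.ext
        apply Subtype.ext
        exact hf.symm
  have h5 : Nat.card K ≡ Nat.card D [MOD p] := by
    refine hw1.trans ?_
    rw [← e3, e5, hD]
    have := Nat.ModEq.add_left (Nat.card D) e4
    rwa [add_zero] at this
  rw [Nat.coprime_comm, hp.coprime_iff_not_dvd]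
  intro hdvd
  exact not_dvd_card_hom p hKK D ((h5.dvd_iff dvd_rfl).1 hdvd)

end Cfsg.Agent.H597.RelThompson
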