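import Cfsg.Agent.H597.L2Char
import Cfsg.Agent.S2300
import Cfsg.Agent.S0173

/-!
# Invariant characters of `SL₂(q)`, `q` even, under a field-type automorphism (helper597, for S4898)
-/

set_option autoImplicit false
set_option linter.unusedSectionVars false

namespace Cfsg.Agent.H597.L2Even

open Matrix Cfsg Cfsg.Agent.Characters.Core Cfsg.Agent.H984.SLTwo Cfsg.Agent.H597.L2Char
open Cfsg.Agent.Blocks.Basic (charDegree_of_eq irr_one_eq_charDegree charDegree_pos)
open Cfsg.Agent.ClassicalGeometry.AutPSL.Root (pr pr_surjective pr_eq_one_iff)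
open Cfsg.Agent.ClassicalGeometry.AutPSL.Auto (cj fld lift lift_pr coe_cj coe_fld_apply)

variable {F : Type*} [Field F] [Fintype F]

local notation "PSL" => Matrix.ProjectiveSpecialLinearGroup (Fin 2) F
local notation "SL" => Matrix.SpecialLinearGroup (Fin 2) F
local notation "M₂" => Matrix (Fin 2) (Fin 2) F

theorem NS_aut [DecidableEq F] (φ : MulAut SL) {y : SL} (hy : NS (y : M₂)) : NS ((φ y : SL) : M₂) := by
  by_contra hn
  have h5 := comm_of_not_NS hn
  apply not_NS_of_mem_center (z := y) _ hy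
  rw [Subgroup.mem_center_iff]
  intro x
  have h6 := h5 (φ x)
  rw [mul_assoc, inv_mul_eq_iff_eq_mul, ← map_mul, ← map_mul] at h6
  exact (φ.injective h6).symm

/-- The number of invariant classes. -/
theorem card_fixed [DecidableEq F] (h2 : ringChar F = 2) (A : GL (Fin 2) F) (σ : F ≃+* F) :
    Nat.card {C : ConjClasses SL // ConjClasses.map (cj A * fld σ : MulAut SL).toMonoidHom C = C} =
      1 + Nat.card {t : F // σ t = t} := by
  set φ : MulAut SL := cj A * fld σ with hφ
  let e : Unit ⊕ F ≃ ConjClasses SL := Equiv.ofBijective _ (rep2_bijective h2)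
  let P : ConjClasses SL → Prop := fun C => ConjClasses.map φ.toMonoidHom C = C
  have h1 : Nat.card {C : ConjClasses SL // P C} = Nat.card {i : Unit ⊕ F // P (e i)} :=
    (Nat.card_congr (Equiv.subtypeEquiv e (fun i => Iff.rfl))).symm
  have h3 : Nat.card {i : Unit ⊕ F // P (e i)} =
      Nat.card ({u : Unit // P (e (Sum.inl u))} ⊕ {t : F // P (e (Sum.inr t))}) :=
    Nat.card_congr Equiv.subtypeSum
  change Nat.card {C : ConjClasses SL // P C} = _
  rw [h1, h3, Nat.card_sum]
  congr 1
  · have h4 : ∀ u : Unit, P (e (Sum.inl u)) := by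
      intro u
      change ConjClasses.mk (φ 1) = ConjClasses.mk 1
      rw [map_one]
    rw [Nat.card_congr (Equiv.subtypeUnivEquiv h4), Nat.card_eq_fintype_card, Fintype.card_unit]
  · apply Nat.card_congr
    apply Equiv.subtypeEquivRight
    intro t
    change ConjClasses.mk (φ (comp t 1)) = ConjClasses.mk (comp t 1) ↔ _
    rw [ConjClasses.mk_eq_mk_iff_isConj]
    constructor
    · intro h
      have h4 := tr_of_isConj h
      rw [hφ, tr_cj_fld, tr_comp] at h4
      exact h4
    · intro h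
      apply isConj_of_tr (NS_aut φ (NS_comp t 1)) (NS_comp t 1) _ (Or.inl h2)
      rw [hφ, tr_cj_fld, tr_comp, h]

/-- The number of invariant characters. -/
theorem card_inv [DecidableEq F] (h2 : ringChar F = 2) (A : GL (Fin 2) F) (σ : F ≃+* F) :
    Nat.card {χ : Cfsg.IrrCharacter SL // (χ : SL → ℂ) ∘ (cj A * fld σ : MulAut SL) = (χ : SL → ℂ)} =
      1 + Nat.card {t : F // σ t = t} := by
  rw [← card_fixed h2 A σ]
  exact (Cfsg.Agent.S0173.result (cj A * fld σ : MulAut SL)).symm

/-- The degree of an invariant character. -/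
theorem main [DecidableEq F] (h2 : ringChar F = 2) (h4 : 4 ≤ Fintype.card F) (A : GL (Fin 2) F)
    {σ : F ≃+* F} (hσ : σ ≠ 1) :
    (∃ χ : SL → ℂ, IsIrrCharacter SL χ ∧
      (charDegree χ = Fintype.card F - 1 ∨ charDegree χ = Fintype.card F + 1) ∧
        χ ∘ (cj A * fld σ : MulAut SL) = χ) ∧
    (¬ ∀ χ : SL → ℂ, IsIrrCharacter SL χ → charDegree χ = Fintype.card F - 1 →
      χ ∘ (cj A * fld σ : MulAut SL) = χ) ∧
    ((∀ χ : SL → ℂ, IsIrrCharacter SL χ → charDegree χ = Fintype.card F + 1 →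
      χ ∘ (cj A * fld σ : MulAut SL) = χ) → Fintype.card F = 4) := by
  classical
  have hcp : CharP F 2 := h2 ▸ ringChar.charP F
  obtain ⟨hdeg, hcnt⟩ := Cfsg.Agent.S2300.result (F := F)
  obtain ⟨c1, cq, cqp, cqm⟩ := hcnt h4
  have hinv := card_inv h2 A σ
  have hk2 := Cfsg.Agent.StdL2.FGal.one_lt_card_fixed σ
  have hkq := Cfsg.Agent.StdL2.FGal.sq_le σ hσ
  rw [Nat.card_eq_fintype_card (α := F)] at hkq
  set k := Nat.card {t : F // σ t = t} with hk
  set φ : MulAut SL := cj A * fld σ with hφ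
  set q := Fintype.card F with hq
  have := finite_irr (G := SL)
  have : Fintype (IrrCharacter SL) := Fintype.ofFinite _
  have hcardf : ∀ P : IrrCharacter SL → Prop, Nat.card {χ : IrrCharacter SL // P χ} =
      (Finset.univ.filter P).card := by
    intro P
    rw [Nat.card_eq_fintype_card, Fintype.card_subtype]
  rw [hcardf] at c1 cq cqp cqm hinv
  set I := Finset.univ.filter (fun χ : IrrCharacter SL => (χ : SL → ℂ) ∘ φ = (χ : SL → ℂ)) with hI
  set A1 := Finset.univ.filter (fun χ : IrrCharacter SL => (χ : SL → ℂ) 1 = 1) with hA1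
  set Aq := Finset.univ.filter (fun χ : IrrCharacter SL => (χ : SL → ℂ) 1 = (q : ℂ)) with hAq
  set Ap := Finset.univ.filter (fun χ : IrrCharacter SL => (χ : SL → ℂ) 1 = (q : ℂ) + 1) with hAp
  set Am := Finset.univ.filter (fun χ : IrrCharacter SL => (χ : SL → ℂ) 1 = (q : ℂ) - 1) with hAm
  have hinv' : I.card = 1 + k := by
    rw [hI, ← hinv]
    congr
  -- the twist
  let tw : IrrCharacter SL → IrrCharacter SL := fun χ => ⟨(χ : SL → ℂ) ∘ φ, isIrr_comp (φ : SL →* SL) φ.surjective χ.2⟩
  have htw1 : ∀ χ : IrrCharacter SL, ((tw χ : IrrCharacter SL) : SL → ℂ) 1 = (χ : SL → ℂ) 1 := by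
    intro χ
    change (χ : SL → ℂ) (φ 1) = _
    rw [map_one]
  have hfix : ∀ (c : ℂ), (Finset.univ.filter (fun χ : IrrCharacter SL => (χ : SL → ℂ) 1 = c)).card = 1 →
      Finset.univ.filter (fun χ : IrrCharacter SL => (χ : SL → ℂ) 1 = c) ⊆ I := by
    intro c hc χ hχ
    obtain ⟨a, ha⟩ := Finset.card_eq_one.1 hc
    have h5 : tw χ ∈ Finset.univ.filter (fun χ : IrrCharacter SL => (χ : SL → ℂ) 1 = c) := by
      rw [Finset.mem_filter] at hχ ⊢
      exact ⟨Finset.mem_univ _, (htw1 χ).trans hχ.2⟩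
    rw [ha, Finset.mem_singleton] at h5 hχ
    rw [hI, Finset.mem_filter]
    refine ⟨Finset.mem_univ _, ?_⟩
    exact congrArg (fun z : IrrCharacter SL => (z : SL → ℂ)) (h5.trans hχ.symm)
  have hA1I : A1 ⊆ I := hfix 1 c1
  have hAqI : Aq ⊆ I := hfix q cq
  have hdisj : ∀ (c d : ℂ), c ≠ d → Disjoint
      (Finset.univ.filter (fun χ : IrrCharacter SL => (χ : SL → ℂ) 1 = c))
      (Finset.univ.filter (fun χ : IrrCharacter SL => (χ : SL → ℂ) 1 = d)) := by
    intro c d hcd
    rw [Finset.disjoint_left]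
    intro χ h5 h6
    rw [Finset.mem_filter] at h5 h6
    exact hcd (h5.2.symm.trans h6.2)
  have hq1 : (1 : ℂ) ≠ q := by
    intro h
    have : (1 : ℕ) = q := by exact_mod_cast h
    omega
  have hcast : (q : ℂ) - 1 = ((q - 1 : ℕ) : ℂ) := by
    rw [Nat.cast_sub (by omega)]; simp
  have hcast' : (q : ℂ) + 1 = ((q + 1 : ℕ) : ℂ) := by push_cast; rfl
  have hbig : ∀ (c : ℂ), 1 ≠ c → (q : ℂ) ≠ c →
      Finset.univ.filter (fun χ : IrrCharacter SL => (χ : SL → ℂ) 1 = c) ⊆ I →
      (Finset.univ.filter (fun χ : IrrCharacter SL => (χ : SL → ℂ) 1 = c)).card ≤ k - 1 := by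
    intro c h1c hqc hsub
    have h5 : (A1 ∪ Aq) ∪ Finset.univ.filter (fun χ : IrrCharacter SL => (χ : SL → ℂ) 1 = c) ⊆ I :=
      Finset.union_subset (Finset.union_subset hA1I hAqI) hsub
    have h6 := Finset.card_le_card h5
    rw [Finset.card_union_of_disjoint, Finset.card_union_of_disjoint (hdisj 1 q hq1), c1, cq, hinv'] at h6
    · omega
    · rw [Finset.disjoint_union_left]
      exact ⟨hdisj 1 c h1c, hdisj q c hqc⟩
  refine ⟨?_, ?_, ?_⟩
  · by_contra hcon
    push Not at hcon
    have h5 : I ⊆ A1 ∪ Aq := by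
      intro χ hχ
      rw [hI, Finset.mem_filter] at hχ
      rw [Finset.mem_union, hA1, hAq, Finset.mem_filter, Finset.mem_filter]
      rcases hdeg χ χ.2 with h6 | h6 | h6 | h6
      · left; exact ⟨Finset.mem_univ _, h6⟩
      · exfalso
        exact hcon χ χ.2 (Or.inl (charDegree_of_eq (h6.trans hcast))) hχ.2
      · right; exact ⟨Finset.mem_univ _, h6⟩
      · exfalso
        exact hcon χ χ.2 (Or.inr (charDegree_of_eq (h6.trans hcast'))) hχ.2
    have h6 := Finset.card_le_card h5
    have h7 := Finset.card_union_le A1 Aq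
    rw [c1, cq] at h7
    rw [hinv'] at h6
    omega
  · intro hall
    have h5 : Am ⊆ I := by
      intro χ hχ
      rw [hAm, Finset.mem_filter] at hχ
      rw [hI, Finset.mem_filter]
      exact ⟨Finset.mem_univ _, hall χ χ.2 (charDegree_of_eq (hχ.2.trans hcast))⟩
    have h6 := hbig ((q : ℂ) - 1) (by
      intro h
      rw [hcast] at h
      have : (1 : ℕ) = q - 1 := by exact_mod_cast h
      omega) (by
      intro h
      rw [hcast] at h
      have : q = q - 1 := by exact_mod_cast h
      omega) h5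
    change Am.card ≤ _ at h6
    rw [cqm] at h6
    have h7 : q ≤ 2 * (k - 1) + 1 := by omega
    have h8 : q + 1 ≤ 2 * k := by omega
    have h9 : 2 * k < q + 1 ∨ k ≤ 1 ∨ q ≤ 4 := by
      by_contra hc
      push Not at hc
      nlinarith
    rcases h9 with h9 | h9 | h9
    · omega
    · omega
    · have h10 : q = 4 := by omega
      rw [h10] at hkq h8 h6
      have : k ≤ 2 := by nlinarith
      omega
  · intro hall
    have h5 : Ap ⊆ I := by
      intro χ hχ
      rw [hAp, Finset.mem_filter] at hχ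
      rw [hI, Finset.mem_filter]
      exact ⟨Finset.mem_univ _, hall χ χ.2 (charDegree_of_eq (hχ.2.trans hcast'))⟩
    have h6 := hbig ((q : ℂ) + 1) (by
      intro h
      rw [hcast'] at h
      have : (1 : ℕ) = q + 1 := by exact_mod_cast h
      omega) (by
      intro h
      rw [hcast'] at h
      have : q = q + 1 := by exact_mod_cast h
      omega) h5
    change Ap.card ≤ _ at h6
    rw [cqp] at h6
    have heven : q % 2 = 0 := FiniteField.even_card_iff_char_two.1 h2
    have h8 : q ≤ 2 * k := by omega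
    have h9 : q ≤ 4 := by nlinarith
    omega

/-- All the characters of `SL₂(q)` come from `PSL₂(q)`, `q` even. -/
theorem exists_psl (h2 : ringChar F = 2) {χ : SL → ℂ} (hχ : IsIrrCharacter SL χ) :
    ∃ θ : PSL → ℂ, IsIrrCharacter PSL θ ∧ charDegree θ = charDegree χ ∧ ∀ g : SL, θ (pr g) = χ g := by
  classical
  have hc : CharP F 2 := h2 ▸ ringChar.charP F
  have hz : (z0 : SL) = 1 := by
    have h1 : (-1 : Fˣ) = 1 := by
      apply Units.ext
      rw [Units.val_neg, Units.val_one]
      exact CharTwo.neg_eq 1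
    rw [show (z0 : SL) = upp (-1) 0 from rfl, h1, upp_one_zero]
  obtain ⟨θ, hθ, h⟩ := exists_descent hχ (by rw [hz])
  refine ⟨θ, hθ, ?_, h⟩
  apply charDegree_of_eq
  rw [← irr_one_eq_charDegree hχ, ← h 1, map_one]

end Cfsg.Agent.H597.L2Even
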