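import Cfsg.Agent.H597.L2Cliff
import Cfsg.Agent.H597.L2Even
import Cfsg.Agent.H761.LieExt
import Cfsg.Agent.H464.PslDeg
import Cfsg.Agent.S2298
import Cfsg.Agent.TwoFusion.SLTwoFacts
import Cfsg.Agent.ClassicalGeometry.PSL2Basic
import Cfsg.Agent.ClassicalGeometry.PSL2Solvable
import Cfsg.Agent.CharactersDeep.MaxInduced

/-!
# Four character degrees: almost simple groups over `PSL₂(q)` (helper597, for S4898)
-/

set_option autoImplicit false
set_option linter.unusedSectionVars false

namespace Cfsg.Agent.H597.L2Row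

open Matrix Cfsg Cfsg.Agent.Characters.Core Cfsg.Agent.H681.DegBasic
open Cfsg.Agent.H597.L2Cliff Cfsg.Agent.H597.L2Aut
open Cfsg.Agent.Blocks.Basic (charDegree_of_eq irr_one_eq_charDegree charDegree_pos)
open Cfsg.Agent.ClassicalGeometry.AutPSL.Root (pr pr_surjective pr_eq_one_iff)
open Cfsg.Agent.ClassicalGeometry.AutPSL.Auto (cj fld lift lift_pr coe_cj coe_fld_apply)

universe u

section sets

theorem four {Q : Set ℕ} (h4 : Q.ncard = 4) {a b c d : ℕ} (ha : a ∈ Q) (hb : b ∈ Q) (hc : c ∈ Q)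
    (hd : d ∈ Q) (hab : a ≠ b) (hac : a ≠ c) (had : a ≠ d) (hbc : b ≠ c) (hbd : b ≠ d)
    (hcd : c ≠ d) : Q = {a, b, c, d} := by
  have hfin : Q.Finite := Set.finite_of_ncard_ne_zero (by omega)
  have hsub : ({a, b, c, d} : Set ℕ) ⊆ Q := by
    intro x hx
    simp only [Set.mem_insert_iff, Set.mem_singleton_iff] at hx
    rcases hx with rfl | rfl | rfl | rfl <;> assumption
  have hcard : ({a, b, c, d} : Set ℕ).ncard = 4 := by
    have h1 : ({a, b, c, d} : Set ℕ) = (({a, b, c, d} : Finset ℕ) : Set ℕ) := by simp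
    rw [h1, Set.ncard_coe_finset]
    rw [Finset.card_insert_of_notMem, Finset.card_insert_of_notMem, Finset.card_insert_of_notMem,
      Finset.card_singleton] <;> simp [*]
  exact (Set.eq_of_subset_of_ncard_le hsub (by rw [hcard, h4]) hfin).symm

theorem five {Q : Set ℕ} (h4 : Q.ncard = 4) {a b c d x : ℕ} (ha : a ∈ Q) (hb : b ∈ Q) (hc : c ∈ Q)
    (hd : d ∈ Q) (hx : x ∈ Q) (hab : a ≠ b) (hac : a ≠ c) (had : a ≠ d) (hbc : b ≠ c) (hbd : b ≠ d)
    (hcd : c ≠ d) : x = a ∨ x = b ∨ x = c ∨ x = d := by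
  rw [four h4 ha hb hc hd hab hac had hbc hbd hcd] at hx
  simpa using hx

theorem eq_of_sub {Q : Set ℕ} (h4 : Q.ncard = 4) {a b c d : ℕ}
    (h : ∀ x ∈ Q, x = a ∨ x = b ∨ x = c ∨ x = d) : Q = {a, b, c, d} := by
  have hsub : Q ⊆ ({a, b, c, d} : Set ℕ) := by
    intro x hx
    simpa using h x hx
  refine Set.eq_of_subset_of_ncard_le hsub ?_ (Set.toFinite _)
  rw [h4]
  have h1 : ({a, b, c, d} : Set ℕ) = (({a, b, c, d} : Finset ℕ) : Set ℕ) := by simp
  rw [h1, Set.ncard_coe_finset]
  exact Finset.card_le_four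

end sets

section setup

variable {G : Type u} [Group G] (M : Subgroup G) [hM : M.Normal] {F : Type} [Field F] [Fintype F]

local notation "PSL" => Matrix.ProjectiveSpecialLinearGroup (Fin 2) F
local notation "SL" => Matrix.SpecialLinearGroup (Fin 2) F
local notation "M₂" => Matrix (Fin 2) (Fin 2) F

variable (e : M ≃* Matrix.ProjectiveSpecialLinearGroup (Fin 2) F)

/-- The field part. -/
noncomputable def ff : G →* (F ≃+* F) := fp.comp (Phi M e)

theorem ff_mem {m : G} (hm : m ∈ M) : ff M e m = 1 := by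
  change fp (Phi M e m) = 1
  rw [Phi_coe M e ⟨m, hm⟩, fp_conj]

theorem form (g : G) : ∃ A : GL (Fin 2) F, Phi M e g = lift (cj A * fld (ff M e g)) :=
  exists_form (Phi M e g)

theorem form_one {g : G} (h : ff M e g = 1) : ∃ A : GL (Fin 2) F, Phi M e g = lift (cj A) := by
  obtain ⟨A, hA⟩ := form M e g
  rw [h, map_one, mul_one] at hA
  exact ⟨A, hA⟩

variable (hc : Subgroup.centralizer (M : Set G) = ⊥)

include hc in
theorem mem_of_sq {g : G} {A : GL (Fin 2) F} (hA : Phi M e g = lift (cj A))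
    (h : IsSquare (A : M₂).det) : g ∈ M := by
  obtain ⟨B, hB⟩ := exists_inner A h
  rw [hB, lift_conj] at hA
  exact mem_of_inner M e hc hA

theorem det_ne (A : GL (Fin 2) F) : (A : M₂).det ≠ 0 := by
  have := (Matrix.isUnit_iff_isUnit_det (A : M₂)).1 A.isUnit
  exact this.ne_zero

include hc in
theorem mul_mem_of {g h : G} (hg : ff M e g = 1) (hh : ff M e h = 1) (hgM : g ∉ M) (hhM : h ∉ M) :
    g * h ∈ M := by
  classical
  obtain ⟨A, hA⟩ := form_one M e hg
  obtain ⟨B, hB⟩ := form_one M e hh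
  have h1 : ¬ IsSquare (A : M₂).det := fun h => hgM (mem_of_sq M e hc hA h)
  have h2 : ¬ IsSquare (B : M₂).det := fun h => hhM (mem_of_sq M e hc hB h)
  apply mem_of_sq M e hc (A := A * B)
  · rw [map_mul, hA, hB, ← map_mul, ← map_mul]
  · rw [Units.val_mul, Matrix.det_mul]
    exact Cfsg.Agent.H984.SLTwo.isSquare_mul_of_not h1 h2

include hc in
theorem relIndex_le [Finite G] : M.relIndex (ff M e).ker ≤ 2 := by
  by_cases h : ∀ g ∈ (ff M e).ker, g ∈ M
  · have : M.relIndex (ff M e).ker = 1 := Subgroup.relIndex_eq_one.2 h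
    omega
  · push Not at h
    obtain ⟨a, ha, haM⟩ := h
    have : M.relIndex (ff M e).ker = 2 := by
      unfold Subgroup.relIndex
      rw [Subgroup.index_eq_two_iff]
      refine ⟨⟨a, ha⟩, fun b => ?_⟩
      rw [Subgroup.mem_subgroupOf, Subgroup.mem_subgroupOf]
      by_cases hb : (b : G) ∈ M
      · right
        refine ⟨hb, fun h1 => haM ?_⟩
        have := M.mul_mem (M.inv_mem hb) h1
        simpa using this
      · left
        exact ⟨mul_mem_of M e hc b.2 ha hb haM, hb⟩
    omega

theorem le_ker : M ≤ (ff M e).ker := fun _ hm => ff_mem M e hm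

theorem index_ker_le [Finite G] {p a : ℕ} [Fact p.Prime] [CharP F p]
    (hq : Fintype.card F = p ^ a) : (ff M e).ker.index ≤ a := by
  have : Finite (F ≃+* F) := Finite.of_injective (fun σ : F ≃+* F => (σ : F → F)) DFunLike.coe_injective
  rw [Subgroup.index_ker]
  exact (Subgroup.card_le_card_group _).trans (card_ringEquiv_le hq)

include e hc in
theorem index_le [Finite G] {p a : ℕ} [Fact p.Prime] [CharP F p]
    (hq : Fintype.card F = p ^ a) : M.index ≤ 2 * a := by
  rw [← Subgroup.relIndex_mul_index (le_ker M e)]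
  exact Nat.mul_le_mul (relIndex_le M e hc) (index_ker_le M e hq)

/-- Degrees over a character of the model. -/
theorem exists_deg [Finite G] {θ : PSL → ℂ} (hθ : IsIrrCharacter PSL θ) :
    ∃ (χ : G → ℂ) (c : ℕ), IsIrrCharacter G χ ∧ charDegree χ = charDegree θ * c ∧ c ∣ M.index ∧
      (St M e θ).index ∣ c ∧ 0 < c := by
  classical
  have := Fintype.ofFinite G
  have := Fintype.ofFinite M
  obtain ⟨χ, hχ, hov⟩ := exists_over M e hθ
  obtain ⟨c, hc, hci⟩ := deg_dvd M e hχ hθ hov
  refine ⟨χ, c, hχ, hc, hci, ?_, ?_⟩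
  · have h1 := Cfsg.Agent.H672.index_mul_charDegree_dvd M hχ (isIrr_e M e hθ)
      ((Cfsg.Agent.H672.over_subtype_iff M χ (θ ∘ e)).2 hov.ne)
    have h2 : Cfsg.Agent.H672.inertia M (θ ∘ e) = St M e θ := by
      ext g
      rw [Cfsg.Agent.H672.mem_inertia_iff, mem_St']
      rfl
    rw [h2, deg_e, hc, mul_comm] at h1
    exact Nat.dvd_of_mul_dvd_mul_left (charDegree_pos hθ) h1
  · rcases Nat.eq_zero_or_pos c with h | h
    · rw [h, mul_zero] at hc
      have := charDegree_pos hχ
      omega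
    · exact h

theorem mem_cd {χ : G → ℂ} (hχ : IsIrrCharacter G χ) : charDegree χ ∈ charDegrees G :=
  mem_charDegrees.2 ⟨χ, hχ, irr_one_eq_charDegree hχ⟩

/-- The degree over a character with `St ∩ ker = M`. -/
theorem deg_mem [Finite G] {θ : PSL → ℂ} (hθ : IsIrrCharacter PSL θ)
    (hf : ∀ g ∈ St M e θ, ff M e g = 1 → g ∈ M) :
    (St M e θ).index * charDegree θ ∈ charDegrees G := by
  obtain ⟨χ, hχ, hov⟩ := exists_over M e hθ
  have hcyc : IsCyclic (F ≃+* F) := isCyclic_ringEquiv F
  have h1 := deg_eq M e hχ hθ hov (ff M e) (fun m hm => ff_mem M e hm) hf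
  rw [← h1]
  exact mem_cd hχ

include hM e in
/-- The Steinberg character. -/
theorem steinberg [Finite G] (h4 : 4 ≤ Fintype.card F) : Fintype.card F ∈ charDegrees G := by
  classical
  have := Fintype.ofFinite G
  obtain ⟨p, hp⟩ := CharP.exists F
  have hpp : Fact p.Prime := ⟨CharP.char_is_prime F p⟩
  obtain ⟨n, -, hn⟩ := FiniteField.card F p
  have hsimple : IsSimpleGroup PSL := Cfsg.Agent.TwoFusion.SLTwoFacts.isSimpleGroup_psl h4
  have hna : ¬ IsMulCommutative PSL := by
    intro hcomm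
    have hcc : ∀ a b : PSL, a * b = b * a := fun a b => hcomm.is_comm.comm a b
    have h1 : (Nat.card PSL).Prime := by
      let _ : CommGroup PSL := { (inferInstance : Group PSL) with mul_comm := hcc }
      exact IsSimpleGroup.prime_card
    exact Cfsg.Agent.ClassicalGeometry.PSL2Solvable.not_prime_card F h4 h1
  obtain ⟨θ, hθd, ψ, hψ⟩ := Cfsg.Agent.H761.LieExt.lie_ext (p := p) (S := PSL) hna
    (Or.inl ⟨F, inferInstance, inferInstance, hp, 2, le_refl 2, fun _ => h4, ⟨MulEquiv.refl _⟩⟩)
  have hfac : p ^ (Nat.card PSL).factorization p = Fintype.card F := by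
    have h1 := Cfsg.Agent.ClassicalGeometry.PSL2Basic.card_PSL2_gcd (F := F)
    have hpq : p ∣ Fintype.card F := by
      rw [hn]; exact dvd_pow_self p n.ne_zero
    have hcop1 : ¬ p ∣ Fintype.card F ^ 2 - 1 := by
      intro h
      have h2 : p ∣ Fintype.card F ^ 2 := (hpq.trans (dvd_pow_self _ two_ne_zero))
      have h3 : 1 ≤ Fintype.card F ^ 2 := Nat.one_le_pow _ _ Fintype.card_pos
      have h4 := (Nat.dvd_sub_iff_right h3 h2).1 h
      exact hpp.out.one_lt.ne' (Nat.dvd_one.1 h4)
    have hcop2 : ¬ p ∣ Nat.gcd 2 (Fintype.card F - 1) := by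
      intro h
      have h2 : p ∣ Fintype.card F - 1 := h.trans (Nat.gcd_dvd_right _ _)
      have h4 := (Nat.dvd_sub_iff_right Fintype.card_pos hpq).1 h2
      exact hpp.out.one_lt.ne' (Nat.dvd_one.1 h4)
    have h5 := congrArg (fun x : ℕ => x.factorization p) h1
    beta_reduce at h5
    have hne1 : Nat.gcd 2 (Fintype.card F - 1) ≠ 0 := fun h => hcop2 (h ▸ dvd_zero p)
    have hne2 : Fintype.card F ^ 2 - 1 ≠ 0 := fun h => hcop1 (h ▸ dvd_zero p)
    rw [Nat.factorization_mul Nat.card_pos.ne' hne1, Nat.factorization_mul Fintype.card_ne_zero hne2,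
      Finsupp.add_apply, Finsupp.add_apply, Nat.factorization_eq_zero_of_not_dvd hcop2,
      Nat.factorization_eq_zero_of_not_dvd hcop1, add_zero, add_zero, hn,
      Nat.Prime.factorization_pow hpp.out, Finsupp.single_eq_same] at h5
    rw [h5, hn]
  rw [hfac] at hθd
  have hη : IsIrrCharacter G ((ψ : MulAut PSL → ℂ) ∘ Phi M e) := by
    apply Cfsg.Agent.CharactersDeep.MaxInduced.isIrr_of_comp M.subtype
      (isCharacter_comp (Phi M e) (isIrr_isCharacter ψ.2))
    have h1 : (((ψ : MulAut PSL → ℂ) ∘ Phi M e) ∘ M.subtype) = (θ : PSL → ℂ) ∘ e := by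
      funext m
      change (ψ : MulAut PSL → ℂ) (Phi M e m) = _
      rw [Phi_coe, hψ]
      rfl
    rw [h1]
    exact isIrr_e M e θ.2
  rw [← hθd]
  refine mem_charDegrees.2 ⟨_, hη, ?_⟩
  rw [← irr_one_eq_charDegree θ.2, Function.comp_apply, map_one]
  have := hψ 1
  rwa [map_one] at this

include hM e in
/-- If `G = M` then `G` is a quotient of `SL₂`. -/
theorem exists_SL_surj (hMt : ∀ g : G, g ∈ M) : (∃ π : SL →* G, Function.Surjective π) ∧
    (∃ π : PSL →* G, Function.Surjective π) := by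
  have h2 : Function.Surjective (M.subtype.comp e.symm.toMonoidHom) := by
    intro g
    exact ⟨e ⟨g, hMt g⟩, by simp⟩
  exact ⟨⟨(M.subtype.comp e.symm.toMonoidHom).comp pr, h2.comp pr_surjective⟩, _, h2⟩

theorem inv_of_top {θ : PSL → ℂ} {g : G} {A : GL (Fin 2) F}
    (hA : Phi M e g = lift (cj A * fld (ff M e g))) (h : St M e θ = ⊤) (s : PSL) :
    θ ((lift (cj A * fld (ff M e g)) : MulAut PSL) s) = θ s := by
  have h1 : g ∈ St M e θ := h ▸ Subgroup.mem_top g
  have h2 := h1 s
  rwa [hA] at h2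

theorem sq_two (h2 : ringChar F = 2) (A : GL (Fin 2) F) : IsSquare (A : M₂).det :=
  FiniteField.isSquare_of_char_two h2 _

include e hc in
theorem even_case [Finite G] (h2 : ringChar F = 2) (hF : 4 ≤ Fintype.card F)
    (h4 : (charDegrees G).ncard = 4) :
    ∃ q : ℕ, IsPrimePow q ∧ 3 < q ∧ charDegrees G = {1, q - 1, q, q + 1} := by
  classical
  have hcp : CharP F 2 := h2 ▸ ringChar.charP F
  have hp2 : Fact (Nat.Prime 2) := ⟨Nat.prime_two⟩
  obtain ⟨a, -, ha⟩ := FiniteField.card F 2
  have hker : ∀ g : G, ff M e g = 1 → g ∈ M := by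
    intro g hg
    obtain ⟨A, hA⟩ := form_one M e hg
    exact mem_of_sq M e hc hA (sq_two h2 A)
  have hdegSL : ∀ d ∈ charDegrees SL, d = 1 ∨ d = Fintype.card F - 1 ∨ d = Fintype.card F ∨
      d = Fintype.card F + 1 := by
    intro d hd
    obtain ⟨χ, hχ, hχd⟩ := mem_charDegrees.1 hd
    have hcast : (Fintype.card F : ℂ) - 1 = ((Fintype.card F - 1 : ℕ) : ℂ) := by
      rw [Nat.cast_sub (by omega)]; simp
    have := (Cfsg.Agent.S2300.result (F := F)).1 χ hχ
    rw [hχd, hcast] at this
    rcases this with h | h | h | h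
    · left; exact_mod_cast h
    · right; left; exact_mod_cast h
    · right; right; left; exact_mod_cast h
    · right; right; right; exact_mod_cast h
  by_cases hall : ∀ g : G, ff M e g = 1
  · -- `G = M`
    refine ⟨Fintype.card F, ?_, by omega, ?_⟩
    · rw [ha]; exact Nat.prime_two.isPrimePow.pow a.ne_zero
    · obtain ⟨π, hπ⟩ := (exists_SL_surj M e (fun g => hker g (hall g))).1
      exact eq_of_sub h4 (fun x hx => hdegSL x (charDegrees_comp π hπ hx))
  · -- a generator of the image
    have hcyc : IsCyclic (F ≃+* F) := isCyclic_ringEquiv F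
    obtain ⟨⟨σ, h, hσ⟩, hgen⟩ := IsCyclic.exists_generator (α := (ff M e).range)
    have hgen' : ∀ g : G, ∃ k : ℤ, ff M e g = (ff M e h) ^ k := by
      intro g
      obtain ⟨k, hk⟩ := Subgroup.mem_zpowers_iff.1 (hgen ⟨ff M e g, g, rfl⟩)
      refine ⟨k, ?_⟩
      rw [hσ]
      exact (congrArg Subtype.val hk).symm
    have hne : ff M e h ≠ 1 := by
      intro h1
      apply hall
      intro g
      obtain ⟨k, hk⟩ := hgen' g
      rw [hk, h1, _root_.one_zpow]
    obtain ⟨A, hA⟩ := form M e h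
    -- invariance
    have hinv : ∀ θ : PSL → ℂ, IsIrrCharacter PSL θ →
        (St M e θ = ⊤ ↔ ∀ s, θ ((lift (cj A * fld (ff M e h)) : MulAut PSL) s) = θ s) := by
      intro θ hθ
      constructor
      · intro ht s
        exact inv_of_top M e hA ht s
      · intro ht
        have hh : h ∈ St M e θ := by
          intro s
          rw [hA]
          exact ht s
        rw [eq_top_iff]
        intro g _
        obtain ⟨k, hk⟩ := hgen' g
        have h1 : g * (h ^ k)⁻¹ ∈ M := by
          apply hker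
          rw [map_mul, hk, map_inv, map_zpow, mul_inv_cancel]
        have h3 := (St M e θ).mul_mem (le_St M e hθ h1) ((St M e θ).zpow_mem hh k)
        simpa using h3
    have hSLPSL : ∀ (θ : PSL → ℂ) (χ : SL → ℂ), (∀ g : SL, θ (pr g) = χ g) →
        ((∀ s, θ ((lift (cj A * fld (ff M e h)) : MulAut PSL) s) = θ s) ↔
          χ ∘ (cj A * fld (ff M e h) : MulAut SL) = χ) := by
      intro θ χ hθχ
      constructor
      · intro h1
        funext g
        have h3 := h1 (pr g)
        rw [lift_pr, hθχ, hθχ] at h3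
        exact h3
      · intro h1 s
        obtain ⟨g, rfl⟩ := pr_surjective s
        rw [lift_pr, hθχ, hθχ]
        exact congrFun h1 g
    obtain ⟨m1, m2, m3⟩ := L2Even.main h2 hF A hne
    have hq := steinberg M e hF
    have h1 : 1 ∈ charDegrees G := one_mem
    set q := Fintype.card F with hqdef
    -- degrees over characters of the model
    have hdeg : ∀ θ : PSL → ℂ, IsIrrCharacter PSL θ →
        (St M e θ).index * charDegree θ ∈ charDegrees G :=
      fun θ hθ => deg_mem M e hθ (fun g _ hg => hker g hg)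
    have hidx : ∀ θ : PSL → ℂ, IsIrrCharacter PSL θ → (St M e θ).index ≤ a := by
      intro θ hθ
      have e1 : (ff M e).ker ≤ M := fun g hg => hker g hg
      have e2 := Subgroup.index_dvd_of_le (e1.trans (le_St M e hθ))
      exact (Nat.le_of_dvd (Nat.pos_of_ne_zero Subgroup.index_ne_zero_of_finite) e2).trans
        (index_ker_le M e ha)
    have hidx0 : ∀ θ : PSL → ℂ, (St M e θ).index ≠ 0 := fun θ => Subgroup.index_ne_zero_of_finite
    have haq : a + 1 < q := by
      rw [ha]
      rcases Nat.lt_or_ge (a : ℕ) 2 with h5 | h5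
      · exfalso
        have h6 : (a : ℕ) = 1 := by have := a.pos; omega
        rw [ha, h6] at hF
        omega
      · obtain ⟨b, hb⟩ := Nat.exists_eq_add_of_le h5
        rw [hb]
        have : ∀ b : ℕ, 2 + b + 1 < 2 ^ (2 + b) := by
          intro b
          induction b with
          | zero => norm_num
          | succ b ih =>
            rw [show 2 + (b + 1) = (2 + b) + 1 by ring, pow_succ]
            omega
        exact this b
    -- existence of characters of the two degrees
    have hex : ∀ d : ℕ, (d = q - 1 ∨ d = q + 1) → ∃ θ : PSL → ℂ, IsIrrCharacter PSL θ ∧ charDegree θ = d := by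
      intro d hd
      obtain ⟨-, hcnt⟩ := Cfsg.Agent.S2300.result (F := F)
      obtain ⟨-, -, cqp, cqm⟩ := hcnt hF
      have hcast : (Fintype.card F : ℂ) - 1 = ((q - 1 : ℕ) : ℂ) := by
        rw [Nat.cast_sub (by omega)]; simp [hqdef]
      have hcast' : (Fintype.card F : ℂ) + 1 = ((q + 1 : ℕ) : ℂ) := by push_cast; rfl
      have key : ∀ z : ℂ, z = (d : ℂ) → Nat.card {χ : Cfsg.IrrCharacter SL // (χ : SL → ℂ) 1 = z} ≠ 0 →
          ∃ θ : PSL → ℂ, IsIrrCharacter PSL θ ∧ charDegree θ = d := by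
        intro z hz hz0
        obtain ⟨⟨⟨χ, hχ⟩, hχz⟩⟩ := (Nat.card_ne_zero.1 hz0).1
        obtain ⟨θ, hθ, hθd, -⟩ := L2Even.exists_psl h2 hχ
        exact ⟨θ, hθ, hθd.trans (charDegree_of_eq (hχz.trans hz))⟩
      rcases hd with rfl | rfl
      · exact key _ hcast (by rw [cqm]; omega)
      · exact key _ hcast' (by rw [cqp]; omega)
    obtain ⟨χ, hχ, hχd, hχi⟩ := m1
    obtain ⟨θ, hθ, hθd, hθχ⟩ := L2Even.exists_psl h2 hχ
    have hθtop : St M e θ = ⊤ := (hinv θ hθ).2 ((hSLPSL θ χ hθχ).2 hχi)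
    have hθmem := hdeg θ hθ
    rw [hθtop, Subgroup.index_top, one_mul, hθd] at hθmem
    have hodd : q % 2 = 0 := FiniteField.even_card_iff_char_two.1 h2
    -- coprimality
    have hcop : Nat.Coprime (q - 1) (q + 1) := by
      have e1 : Odd (q - 1) := by rw [Nat.odd_iff]; omega
      have e2 : q + 1 = (q - 1) + 2 := by omega
      rw [e2, Nat.coprime_self_add_right]
      exact e1.coprime_two_right
    have hne1 : ∀ s t : ℕ, s ≤ a → s ≠ 0 → (q - 1) * t ≠ (q + 1) * s := by
      intro s t hs hs0 heq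
      have e1 : (q - 1) ∣ s := hcop.dvd_of_dvd_mul_left (heq ▸ dvd_mul_right _ _)
      have := Nat.le_of_dvd (Nat.pos_of_ne_zero hs0) e1
      omega
    have hne2 : ∀ t : ℕ, (q - 1) * t ≠ q := by
      intro t heq
      have e1 : (q - 1) ∣ q := ⟨t, heq.symm⟩
      have e2 : (q - 1) ∣ 1 := by
        have := (Nat.dvd_sub_iff_right (by omega : 1 ≤ q) e1).1 (dvd_refl _)
        exact this
      have := Nat.le_of_dvd one_pos e2
      omega
    have hne3 : ∀ t : ℕ, (q + 1) * t ≠ q := by
      intro t heq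
      rcases Nat.eq_zero_or_pos t with h5 | h5
      · rw [h5] at heq; omega
      · nlinarith
    have hne4 : ∀ t : ℕ, (q - 1) * t ≠ 1 := by
      intro t heq
      have := Nat.eq_one_of_mul_eq_one_right heq
      omega
    have hne5 : ∀ t : ℕ, (q + 1) * t ≠ 1 := by
      intro t heq
      have := Nat.eq_one_of_mul_eq_one_right heq
      omega
    have ha0 : (a : ℕ) ≠ 0 := a.ne_zero
    rcases hχd with hχd | hχd
    · -- an invariant character of degree `q - 1`
      exfalso
      rw [hχd] at hθmem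
      obtain ⟨θ', hθ', hθ'd⟩ := hex (q + 1) (Or.inr rfl)
      have hmem' := hdeg θ' hθ'
      rw [hθ'd] at hmem'
      set t := (St M e θ').index with ht
      have ht0 : t ≠ 0 := hidx0 θ'
      have hta : t ≤ a := hidx θ' hθ'
      apply m2
      intro χ₂ hχ₂ hχ₂d
      obtain ⟨θ₂, hθ₂, hθ₂d, hθ₂χ⟩ := L2Even.exists_psl h2 hχ₂
      rw [hχ₂d] at hθ₂d
      have hmem₂ := hdeg θ₂ hθ₂
      rw [hθ₂d] at hmem₂
      have h5 := five h4 h1 hq hθmem hmem' hmem₂ (by omega) (by omega)
        (fun h => hne5 t (by rw [mul_comm]; exact h.symm)) (by omega)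
        (fun h => hne3 t (by rw [mul_comm]; exact h.symm))
        (fun h => hne1 t 1 hta ht0 (by rw [mul_one, mul_comm (q + 1)]; exact h))
      have h6 : (St M e θ₂).index = 1 := by
        rcases h5 with h5 | h5 | h5 | h5
        · exact absurd (by rw [mul_comm]; exact h5) (hne4 (St M e θ₂).index)
        · exact absurd (by rw [mul_comm]; exact h5) (hne2 (St M e θ₂).index)
        · have h7 : (St M e θ₂).index * (q - 1) = 1 * (q - 1) := by rw [h5, one_mul]
          exact Nat.eq_of_mul_eq_mul_right (by omega) h7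
        · exact absurd (by rw [mul_comm, h5, mul_comm]) (hne1 t (St M e θ₂).index hta ht0)
      exact (hSLPSL θ₂ χ₂ hθ₂χ).1 ((hinv θ₂ hθ₂).1 (Subgroup.index_eq_one.1 h6))
    · -- an invariant character of degree `q + 1`
      rw [hχd] at hθmem
      obtain ⟨θ', hθ', hθ'd⟩ := hex (q - 1) (Or.inl rfl)
      have hmem' := hdeg θ' hθ'
      rw [hθ'd] at hmem'
      set t := (St M e θ').index with ht
      have ht0 : t ≠ 0 := hidx0 θ'
      have hta : t ≤ a := hidx θ' hθ'
      have k1 : 1 ≠ t * (q - 1) := fun h => hne4 t (by rw [mul_comm]; exact h.symm)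
      have k2 : q ≠ t * (q - 1) := fun h => hne2 t (by rw [mul_comm]; exact h.symm)
      have k3 : q + 1 ≠ t * (q - 1) := fun h => hne1 1 t (by omega) one_ne_zero
        (by rw [mul_one, mul_comm]; exact h.symm)
      have hq4 : q = 4 := by
        apply m3
        intro χ₂ hχ₂ hχ₂d
        obtain ⟨θ₂, hθ₂, hθ₂d, hθ₂χ⟩ := L2Even.exists_psl h2 hχ₂
        rw [hχ₂d] at hθ₂d
        have hmem₂ := hdeg θ₂ hθ₂
        rw [hθ₂d] at hmem₂
        have h5 := five h4 h1 hq hθmem hmem' hmem₂ (by omega) (by omega) k1 (by omega) k2 k3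
        have h6 : (St M e θ₂).index = 1 := by
          rcases h5 with h5 | h5 | h5 | h5
          · exact absurd (by rw [mul_comm]; exact h5) (hne5 (St M e θ₂).index)
          · exact absurd (by rw [mul_comm]; exact h5) (hne3 (St M e θ₂).index)
          · have h7 : (St M e θ₂).index * (q + 1) = 1 * (q + 1) := by rw [h5, one_mul]
            exact Nat.eq_of_mul_eq_mul_right (by omega) h7
          · exact absurd (by rw [mul_comm, ← h5, mul_comm])
              (hne1 (St M e θ₂).index t (hidx θ₂ hθ₂) (hidx0 θ₂))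
        exact (hSLPSL θ₂ χ₂ hθ₂χ).1 ((hinv θ₂ hθ₂).1 (Subgroup.index_eq_one.1 h6))
      have ha2 : (a : ℕ) = 2 := by
        have h5 : 2 ^ (a : ℕ) = 2 ^ 2 := by rw [← ha, hq4]; norm_num
        exact Nat.pow_right_injective (le_refl 2) h5
      rw [ha2] at hta
      have hset := four h4 h1 hq hθmem hmem' (by omega) (by omega) k1 (by omega) k2 k3
      rw [hq4] at hset
      have ht12 : t = 1 ∨ t = 2 := by omega
      rcases ht12 with h5 | h5
      · refine ⟨4, ?_, by omega, ?_⟩
        · exact (Nat.prime_two.isPrimePow.pow two_ne_zero : IsPrimePow (2 ^ 2))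
        · rw [hset, h5]
          ext x
          simp only [Set.mem_insert_iff, Set.mem_singleton_iff]
          omega
      · refine ⟨5, Nat.prime_five.isPrimePow, by omega, ?_⟩
        rw [hset, h5]

/-! ### Odd characteristic -/

include hc in
/-- A subgroup with trivial field part which is bigger than `M` is a quotient of `GL₂`. -/
theorem exists_GL_surj (H : Subgroup G) (hMH : M ≤ H) (hH1 : ∀ h ∈ H, ff M e h = 1)
    (hne : ∃ h ∈ H, h ∉ M) : ∃ π : GL (Fin 2) F →* H, Function.Surjective π := by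
  classical
  have hinj := Phi_injective M e hc
  obtain ⟨h0, hh0, hh0M⟩ := hne
  obtain ⟨A0, hA0⟩ := form_one M e (hH1 h0 hh0)
  have hA0n : ¬ IsSquare (A0 : M₂).det := fun h => hh0M (mem_of_sq M e hc hA0 h)
  have hsq : ∀ A : GL (Fin 2) F, IsSquare (A : M₂).det → ∃ h : H, Phi M e h = lift (cj A) := by
    intro A hA
    obtain ⟨B, hB⟩ := exists_inner A hA
    refine ⟨⟨(e.symm (pr B) : M), hMH (e.symm (pr B)).2⟩, ?_⟩
    rw [hB, lift_conj]
    change Phi M e ((e.symm (pr B) : M) : G) = _
    rw [Phi_coe, e.apply_symm_apply]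
  have hall : ∀ A : GL (Fin 2) F, ∃ h : H, Phi M e h = lift (cj A) := by
    intro A
    by_cases hA : IsSquare (A : M₂).det
    · exact hsq A hA
    · have h1 : IsSquare ((A0 * A : GL (Fin 2) F) : M₂).det := by
        rw [Units.val_mul, Matrix.det_mul]
        exact Cfsg.Agent.H984.SLTwo.isSquare_mul_of_not hA0n hA
      obtain ⟨h, hh⟩ := hsq (A0 * A) h1
      refine ⟨⟨h0, hh0⟩⁻¹ * h, ?_⟩
      have h2 : ((⟨h0, hh0⟩⁻¹ * h : H) : G) = h0⁻¹ * h := rfl
      rw [h2, map_mul, map_inv, hA0, hh, ← map_inv, ← map_mul, ← map_inv, ← map_mul,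
        inv_mul_cancel_left]
  choose φ hφ using hall
  let π : GL (Fin 2) F →* H := MonoidHom.mk' φ (by
    intro A B
    apply Subtype.ext
    apply hinj
    rw [hφ, Subgroup.coe_mul, map_mul (Phi M e), hφ, hφ, map_mul cj, map_mul lift])
  refine ⟨π, ?_⟩
  intro h
  obtain ⟨A, hA⟩ := form_one M e (hH1 h h.2)
  refine ⟨A, ?_⟩
  apply Subtype.ext
  apply hinj
  change Phi M e (φ A) = _
  rw [hφ, hA]

theorem GL_degrees {m : ℕ} (hq : Fintype.card F = 2 * m + 1) :
    ∀ d ∈ charDegrees (GL (Fin 2) F), d = 1 ∨ d = 2 * m ∨ d = 2 * m + 1 ∨ d = 2 * m + 2 := by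
  classical
  intro d hd
  obtain ⟨χ, hχ, hχd⟩ := mem_charDegrees.1 hd
  have := (Cfsg.Agent.S2298.result (F := F)).1 χ hχ
  rw [hχd, hq] at this
  rcases this with h | h | h | h
  · left; exact_mod_cast h
  · right; left
    have : (d : ℂ) = ((2 * m : ℕ) : ℂ) := by rw [h]; push_cast; ring
    exact_mod_cast this
  · right; right; left; exact_mod_cast h
  · right; right; right
    have : (d : ℂ) = ((2 * m + 2 : ℕ) : ℂ) := by rw [h]; push_cast; ring
    exact_mod_cast this

section oddcase

variable {m : ℕ} (hq : Fintype.card F = 2 * m + 1) (hm : 2 ≤ m)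

include hc hq hm in
/-- `G ≅ PGL₂(q)`. -/
theorem odd_pgl [Finite G] (h4 : (charDegrees G).ncard = 4) (hall : ∀ g : G, ff M e g = 1)
    (hne : ∃ g : G, g ∉ M) : charDegrees G = {1, 2 * m, 2 * m + 1, 2 * m + 2} := by
  obtain ⟨g, hg⟩ := hne
  obtain ⟨π, hπ⟩ := exists_GL_surj M e hc ⊤ le_top (fun h _ => hall h) ⟨g, Subgroup.mem_top g, hg⟩
  apply eq_of_sub h4
  intro x hx
  have h1 : x ∈ charDegrees (⊤ : Subgroup G) := charDegrees_comp
    (Subgroup.topEquiv (G := G)).toMonoidHom (Subgroup.topEquiv (G := G)).surjective hx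
  exact GL_degrees hq x (charDegrees_comp π hπ h1)

include hM e hq hm in
/-- `G ≅ PSL₂(q)`. -/
theorem odd_psl [Finite G] (h4 : (charDegrees G).ncard = 4) (hall : ∀ g : G, g ∈ M) :
    charDegrees G = {1, 3, 4, 5} := by
  classical
  let π : PSL →* G := M.subtype.comp e.symm.toMonoidHom
  have hπ : Function.Bijective π := by
    constructor
    · intro x y hxy
      exact e.symm.injective (Subtype.ext hxy)
    · intro g
      exact ⟨e ⟨g, hall g⟩, by simp [π]⟩
  let E : PSL ≃* G := MulEquiv.ofBijective π hπ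
  have hto : ∀ {d : ℕ}, d ∈ charDegrees PSL → d ∈ charDegrees G := fun {d} hd =>
    charDegrees_comp E.symm.toMonoidHom E.symm.surjective hd
  rcases Nat.lt_or_ge m 3 with h3 | h3
  · have h5 : Fintype.card F = 5 := by omega
    obtain ⟨k3, k4, k5⟩ := Cfsg.Agent.H464.PslDeg.psl_five h5
    exact four h4 one_mem (hto k3) (hto k4) (hto k5) (by omega) (by omega) (by omega) (by omega)
      (by omega) (by omega)
  · exfalso
    obtain ⟨k1, k2⟩ := Cfsg.Agent.H464.PslDeg.psl_degrees (F := F) (by omega)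
    have k0 := steinberg M e (by omega)
    rw [hq] at k0 k1 k2
    obtain ⟨d, hd, hodd⟩ : ∃ d, (d = m ∨ d = m + 1) ∧ Odd d := by
      rcases Nat.even_or_odd m with h | h
      · exact ⟨m + 1, Or.inr rfl, h.add_one⟩
      · exact ⟨m, Or.inl rfl, h⟩
    obtain ⟨θ, hθ, hθd⟩ := L2Char.exists_half hq (by omega) hd hodd
    have k3 : d ∈ charDegrees G := hto (by rw [← hθd]; exact mem_cd hθ)
    have := five h4 one_mem k0 (hto k1) (hto k2) k3 (by omega) (by omega) (by omega) (by omega)
      (by omega) (by omega)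
    omega

/-- The stabilizer has index at most two if there are at most two characters of the degree. -/
theorem St_index_le [Finite G] {θ : PSL → ℂ} (hθ : IsIrrCharacter PSL θ)
    (h : ∀ θ₁ θ₂ : PSL → ℂ, IsIrrCharacter PSL θ₁ → IsIrrCharacter PSL θ₂ →
      charDegree θ₁ = charDegree θ → charDegree θ₂ = charDegree θ → θ₁ ≠ θ → θ₂ ≠ θ → θ₁ = θ₂) :
    (St M e θ).index = 1 ∨ (St M e θ).index = 2 := by
  classical
  by_cases htop : St M e θ = ⊤
  · left; rw [htop, Subgroup.index_top]
  · right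
    obtain ⟨a, ha⟩ : ∃ a, a ∉ St M e θ := by
      by_contra hcon
      push Not at hcon
      exact htop ((Subgroup.eq_top_iff' _).2 hcon)
    have htw : ∀ g : G, IsIrrCharacter PSL (θ ∘ Phi M e g) := fun g =>
      isIrr_comp (Phi M e g : PSL →* PSL) (Phi M e g).surjective hθ
    have htwd : ∀ g : G, charDegree (θ ∘ Phi M e g) = charDegree θ := by
      intro g
      apply charDegree_of_eq
      rw [Function.comp_apply, map_one, irr_one_eq_charDegree hθ]
    have hne : ∀ g : G, g ∉ St M e θ → θ ∘ Phi M e g ≠ θ := by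
      intro g hg h1
      exact hg (fun s => congrFun h1 s)
    rw [Subgroup.index_eq_two_iff]
    refine ⟨a, fun b => ?_⟩
    by_cases hb : b ∈ St M e θ
    · right
      refine ⟨hb, fun h1 => ha ?_⟩
      have := (St M e θ).mul_mem ((St M e θ).inv_mem hb) h1
      simpa using this
    · left
      refine ⟨?_, hb⟩
      have h1 : a⁻¹ ∉ St M e θ := fun h1 => ha ((St M e θ).inv_mem_iff.1 h1)
      have h2 := h _ _ (htw b) (htw a⁻¹) (htwd b) (htwd a⁻¹) (hne b hb) (hne _ h1)
      intro s
      rw [map_mul, MulAut.mul_apply]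
      have h3 := congrFun h2 (Phi M e a s)
      rw [Function.comp_apply, Function.comp_apply, map_inv, MulAut.inv_apply_self] at h3
      exact h3

include hc hq in
/-- A proper field part. -/
theorem odd_field [Finite G] {p a : ℕ} [hp : Fact p.Prime] [CharP F p]
    (ha : Fintype.card F = p ^ a) (h4 : (charDegrees G).ncard = 4) (hne : ∃ h : G, ff M e h ≠ 1) :
    charDegrees G = {1, 9, 10, 16} := by
  classical
  obtain ⟨h, hh⟩ := hne
  have hpa : p ^ a = 2 * m + 1 := by rw [← ha, hq]
  have hp3 : 3 ≤ p := by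
    have h2 := hp.out.two_le
    rcases Nat.lt_or_ge p 3 with h3 | h3
    · exfalso
      have h5 : p = 2 := by omega
      have ha0 : a ≠ 0 := by
        rintro rfl
        have := Fintype.one_lt_card (α := F)
        rw [ha, pow_zero] at this
        omega
      have h6 : 2 ∣ p ^ a := by rw [h5]; exact dvd_pow_self 2 ha0
      omega
    · exact h3
  have hfrob : ∀ g : G, ∃ i : ℕ, i < a ∧ ∀ x, ff M e g x = x ^ p ^ i := fun g => exists_frob ha _
  have hone : ∀ g : G, ∀ i : ℕ, (∀ x, ff M e g x = x ^ p ^ i) → p ^ i = 1 → ff M e g = 1 := by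
    intro g i hi h1
    ext x
    rw [hi, h1, pow_one]
    rfl
  have ha2 : 2 ≤ a := by
    obtain ⟨i, hi, hi'⟩ := hfrob h
    by_contra hcon
    have h5 : i = 0 := by omega
    exact hh (hone h i hi' (by rw [h5, pow_zero]))
  have hsmall : ∀ i < a, 3 * p ^ i ≤ 2 * m + 1 := by
    intro i hi
    rw [← hpa]
    have h5 : p ^ a = p ^ (a - i) * p ^ i := by rw [← pow_add]; congr 1; omega
    rw [h5]
    apply Nat.mul_le_mul_right
    calc 3 ≤ p := hp3
      _ = p ^ 1 := (pow_one p).symm
      _ ≤ p ^ (a - i) := Nat.pow_le_pow_right (by omega) (by omega)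
  have hm4 : 4 ≤ m := by
    have h5 : 3 ^ 2 ≤ p ^ a := (Nat.pow_le_pow_right (by norm_num) ha2).trans (Nat.pow_le_pow_left hp3 a)
    rw [hpa] at h5
    omega
  have h4a : 2 * a ≤ m := by
    have key : ∀ b : ℕ, 4 * (2 + b) < 3 ^ (2 + b) := by
      intro b
      induction b with
      | zero => norm_num
      | succ b ih =>
        rw [show 2 + (b + 1) = (2 + b) + 1 by ring, pow_succ]
        omega
    obtain ⟨b, hb⟩ := Nat.exists_eq_add_of_le ha2
    have h5 := key b
    rw [← hb] at h5
    have h6 : 3 ^ a ≤ p ^ a := Nat.pow_le_pow_left hp3 a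
    rw [hpa] at h6
    omega
  have hidx := index_le M e hc ha
  -- the index of the kernel
  set n := (ff M e).ker.index with hn
  have hn2 : 2 ≤ n := by
    have h5 : n ≠ 0 := Subgroup.index_ne_zero_of_finite
    have h6 : n ≠ 1 := by
      intro h7
      rw [hn, Subgroup.index_eq_one] at h7
      exact hh (h7 ▸ Subgroup.mem_top h : h ∈ (ff M e).ker)
    omega
  have hna : n ≤ a := index_ker_le M e ha
  -- the character of degree `q - 1`
  obtain ⟨θX, hθX, hθXd, hX⟩ := L2Char.exists_X (p := p) (by omega) hq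
  have hXker : St M e θX ≤ (ff M e).ker := by
    intro g hg
    obtain ⟨A, hA⟩ := form M e g
    obtain ⟨i, hi, hi'⟩ := hfrob g
    have h5 := hX A (ff M e g) i hi' (fun s => by rw [← hA]; exact hg s)
    have h6 := hsmall i hi
    have hpi : 0 < p ^ i := pow_pos hp.out.pos i
    apply hone g i hi'
    rcases h5 with h5 | h5
    · rcases Nat.eq_zero_or_pos (p ^ i - 1) with h7 | h7
      · omega
      · have := Nat.le_of_dvd h7 h5
        omega
    · have := Nat.le_of_dvd (by omega) h5
      omega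
  obtain ⟨χ, c, hχ, hχc, hcM, hcSt, hc0⟩ := exists_deg M e hθX
  have hM0 : 0 < M.index := Nat.pos_of_ne_zero Subgroup.index_ne_zero_of_finite
  have hnc : n ∣ c := (Subgroup.index_dvd_of_le hXker).trans hcSt
  have hc2 : 2 ≤ c := hn2.trans (Nat.le_of_dvd hc0 hnc)
  have hcm : c ≤ m := ((Nat.le_of_dvd hM0 hcM).trans hidx).trans h4a
  -- the character of degree `q + 1`
  obtain ⟨θR, hθR, hθRd, hR⟩ := L2Char.exists_R (p := p) (by omega) hq
  have hRker : 4 < m → St M e θR ≤ (ff M e).ker := by
    intro hm5 g hg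
    obtain ⟨A, hA⟩ := form M e g
    obtain ⟨i, hi, hi'⟩ := hfrob g
    have h5 := hR A (ff M e g) i hi' (fun s => by rw [← hA]; exact hg s)
    have h6 := hsmall i hi
    have hpi : 0 < p ^ i := pow_pos hp.out.pos i
    apply hone g i hi'
    rcases h5 with h5 | h5
    · rcases Nat.eq_zero_or_pos (p ^ i - 1) with h7 | h7
      · omega
      · have := Nat.le_of_dvd h7 h5
        omega
    · have := Nat.le_of_dvd (by omega) h5
      omega
  obtain ⟨χ', c', hχ', hχc', hcM', hcSt', hc0'⟩ := exists_deg M e hθR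
  have hc2' : 4 < m → 2 ≤ c' := fun hm5 => hn2.trans (Nat.le_of_dvd hc0'
    ((Subgroup.index_dvd_of_le (hRker hm5)).trans hcSt'))
  have hmemX : 2 * (m * c) ∈ charDegrees G := by
    have := mem_cd hχ
    rwa [hχc, hθXd, mul_assoc] at this
  have hmemR : 2 * ((m + 1) * c') ∈ charDegrees G := by
    have := mem_cd hχ'
    rw [hχc', hθRd] at this
    convert this using 1
    ring
  have hvw : m * c ≠ (m + 1) * c' := by
    intro heq
    have h5 : (m + 1) ∣ c := by
      have h6 : Nat.Coprime (m + 1) m := by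
        rw [Nat.coprime_self_add_left]
        exact Nat.coprime_one_left m
      exact h6.dvd_of_dvd_mul_left (heq ▸ dvd_mul_right _ _)
    have := Nat.le_of_dvd hc0 h5
    omega
  have hv : 2 * m ≤ m * c := by nlinarith
  have hw : m + 1 ≤ (m + 1) * c' := Nat.le_mul_of_pos_right _ hc0'
  have hw' : 4 < m → 2 * (m + 1) ≤ (m + 1) * c' := fun hm5 => by
    have := hc2' hm5
    nlinarith
  have hq' := steinberg M e (by omega)
  rw [hq] at hq'
  have h1 : 1 ∈ charDegrees G := one_mem
  -- the character of degree `(q ± 1) / 2`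
  obtain ⟨d, hd, hodd⟩ : ∃ d, (d = m ∨ d = m + 1) ∧ Odd d := by
    rcases Nat.even_or_odd m with h | h
    · exact ⟨m + 1, Or.inr rfl, h.add_one⟩
    · exact ⟨m, Or.inl rfl, h⟩
  obtain ⟨θ, hθ, hθd⟩ := L2Char.exists_half hq (by omega) hd hodd
  have ht := St_index_le M e hθ (fun θ₁ θ₂ hθ₁ hθ₂ h5 h6 h7 h8 =>
    L2Char.eq_of_ne hq (by omega) hd hθ hθ₁ hθ₂ hθd (h5.trans hθd) (h6.trans hθd) h7 h8)
  have hmemd : (St M e θ).index * d ∈ charDegrees G := by
    have := deg_mem M e hθ (by
      intro g hg hg1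
      obtain ⟨A, hA⟩ := form_one M e hg1
      by_contra hgM
      apply L2Char.not_inv_of_not_square hq (by omega) hθ (A := A)
        (by rcases hd with hd | hd <;> [left; right] <;> rw [hθd, hd])
        (fun hsq => hgM (mem_of_sq M e hc hA hsq))
      intro s
      rw [← hA]
      exact hg s)
    rwa [hθd] at this
  obtain ⟨v, hvd⟩ : ∃ v, v = m * c := ⟨_, rfl⟩
  obtain ⟨w, hwd⟩ : ∃ w, w = (m + 1) * c' := ⟨_, rfl⟩
  rw [← hvd] at hmemX hvw hv
  rw [← hwd] at hmemR hvw hw hw'
  rcases ht with ht | ht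
  · exfalso
    rw [ht, one_mul] at hmemd
    have := five h4 h1 hq' hmemX hmemR hmemd (by omega) (by omega) (by omega) (by omega) (by omega)
      (by omega)
    omega
  · rw [ht] at hmemd
    rcases hd with hd | hd
    · exfalso
      rw [hd] at hmemd
      have := five h4 h1 hq' hmemd hmemX hmemR (by omega) (by omega) (by omega) (by omega) (by omega)
        (by omega)
      omega
    · rw [hd] at hmemd
      have h5 := five h4 h1 hq' hmemd hmemX hmemR (by omega) (by omega) (by omega) (by omega)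
        (by omega) (by omega)
      have hm5 : ¬ 4 < m := fun h6 => by
        have := hw' h6
        omega
      have hm : m = 4 := by omega
      have hset := four h4 h1 hq' hmemd hmemX (by omega) (by omega) (by omega) (by omega)
        (by omega) (by omega)
      subst hm
      have ha2' : a = 2 := by
        have h6 : 3 ^ a ≤ p ^ a := Nat.pow_le_pow_left hp3 a
        rw [hpa] at h6
        by_contra hcon
        have h7 : 3 ^ 3 ≤ 3 ^ a := Nat.pow_le_pow_right (by norm_num) (by omega)
        omega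
      have hn2' : n = 2 := by omega
      have hc4 : c ≤ 4 := hcm
      have hc : c = 2 := by
        by_cases hK : ∀ g ∈ (ff M e).ker, g ∈ M
        · have h6 : M.index ∣ n := Subgroup.index_dvd_of_le hK
          rw [hn2'] at h6
          have := Nat.le_of_dvd (by norm_num) (hcM.trans h6)
          omega
        · push Not at hK
          obtain ⟨π, hπ⟩ := exists_GL_surj M e hc (ff M e).ker (le_ker M e) (fun g hg => hg) hK
          have := Fintype.ofFinite G
          have := Fintype.ofFinite (ff M e).ker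
          have h6 : χ 1 = ((2 * 4 * c : ℕ) : ℂ) := by
            rw [irr_one_eq_charDegree hχ, hχc, hθXd]
          obtain ⟨ψ, b, hψ, hψb, -, hb1, hb2⟩ := Cfsg.Agent.H681.DegBasic.exists_constituent
            (ff M e).ker hχ h6
          have h7 := GL_degrees (m := 4) hq b (charDegrees_comp π hπ (mem_charDegrees.2 ⟨ψ, hψ, hψb⟩))
          rw [← hn, hn2'] at hb2
          have hc24 : c = 2 ∨ c = 4 := by
            rw [hn2'] at hnc
            omega
          rcases hc24 with h8 | h8
          · exact h8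
          · exfalso
            rw [h8] at hb1 hb2
            rcases h7 with rfl | rfl | rfl | rfl <;> revert hb1 hb2 <;> decide
      rw [hset, hvd, hc]

end oddcase

end setup

/-- Task 543 (for S4898). -/
theorem row_psl2 {G : Type u} [Group G] [Finite G] (M : Subgroup G) (hM : M.Normal)
    (hc : Subgroup.centralizer (M : Set G) = ⊥)
    (F : Type) [Field F] [Fintype F] (hF : 4 ≤ Fintype.card F)
    (e : Nonempty (M ≃* Matrix.ProjectiveSpecialLinearGroup (Fin 2) F))
    (h4 : (Cfsg.charDegrees G).ncard = 4) :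
    (∃ q : ℕ, IsPrimePow q ∧ 3 < q ∧ Cfsg.charDegrees G = {1, q - 1, q, q + 1}) ∨
      Cfsg.charDegrees G = {1, 9, 10, 16} := by
  obtain ⟨e⟩ := e
  by_cases h2 : ringChar F = 2
  · left
    exact even_case M e hc h2 hF h4
  · obtain ⟨p, hp⟩ := CharP.exists F
    have hpp : Fact p.Prime := ⟨CharP.char_is_prime F p⟩
    obtain ⟨a, -, ha⟩ := FiniteField.card F p
    have hodd : Fintype.card F % 2 = 1 := FiniteField.odd_card_of_char_ne_two h2
    obtain ⟨m, hm⟩ : ∃ m, Fintype.card F = 2 * m + 1 := ⟨Fintype.card F / 2, by omega⟩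
    have hm2 : 2 ≤ m := by omega
    by_cases hne : ∃ h : G, ff M e h ≠ 1
    · right
      exact odd_field M e hc hm ha h4 hne
    · push Not at hne
      left
      by_cases hM' : ∀ g : G, g ∈ M
      · refine ⟨4, (Nat.prime_two.isPrimePow.pow two_ne_zero : IsPrimePow (2 ^ 2)), by omega, ?_⟩
        exact odd_psl M e hm hm2 h4 hM'
      · push Not at hM'
        refine ⟨2 * m + 1, ?_, by omega, ?_⟩
        · rw [← hm, ha]
          exact hpp.out.isPrimePow.pow a.ne_zero
        · rw [odd_pgl M e hc hm hm2 h4 hne hM']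
          rfl

end Cfsg.Agent.H597.L2Row
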