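import Cfsg.Agent.H596.FldFacts
import Cfsg.Agent.H967.CopSz
import Cfsg.Agent.S1069
import Cfsg.Agent.S1073
import Cfsg.Agent.S1114
import Cfsg.Agent.S1150
import Cfsg.Agent.S1163
import Cfsg.Agent.LieRecognition.ReeDiag
import Cfsg.Agent.Lib.Zsigmondy

/-!
# S4761, row `MOVED-SZREE` (task 3017): coprime automorphisms of `Sz(q)` and `²G₂(q)`
-/

set_option autoImplicit false
set_option linter.unusedSectionVars false

namespace Cfsg.Agent.H597.MovedSz

open Cfsg Cfsg.Lie Cfsg.Agent.H596.Fld Cfsg.Agent.H967.CopMat Cfsg.Agent.H967.CopRow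

section gen

variable {ι : Type*} [Fintype ι] [DecidableEq ι] {F : Type*} [Field F] [Finite F] {G : Subgroup (GL ι F)}

theorem card_fx_dvd_GL (hG : Stab G) (σ : F ≃+* F) :
    Nat.card (fx (fieldAut hG σ)) ∣ Nat.card (GL ι ↥(Fx σ)) := by
  have h1 : Nat.card (fx (fieldAut hG σ)) = Nat.card ((fx (fieldAut hG σ)).map G.subtype) :=
    Nat.card_congr (Subgroup.equivMapOfInjective _ _ G.subtype_injective).toEquiv
  have h2 : Nat.card (GL ι ↥(Fx σ)) =
      Nat.card (Matrix.GeneralLinearGroup.map (Fx σ).subtype : GL ι ↥(Fx σ) →* GL ι F).range :=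
    Nat.card_congr (MonoidHom.ofInjective (Cfsg.Agent.H967.CopMat.map_injective _)).toEquiv
  rw [h1, h2]
  apply Subgroup.card_dvd_of_le
  rintro _ ⟨g, hg, rfl⟩
  exact exists_map σ g.1 ((fixed_iff hG σ g).1 hg)

theorem moved_of_fieldAut {T : Type*} [Group T] [Finite T] (R : Row G) (e : T ≃* ↥G)
    (h : ∀ σ : F ≃+* F, (orderOf σ).Prime → ¬ orderOf σ ∣ Nat.card ↥G →
      (orderOf (fieldAut R.stab σ) = orderOf σ) → Moved (fieldAut R.stab σ)) : TwoMoved T := by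
  intro α hα hd
  obtain ⟨e', σ, h1, h2⟩ := R.exists_equiv_one e α ((Nat.Prime.coprime_iff_not_dvd hα).2 hd)
  exact Moved.of_equiv e' h1 (h σ (by rw [h2]; exact hα) (by rw [h2, ← Nat.card_congr e.toEquiv]; exact hd)
    (orderOf_injective _ R.inj σ))

/-- elements of order `s` in the fixed field are trivial -/
theorem eq_one_of_fixed {σ : F ≃+* F} {s : ℕ} (hs : s.Prime) (hd : ¬ s ∣ Nat.card ↥(Fx σ) - 1) {x : F}
    (hx : x ^ s = 1) (hσ : σ x = x) : x = 1 := by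
  have hx0 : x ≠ 0 := by
    rintro rfl
    rw [zero_pow hs.ne_zero] at hx
    exact zero_ne_one hx
  have h1 : (Units.mk0 (⟨x, hσ⟩ : ↥(Fx σ)) (fun h => hx0 (congrArg Subtype.val h))) ^ s = 1 := by
    apply Units.ext
    apply Subtype.ext
    exact hx
  have h2 : orderOf (Units.mk0 (⟨x, hσ⟩ : ↥(Fx σ)) (fun h => hx0 (congrArg Subtype.val h))) ∣ Nat.card ↥(Fx σ) - 1 := by
    rw [← Nat.card_units]
    exact orderOf_dvd_natCard _
  have h3 := orderOf_dvd_of_pow_eq_one h1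
  rcases (Nat.dvd_prime hs).1 h3 with h4 | h4
  · rw [orderOf_eq_one_iff] at h4
    have h5 := congrArg (fun u : (↥(Fx σ))ˣ => ((u : ↥(Fx σ)) : F)) h4
    exact h5
  · rw [h4] at h2
    exact absurd h2 hd

end gen

section num

theorem prime_facts {a s n : ℕ} (hs : s.Prime) (ha : 0 < a) (hn : n ≠ 0) (ho : orderOf (a : ZMod s) = n) :
    (∀ i, s ∣ a ^ i - 1 ↔ n ∣ i) ∧ ¬ s ∣ a := by
  have := Fact.mk hs
  constructor
  · intro i
    rw [dvd_pow_sub_one_iff ha, ← ho, orderOf_dvd_iff_pow_eq_one]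
  · intro h
    have h3 := (ZMod.natCast_eq_zero_iff _ _).2 h
    have h4 : (a : ZMod s) ^ n = 1 := by rw [← ho]; exact pow_orderOf_eq_one _
    rw [h3, zero_pow hn] at h4
    exact zero_ne_one h4

end num

/-! ### Suzuki groups -/

section Sz

open Cfsg.Agent.LieRecognition.SzMatrix

variable {F : Type*} [Field F] [Fintype F] {m : ℕ}

/-- the torus -/
def dHom (hF : Fintype.card F = 2 ^ (2 * m + 1)) : Fˣ →* ↥(Cfsg.Lie.Sz F (2 ^ (m + 1))) :=
  MonoidHom.mk' (good hF).d fun k l => ((good hF).d_mul k l).symm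

theorem fieldAut_d (hF : Fintype.card F = 2 ^ (2 * m + 1)) (σ : F ≃+* F) (k : Fˣ) :
    fieldAut (Cfsg.Agent.H967.CopSz.stab_sz hF) σ ((good hF).d k) = (good hF).d (Units.map (σ : F →* F) k) := by
  have hθ : ∀ x : F, σ (theta hF x) = theta hF (σ x) := fun x => by
    rw [← (good hF).pow, ← (good hF).pow, map_pow]
  apply ext_mat
  intro i j
  rw [fieldAut_apply]
  change σ (Dmat (theta hF) k i j) = Dmat (theta hF) (Units.map (σ : F →* F) k) i j
  fin_cases i <;> fin_cases j <;> simp [Dmat, hθ]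

theorem moved_sz (hm : 1 ≤ m) (hF : Fintype.card F = 2 ^ (2 * m + 1)) (σ : F ≃+* F) (hσ : (orderOf σ).Prime)
    (hd : ¬ orderOf σ ∣ Nat.card ↥(Cfsg.Lie.Sz F (2 ^ (m + 1))))
    (ho : orderOf (fieldAut (Cfsg.Agent.H967.CopSz.stab_sz hF) σ) = orderOf σ) :
    Moved (fieldAut (Cfsg.Agent.H967.CopSz.stab_sz hF) σ) := by
  have hcard := (Cfsg.Agent.S1163.result hm hF).1
  obtain ⟨p, hp⟩ : ∃ p, orderOf σ = p := ⟨_, rfl⟩
  obtain ⟨q₀, hq₀⟩ : ∃ q₀, Nat.card ↥(Fx σ) = q₀ := ⟨_, rfl⟩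
  have hqq : 2 ^ (2 * m + 1) = q₀ ^ p := by
    rw [← hF, ← Nat.card_eq_fintype_card, card_Fx σ, hq₀, hp]
  have hq₀1 : 1 < q₀ := by
    rw [← hq₀]
    exact Finite.one_lt_card
  rw [hp] at hσ
  have h2q₀ : 2 ∣ q₀ := by
    apply Nat.prime_two.dvd_of_dvd_pow (n := p)
    rw [← hqq]
    exact dvd_pow_self 2 (by omega)
  have hp2 : p ≠ 2 := by
    rintro rfl
    apply hd
    rw [hcard, hp]
    exact ((((dvd_pow_self 2 (by omega : 2 * m + 1 ≠ 0)).trans (dvd_pow_self _ (by norm_num))).mul_right _).mul_right _)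
  have hp3 : 3 ≤ p := by have := hσ.two_le; omega
  obtain ⟨s₁, hs₁, ho₁⟩ := Cfsg.Agent.Lib.Zsigmondy.exists_prime_orderOf (a := q₀) (n := p) (by omega) (by omega)
    (by omega) (by rintro ⟨-, rfl⟩; revert hσ; norm_num)
  obtain ⟨s₂, hs₂, ho₂⟩ := Cfsg.Agent.Lib.Zsigmondy.exists_prime_orderOf (a := q₀) (n := 4 * p) (by omega) (by omega)
    (by omega) (by omega)
  obtain ⟨f₁, n₁⟩ := prime_facts hs₁ (by omega) (by omega) ho₁
  obtain ⟨f₂, n₂⟩ := prime_facts hs₂ (by omega) (by omega) ho₂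
  have := Fact.mk hs₁
  have := Fact.mk hs₂
  have hne : s₁ ≠ s₂ := by
    rintro rfl
    rw [ho₁] at ho₂
    omega
  rw [hqq] at hcard
  have hd₁ : s₁ ∣ q₀ ^ p - 1 := (f₁ p).2 dvd_rfl
  have hd₂ : s₂ ∣ (q₀ ^ p) ^ 2 + 1 := by
    have h1 : s₂ ∣ (q₀ ^ p) ^ 4 - 1 := by
      rw [← pow_mul, f₂]
      exact ⟨1, by ring⟩
    have h2 : ¬ s₂ ∣ (q₀ ^ p) ^ 2 - 1 := by
      rw [← pow_mul, f₂]
      intro h
      have := Nat.le_of_dvd (by positivity) h
      omega
    have h3 : (q₀ ^ p) ^ 4 - 1 = ((q₀ ^ p) ^ 2 + 1) * ((q₀ ^ p) ^ 2 - 1) := by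
      have := Nat.sq_sub_sq ((q₀ ^ p) ^ 2) 1
      rw [one_pow, ← pow_mul (q₀ ^ p) 2 2] at this
      exact this
    rw [h3] at h1
    exact (hs₂.dvd_mul.1 h1).resolve_right h2
  have ho' : (orderOf (fieldAut (Cfsg.Agent.H967.CopSz.stab_sz hF) σ)).Prime := by rw [ho, hp]; exact hσ
  have hd' : ¬ orderOf (fieldAut (Cfsg.Agent.H967.CopSz.stab_sz hF) σ) ∣
      Nat.card ↥(Cfsg.Lie.Sz F (2 ^ (m + 1))) := by rw [ho]; exact hd
  refine moved_of_primes ho' hd' hs₁ hs₂ hne ?_ ?_ ?_ ?_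
  · rw [hcard]
    exact (hd₁.mul_left _).mul_right _
  · rw [hcard]
    exact hd₂.mul_left _
  · -- the torus
    refine not_dvd_of_torus ho' hd' (T := (dHom hF).range) ?_ ?_ ?_
    · rintro _ ⟨k, rfl⟩
      exact ⟨_, (fieldAut_d hF σ k).symm⟩
    · have h1 : Nat.card (dHom hF).range = q₀ ^ p - 1 := by
        rw [← hqq, ← hF, ← Nat.card_eq_fintype_card (α := F), ← Nat.card_units]
        exact (Nat.card_congr (MonoidHom.ofInjective (fun k l h => (good hF).d_inj h)).toEquiv).symm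
      have h2 := (dHom hF).range.card_mul_index
      have h0 : 0 < q₀ ^ p - 1 := by
        have := Nat.one_lt_pow (n := p) (by omega) hq₀1
        omega
      have h3 : (dHom hF).range.index = (q₀ ^ p) ^ 2 * ((q₀ ^ p) ^ 2 + 1) := by
        apply Nat.eq_of_mul_eq_mul_left h0
        rw [← h1, h2, hcard, h1]
        ring
      rw [h3, hs₁.dvd_mul]
      rintro (h4 | h4)
      · exact n₁ (hs₁.dvd_of_dvd_pow (hs₁.dvd_of_dvd_pow h4))
      · have h5 : s₁ ∣ (q₀ ^ p) ^ 2 - 1 := by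
          rw [← pow_mul, f₁]
          exact dvd_mul_right _ _
        have h6 : s₁ ∣ ((q₀ ^ p) ^ 2 + 1) - ((q₀ ^ p) ^ 2 - 1) := Nat.dvd_sub h4 h5
        have h7 : 1 ≤ (q₀ ^ p) ^ 2 := Nat.one_le_pow _ _ (by positivity)
        rw [show ((q₀ ^ p) ^ 2 + 1) - ((q₀ ^ p) ^ 2 - 1) = 2 by omega] at h6
        rw [(Nat.prime_dvd_prime_iff_eq hs₁ Nat.prime_two).1 h6] at n₁
        exact n₁ h2q₀
    · rintro _ ⟨k, rfl⟩ hk hfix
      change fieldAut (Cfsg.Agent.H967.CopSz.stab_sz hF) σ ((good hF).d k) = (good hF).d k at hfix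
      rw [fieldAut_d] at hfix
      have h1 := (good hF).d_inj hfix
      have h2 : σ (k : F) = k := congrArg Units.val h1
      have h3 : k ^ s₁ = 1 := by
        have h4 : (dHom hF) (k ^ s₁) = (dHom hF) 1 := by
          rw [map_pow, map_one, ← hk, pow_orderOf_eq_one]
        exact (good hF).d_inj h4
      have h4 : (k : F) ^ s₁ = 1 := by rw [← Units.val_pow_eq_pow_val, h3, Units.val_one]
      have h5 : (k : F) = 1 := eq_one_of_fixed hs₁ (by
        rw [hq₀]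
        intro h
        have h6 := (f₁ 1).1 (by rwa [pow_one])
        have := Nat.le_of_dvd (by norm_num) h6
        omega) h4 h2
      have h6 : k = 1 := Units.ext h5
      rw [h6, map_one, orderOf_one] at hk
      exact hs₁.one_lt.ne hk
  · intro hcon
    have h1 := hcon.trans (card_fx_dvd_GL (Cfsg.Agent.H967.CopSz.stab_sz hF) σ)
    have hft : Fintype ↥(Fx σ) := Fintype.ofFinite _
    rw [Matrix.card_GL_field, ← Nat.card_eq_fintype_card, hq₀] at h1
    obtain ⟨i, -, h2⟩ := (hs₂.prime.dvd_finsetProd_iff _).1 h1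
    have h3 : q₀ ^ 4 - q₀ ^ (i : ℕ) = q₀ ^ (i : ℕ) * (q₀ ^ (4 - (i : ℕ)) - 1) := by
      rw [Nat.mul_sub, mul_one, ← pow_add, show (i : ℕ) + (4 - (i : ℕ)) = 4 by omega]
    rw [h3] at h2
    rcases hs₂.dvd_mul.1 h2 with h4 | h4
    · exact n₂ (hs₂.dvd_of_dvd_pow h4)
    · have h5 := Nat.le_of_dvd (by omega) ((f₂ _).1 h4)
      omega

/-- **Suzuki groups** -/
theorem row_sz {G : Type*} [Group G] [Finite G] (hG : Lie.IsoSuzuki G) : TwoMoved G := by
  obtain ⟨F, _, _, m, hm, hF, ⟨e⟩⟩ := hG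
  exact moved_of_fieldAut (Cfsg.Agent.H967.CopSz.row_sz hm hF) e fun σ hσ hd ho => moved_sz hm hF σ hσ hd ho

end Sz

/-! ### Ree groups -/

section Ree

variable {K : Type*} [Field K] [Fintype K] {m : ℕ}

open Cfsg.Agent.ChevStructure.FieldMap

/-- the field automorphisms preserve the diagonal subgroup -/
theorem map_mem_diag (σ : K ≃+* K) {g : GL chevG2.Idx K} (hg : g ∈ chevG2.diagonalSubgroup K) :
    Matrix.GeneralLinearGroup.map (σ : K →+* K) g ∈ chevG2.diagonalSubgroup K := by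
  have h1 : chevG2.diagonalSubgroup K ≤
      (chevG2.diagonalSubgroup K).comap (Matrix.GeneralLinearGroup.map (σ : K →+* K)) := by
    unfold ChevalleyDatum.diagonalSubgroup
    rw [Subgroup.closure_le]
    rintro h ⟨r, t, hr, ht, hh⟩
    refine Subgroup.subset_closure ⟨r, σ t, hr, ?_, ?_⟩
    · exact (map_ne_zero_iff σ σ.injective).2 ht
    · change (h : Matrix chevG2.Idx chevG2.Idx K).map σ = _
      rw [hh]
      have h2 := wordMat_map chevG2 (σ : K →+* K) (chevG2.hWord r t)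
      have h3 : (chevG2.hWord r t).map (fun p => (p.1, (σ : K →+* K) p.2)) = chevG2.hWord r (σ t) := by
        simp [ChevalleyDatum.hWord, ChevalleyDatum.nWord]
      rw [h3] at h2
      exact h2
  exact h1 hg

theorem moved_ree (hm : 1 ≤ m) (hK : Fintype.card K = 3 ^ (2 * m + 1)) (σ : K ≃+* K) (hσ : (orderOf σ).Prime)
    (hd : ¬ orderOf σ ∣ Nat.card ↥(twistedG2 K (3 ^ m)))
    (ho : orderOf (fieldAut (Cfsg.Agent.H967.CopSz.stab_g2 (K := K) (3 ^ m)) σ) = orderOf σ) :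
    Moved (fieldAut (Cfsg.Agent.H967.CopSz.stab_g2 (K := K) (3 ^ m)) σ) := by
  have hcard := Cfsg.Agent.S1069.result (K := K) hK
  obtain ⟨p, hp⟩ : ∃ p, orderOf σ = p := ⟨_, rfl⟩
  obtain ⟨q₀, hq₀⟩ : ∃ q₀, Nat.card ↥(Fx σ) = q₀ := ⟨_, rfl⟩
  have hqq : 3 ^ (2 * m + 1) = q₀ ^ p := by
    rw [← hK, ← Nat.card_eq_fintype_card, card_Fx σ, hq₀, hp]
  have hq₀1 : 1 < q₀ := by
    rw [← hq₀]
    exact Finite.one_lt_card
  rw [hp] at hσ
  have hqodd : Odd (q₀ ^ p) := by rw [← hqq]; exact (by decide : Odd 3).pow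
  have hq₀odd : Odd q₀ := Nat.Odd.of_mul_left (n := q₀ ^ (p - 1)) (by
    rw [← pow_succ', Nat.sub_add_cancel hσ.one_le]; exact hqodd)
  have h1q : 1 < q₀ ^ p := Nat.one_lt_pow hσ.ne_zero hq₀1
  have hev : 2 ∣ q₀ ^ p - 1 := by
    obtain ⟨k, hk⟩ := hqodd
    exact ⟨k, by omega⟩
  rw [hqq] at hcard
  have hp2 : p ≠ 2 := by
    rintro rfl
    apply hd
    rw [hcard, hp]
    exact (hev.mul_left _).mul_right _
  have hp3 : 3 ≤ p := by have := hσ.two_le; omega
  obtain ⟨s, hs, hos⟩ := Cfsg.Agent.Lib.Zsigmondy.exists_prime_orderOf (a := q₀) (n := p) (by omega) (by omega)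
    (by omega) (by rintro ⟨-, rfl⟩; revert hσ; norm_num)
  obtain ⟨f₁, n₁⟩ := prime_facts hs (by omega) (by omega) hos
  have := Fact.mk hs
  have hs2 : s ≠ 2 := by
    rintro rfl
    have h1 : (2 : ℕ) ∣ q₀ ^ 1 - 1 := by
      obtain ⟨k, hk⟩ := hq₀odd
      exact ⟨k, by rw [pow_one]; omega⟩
    have := Nat.le_of_dvd (by norm_num) ((f₁ 1).1 h1)
    omega
  have hd₁ : s ∣ q₀ ^ p - 1 := (f₁ p).2 dvd_rfl
  have ho' : (orderOf (fieldAut (Cfsg.Agent.H967.CopSz.stab_g2 (K := K) (3 ^ m)) σ)).Prime := by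
    rw [ho, hp]; exact hσ
  have hd' : ¬ orderOf (fieldAut (Cfsg.Agent.H967.CopSz.stab_g2 (K := K) (3 ^ m)) σ) ∣
      Nat.card ↥(twistedG2 K (3 ^ m)) := by rw [ho]; exact hd
  -- the torus
  obtain ⟨T, hT⟩ : ∃ T : Subgroup ↥(twistedG2 K (3 ^ m)),
      T = (chevG2.diagonalSubgroup K ⊓ twistedG2 K (3 ^ m)).subgroupOf (twistedG2 K (3 ^ m)) := ⟨_, rfl⟩
  let eT : T ≃* ↥(chevG2.diagonalSubgroup K ⊓ twistedG2 K (3 ^ m)) :=
    (MulEquiv.subgroupCongr hT).trans (Subgroup.subgroupOfEquivOfLe inf_le_right)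
  have hTc : Nat.card T = q₀ ^ p - 1 := by
    rw [Nat.card_congr eT.toEquiv, Cfsg.Agent.S1114.result hK, hqq]
  have hcyc : IsCyclic T := by
    have := Cfsg.Agent.S1150.result (K := K) hK
    exact isCyclic_of_surjective eT.symm eT.symm.surjective
  have hmem : ∀ x : ↥(twistedG2 K (3 ^ m)), x ∈ T ↔ (x : GL chevG2.Idx K) ∈ chevG2.diagonalSubgroup K := by
    intro x
    rw [hT, Subgroup.mem_subgroupOf, Subgroup.mem_inf]
    exact ⟨fun h => h.1, fun h => ⟨h, x.2⟩⟩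
  have hnd : ¬ s ∣ Nat.card (fx (fieldAut (Cfsg.Agent.H967.CopSz.stab_g2 (K := K) (3 ^ m)) σ)) := by
    refine not_dvd_of_torus ho' hd' (T := T) ?_ ?_ ?_
    · intro x hx
      rw [hmem] at hx ⊢
      exact map_mem_diag σ hx
    · have h2 := T.card_mul_index
      have h3 : T.index = (q₀ ^ p) ^ 3 * ((q₀ ^ p) ^ 3 + 1) := by
        apply Nat.eq_of_mul_eq_mul_left (by omega : 0 < q₀ ^ p - 1)
        rw [← hTc, h2, hcard, hTc]
        ring
      rw [h3, hs.dvd_mul]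
      rintro (h4 | h4)
      · exact n₁ (hs.dvd_of_dvd_pow (hs.dvd_of_dvd_pow h4))
      · have h5 : s ∣ (q₀ ^ p) ^ 3 - 1 := by
          rw [← pow_mul, f₁]
          exact dvd_mul_right _ _
        have h6 : s ∣ ((q₀ ^ p) ^ 3 + 1) - ((q₀ ^ p) ^ 3 - 1) := Nat.dvd_sub h4 h5
        have h7 : 1 ≤ (q₀ ^ p) ^ 3 := Nat.one_le_pow _ _ (by positivity)
        rw [show ((q₀ ^ p) ^ 3 + 1) - ((q₀ ^ p) ^ 3 - 1) = 2 by omega] at h6
        exact hs2 ((Nat.prime_dvd_prime_iff_eq hs Nat.prime_two).1 h6)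
    · intro x hx hxo hfix
      obtain ⟨d, hdx⟩ := Cfsg.Agent.LieRecognition.ReeDiag.diagonal_of_mem ((hmem x).1 hx)
      have h1 := (fixed_iff _ σ x).1 hfix
      have h2 : (((x ^ s : ↥(twistedG2 K (3 ^ m))) : GL chevG2.Idx K) : Matrix chevG2.Idx chevG2.Idx K) = 1 := by
        rw [← hxo, pow_orderOf_eq_one]
        rfl
      rw [Subgroup.coe_pow, Units.val_pow_eq_pow_val, hdx, Matrix.diagonal_pow] at h2
      have h3 : ∀ i, d i = 1 := by
        intro i
        have h4 : d i ^ s = 1 := by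
          have := congrFun (congrFun h2 i) i
          rwa [Matrix.diagonal_apply_eq, Matrix.one_apply_eq] at this
        have h5 : σ (d i) = d i := by
          have := h1 i i
          rwa [hdx, Matrix.diagonal_apply_eq] at this
        refine eq_one_of_fixed hs ?_ h4 h5
        rw [hq₀]
        intro h
        have h6 := (f₁ 1).1 (by rwa [pow_one])
        have := Nat.le_of_dvd (by norm_num) h6
        omega
      have h4 : x = 1 := by
        apply Subtype.ext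
        apply Units.ext
        rw [hdx, show d = fun _ => 1 from funext h3]
        exact Matrix.diagonal_one
      rw [h4, orderOf_one] at hxo
      exact hs.one_lt.ne hxo
  -- elements of `T`
  have h2T : 2 ∣ Nat.card T := by rw [hTc]; exact hev
  have hsT : s ∣ Nat.card T := by rw [hTc]; exact hd₁
  have h2f : Fact (Nat.Prime 2) := ⟨Nat.prime_two⟩
  obtain ⟨u, hu⟩ := exists_prime_orderOf_dvd_card' 2 h2T
  obtain ⟨a, ha⟩ := exists_prime_orderOf_dvd_card' s hsT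
  have hcomm : a * u = u * a := (IsCyclic.isMulCommutative (α := T)).is_comm.comm a u
  refine moved_of_mul ho' hd' hnd (a := a) (u := u) ?_ ?_ ?_ ?_
  · rw [Subgroup.orderOf_coe, ha]
  · exact congrArg Subtype.val hcomm
  · rw [Subgroup.orderOf_coe, Subgroup.orderOf_coe, ha, hu]
    exact (Nat.coprime_primes hs Nat.prime_two).2 hs2
  · intro h
    have h1 : orderOf (u : ↥(twistedG2 K (3 ^ m))) = 1 := by rw [h, orderOf_one]
    rw [Subgroup.orderOf_coe, hu] at h1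
    norm_num at h1

/-- **Ree groups** -/
theorem row_ree {G : Type*} [Group G] [Finite G] (hG : Lie.IsoRee G) : TwoMoved G := by
  obtain ⟨K, _, _, m, hm, hK, ⟨e⟩⟩ := hG
  exact moved_of_fieldAut (Cfsg.Agent.H967.CopSz.row_ree hm hK) e fun σ hσ hd ho => moved_ree hm hK σ hσ hd ho

end Ree

end Cfsg.Agent.H597.MovedSz
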