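import Cfsg.Agent.H899.Cyc.CycOut
import Cfsg.Agent.H884.CgLin
import Cfsg.Agent.H304.GeoL
import Cfsg.Agent.LieClassical.SLGen

/-!
# Cyclic primes of `PSL_n(q)` (helper597, for helper899: S3679 and S3561)

* `cycW_psl` : a prime `u` primitive for `q ^ e - 1`, `2 ≤ e ≤ n < 2 e`, is weakly cyclic for `PSL_n(q)`;
* `cyc_psl'` : `Cyc` if moreover `u ≥ 5` and `NDF q u`; `cyc_psl` : the case `3 ≤ e`.
-/

set_option autoImplicit false
set_option linter.style.haveILetI false

namespace Cfsg.Agent.H597.CycL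

open Matrix Cfsg Cfsg.Geo Module Cfsg.Agent.H728.DghpNum Cfsg.Agent.H304.Ppd Cfsg.Agent.H304.PslT
open Cfsg.Agent.H899.CG Cfsg.Agent.H884.Cg Cfsg.Agent.H951 Cfsg.Agent.H436 Cfsg.Agent.OrdDiv Cfsg.Agent.H915.GN

theorem ppd_of_prim {q e u : ℕ} (hq : 1 ≤ q) (h : Prim q e u) : Ppd q e u := by
  refine ⟨h.prime, ?_, h.not_dvd⟩
  apply Nat.dvd_antisymm
  · rw [← Lib.Zsigmondy.dvd_pow_sub_one_iff hq]
    exact (h.dvd_iff e).2 dvd_rfl
  · rw [← h.dvd_iff, Lib.Zsigmondy.dvd_pow_sub_one_iff hq]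

theorem prim_of_ppd {q e u : ℕ} (h : Ppd q e u) : Prim q e u := ⟨h.prime, h.dvd_iff, h.ndvd⟩

/-- **Primitive primes not dividing the field exponent.** -/
theorem exists_ppd_ndf {F : Type*} [Field F] [Fintype F] {e : ℕ} (he : 3 ≤ e) (h6 : ¬ (Fintype.card F = 2 ∧ e = 6)) :
    ∃ u, Ppd (Fintype.card F) e u ∧ NDF (Fintype.card F) u := by
  obtain ⟨u, h1, h2⟩ := exists_prim_ndf (q := Fintype.card F) Fintype.isPrimePow_card_of_field he h6
  exact ⟨u, ppd_of_prim Fintype.card_pos h1, h2⟩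

/-- `NDF` for powers -/
theorem ndf_pow {q r u : ℕ} (hq : IsPrimePow q) (hr : 1 ≤ r) (hu : u.Prime) (hur : ¬ u ∣ r) (h : NDF q u) :
    NDF (q ^ r) u := by
  obtain ⟨p, f, hp, hf, rfl⟩ := (isPrimePow_nat_iff q).1 hq
  rw [← pow_mul, ndf_iff hp (Nat.mul_pos hf hr)]
  intro hd
  rcases hu.dvd_mul.1 hd with h1 | h1
  · exact h p f hp rfl h1
  · exact hur h1

/-- two primes -/
theorem not_comm_of_primes {T : Type*} [Group T] [Finite T] [IsSimpleGroup T] {r s : ℕ} (hr : r.Prime) (hs : s.Prime)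
    (hrs : r ≠ s) (h1 : r ∣ Nat.card T) (h2 : s ∣ Nat.card T) : ¬ ∀ a b : T, a * b = b * a := by
  intro hc
  have := Fact.mk hr
  obtain ⟨x, hx⟩ := exists_prime_orderOf_dvd_card' r h1
  have hn : (Subgroup.zpowers x).Normal := ⟨fun n hn g => by rw [hc g n, mul_inv_cancel_right]; exact hn⟩
  rcases hn.eq_bot_or_eq_top with h | h
  · rw [Subgroup.zpowers_eq_bot] at h
    rw [h, orderOf_one] at hx
    exact hr.one_lt.ne hx
  · have h3 : Nat.card T = r := by
      rw [← hx, ← Nat.card_zpowers, h, Subgroup.card_top]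
    rw [h3] at h2
    exact hrs ((Nat.prime_dvd_prime_iff_eq hs hr).1 h2).symm

section rep

variable {F : Type*} [Field F] {n : ℕ}

/-- the natural representation -/
noncomputable def rep (n : ℕ) (F : Type*) [Field F] : Matrix.SpecialLinearGroup (Fin n) F →* Module.End F (Fin n → F) where
  toFun x := Matrix.toLin' (x : Matrix (Fin n) (Fin n) F)
  map_one' := by
    rw [Matrix.SpecialLinearGroup.coe_one, Matrix.toLin'_one]
    rfl
  map_mul' x y := by
    rw [Matrix.SpecialLinearGroup.coe_mul, Matrix.toLin'_mul]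
    rfl

theorem rep_injective : Function.Injective (rep n F) := fun _ _ h =>
  Subtype.ext (Matrix.toLin'.injective h)

variable [Fintype F]

/-- the centre of `SL_n(q)` -/
theorem not_dvd_center {e u : ℕ} (hu : Ppd (Fintype.card F) e u) (he : 2 ≤ e) :
    ¬ u ∣ Nat.card (Subgroup.center (Matrix.SpecialLinearGroup (Fin n) F)) := by
  intro h
  rw [Nat.card_congr (Matrix.SpecialLinearGroup.center_equiv_rootsOfUnity (n := Fin n) (R := F)).toEquiv] at h
  have h1 := h.trans (Subgroup.card_subgroup_dvd_card (rootsOfUnity (max (Fintype.card (Fin n)) 1) F))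
  rw [Nat.card_units, Nat.card_eq_fintype_card] at h1
  have h2 := (hu.dvd_iff 1).1 (by rwa [pow_one])
  have := Nat.le_of_dvd one_pos h2
  omega

/-- **Weakly cyclic primes of `PSL_n(q)`.** -/
theorem cycW_psl {e u : ℕ} (he : 2 ≤ e) (hen : e ≤ n) (hn : n < 2 * e) (hu : Ppd (Fintype.card F) e u) :
    CycW (Matrix.ProjectiveSpecialLinearGroup (Fin n) F) u := by
  have hlt := hu.lt
  have := Fact.mk hu.prime
  have h0 : (u : F) ≠ 0 := hu.natCast_ne (k := 1) (by rw [pow_one])
  refine cycW_of (pr n F) (QuotientGroup.mk'_surjective _) ?_ hu.prime (by omega) h0 ?_ (dvd_card he hen hu)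
    (rep n F) rep_injective (show 0 < e by omega) (show e ≤ 2 * e by omega) ?_ ?_
  · rw [QuotientGroup.ker_mk']
  · rw [QuotientGroup.ker_mk']
    exact not_dvd_center hu he
  · intro g hg hg1
    have hx : rep n F g ^ u = 1 := by rw [← map_pow, hg, map_one]
    have h1 := ord_dvd_finrank hx inv_cm (inf_fx_of_le_cm h0 hx le_rfl)
    rw [hu.ord] at h1
    have h2 : finrank F ↥(cm (rep n F g)) ≤ n := by
      have := Submodule.finrank_le (cm (rep n F g))
      rwa [finrank_fintype_fun_eq_card, Fintype.card_fin] at this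
    have h3 : finrank F ↥(cm (rep n F g)) ≠ 0 := by
      intro h4
      have h5 := Submodule.finrank_eq_zero.1 h4
      apply hg1
      apply rep_injective
      rw [map_one]
      exact sub_eq_zero.1 (LinearMap.range_eq_bot.1 h5)
    obtain ⟨c, hc⟩ := h1
    rcases c with _ | _ | c
    · rw [mul_zero] at hc
      exact absurd hc h3
    · rw [hc, zero_add, mul_one]
    · exfalso
      rw [hc] at h2
      have : e * 2 ≤ e * (c + 1 + 1) := Nat.mul_le_mul_left e (by omega)
      omega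
  · intro g hg U hU hUf hU0
    have hx : rep n F g ^ u = 1 := by rw [← map_pow, hg, map_one]
    have h1 := ord_dvd_finrank hx hU hUf
    rw [hu.ord] at h1
    exact Nat.le_of_dvd (Nat.pos_of_ne_zero fun h => hU0 (Submodule.finrank_eq_zero.1 h)) h1

end rep

section cyc

variable {F : Type} [Field F] [Fintype F] {n : ℕ}

theorem not_comm_psl (hn : 3 ≤ n) :
    ¬ ∀ a b : Matrix.ProjectiveSpecialLinearGroup (Fin n) F, a * b = b * a := by
  haveI : IsSimpleGroup (Matrix.ProjectiveSpecialLinearGroup (Fin n) F) :=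
    LieClassical.SLGen.psl_isSimpleGroup (by rw [Fintype.card_fin]; exact hn)
  haveI : Finite (Matrix.ProjectiveSpecialLinearGroup (Fin n) F) := Quotient.finite _
  obtain ⟨u, hu⟩ := exists_ppd (q := Fintype.card F) (e := 3) Fintype.one_lt_card le_rfl (by omega)
  have := hu.lt
  exact not_comm_of_primes Nat.prime_two hu.prime (by omega) (even_card hn) (dvd_card (by norm_num) hn hu)

/-- **Cyclic primes of `PSL_n(q)`.** -/
theorem cyc_psl' {e u : ℕ} (hn3 : 3 ≤ n) (he : 2 ≤ e) (hen : e ≤ n) (hn : n < 2 * e) (hu : Ppd (Fintype.card F) e u)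
    (h5 : 5 ≤ u) (hndf : NDF (Fintype.card F) u) : Cyc (Matrix.ProjectiveSpecialLinearGroup (Fin n) F) u := by
  haveI : IsSimpleGroup (Matrix.ProjectiveSpecialLinearGroup (Fin n) F) :=
    LieClassical.SLGen.psl_isSimpleGroup (by rw [Fintype.card_fin]; exact hn3)
  haveI : Finite (Matrix.ProjectiveSpecialLinearGroup (Fin n) F) := Quotient.finite _
  obtain ⟨p, a, hp, ha, hpa⟩ := (isPrimePow_nat_iff _).1 (Fintype.isPrimePow_card_of_field (α := F))
  have hT : IsNamed (.psl n (Fintype.card F)) (Matrix.ProjectiveSpecialLinearGroup (Fin n) F) :=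
    .mk' ⟨F, inferInstance, inferInstance, rfl, ⟨MulEquiv.refl _⟩⟩
      ⟨by omega, by omega, Fintype.isPrimePow_card_of_field⟩ (psl_eq (by omega))
  refine cyc_of_weak (g := .psl n (Fintype.card F)) (not_comm_psl hn3) hp hT ⟨a, hpa.symm⟩ h5 hndf ?_
    (cycW_psl he hen hn hu)
  show ¬ u ∣ Fintype.card F - 1
  intro h
  have h2 := (hu.dvd_iff 1).1 (by rwa [pow_one])
  have := Nat.le_of_dvd one_pos h2
  omega

/-- **Cyclic primes of `PSL_n(q)`.** -/
theorem cyc_psl {e u : ℕ} (he3 : 3 ≤ e) (he : e ≤ n) (hn : n < 2 * e) (hu : Prim (Fintype.card F) e u)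
    (hndf : NDF (Fintype.card F) u) : Cyc (Matrix.ProjectiveSpecialLinearGroup (Fin n) F) u := by
  have hP := ppd_of_prim Fintype.card_pos hu
  refine cyc_psl' (he3.trans he) (by omega) he hn hP ?_ hndf
  have h1 := hP.lt
  by_contra hcon
  have h4 : u = 4 := by omega
  have := hu.prime
  rw [h4] at this
  exact absurd this (by norm_num)

end cyc

end Cfsg.Agent.H597.CycL
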