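import Cfsg.Agent.ChevalleyStructure.Good
import Cfsg.Prelude.Def_ChevE8

/-!
# `E₈`: the symmetry `N_{r,s} = - N_{r,-r-s}` of the structure constants (helper597, S5920)

* `mir` : the chain entries of `E₈` are single and symmetric;
* `cor_car` : `∑ᵢ cᵢ(r) A_{ij} = A_{jr}`.
-/

set_option autoImplicit false

namespace Cfsg.Agent.H597.E8Form

open Cfsg Cfsg.Lie
open Cfsg.Agent.ChevalleyStructure.Columns
open Cfsg.Agent.ChevalleyStructure.Additive
open Cfsg.Agent.ChevalleyStructure.GoodCheck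

/-- two entries are mirror images -/
def entM (e : ℕ × Array (ℕ × ℤ)) (e' : ℕ × Array (ℕ × ℤ)) : Bool :=
  match e.2.toList, e'.2.toList with
  | [(u, m)], [(u', m')] => Nat.beq u' (239 - e.1) && (Nat.beq e'.1 (239 - u) && decide (m' = -m))
  | _, _ => false

/-- `l'` is the mirror image of `l` -/
def mirOK (l : List (ℕ × Array (ℕ × ℤ))) : List (ℕ × Array (ℕ × ℤ)) → Bool :=
  List.rec (motive := fun _ => List (ℕ × Array (ℕ × ℤ)) → Bool) (fun _ => true)
    (fun e _ ih l' => List.rec (motive := fun _ => Bool) false (fun e' t' _ => entM e e' && ih t') l') l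

theorem mirOK_sound (l : List (ℕ × Array (ℕ × ℤ))) : ∀ l', mirOK l l' = true →
    ∀ e ∈ l, ∃ e' ∈ l', ∃ u m, e.2.toList = [(u, m)] ∧ e'.1 = 239 - u ∧ e'.2.toList = [(239 - e.1, -m)] := by
  induction l with
  | nil => intro l' _ e he; simp at he
  | cons a l ih =>
    intro l' h e he
    cases l' with
    | nil => exact absurd h (by simp [mirOK])
    | cons a' l' =>
      have h' : (entM a a' && mirOK l l') = true := h
      rw [Bool.and_eq_true] at h'
      rcases List.mem_cons.1 he with rfl | he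
      · refine ⟨a', by simp, ?_⟩
        have h1 := h'.1
        unfold entM at h1
        split at h1
        · rename_i u m u' m' h2 h3
          simp only [Bool.and_eq_true, decide_eq_true_eq] at h1
          obtain ⟨h4, h5, h6⟩ := h1
          exact ⟨u, m, h2, Nat.eq_of_beq_eq_true h5, by rw [h3, Nat.eq_of_beq_eq_true h4, h6]⟩
        · exact absurd h1 (by simp)
      · obtain ⟨e', h1, h2⟩ := ih l' h'.2 e he
        exact ⟨e', by simp [h1], h2⟩

/-- all rows -/
def allMir (l : List (Array (ℕ × Array (ℕ × ℤ)))) : Bool :=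
  List.rec (motive := fun _ => Bool) true (fun a _ ih => mirOK a.toList a.toList.reverse && ih) l

theorem allMir_sound (l : List (Array (ℕ × Array (ℕ × ℤ)))) (h : allMir l = true) :
    ∀ a ∈ l, mirOK a.toList a.toList.reverse = true := by
  induction l with
  | nil => intro a ha; simp at ha
  | cons b l ih =>
    have h' : (mirOK b.toList b.toList.reverse && allMir l) = true := h
    rw [Bool.and_eq_true] at h'
    intro a ha
    rcases List.mem_cons.1 ha with rfl | ha
    · exact h'.1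
    · exact ih h'.2 a ha

theorem allMir_E8 : allMir chevE8.chain.toList = true := by decide +kernel

theorem neg_E8 : ∀ r < 240, Nat.beq (chevE8.negIdx.getD r 0) (239 - r) = true := by decide +kernel

/-- the Cartan integers -/
theorem sym_E8 : ∀ i < 8, ∀ j < 8, car chevE8 i (chevE8.simpleIdx.getD j 0) = car chevE8 j (chevE8.simpleIdx.getD i 0) := by
  decide +kernel

theorem cor_car_E8_a : ∀ r < 60, ∀ j < 8,
    ∑ i ∈ Finset.range 8, cor chevE8 r i * car chevE8 i (chevE8.simpleIdx.getD j 0) = car chevE8 j r := by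
  decide +kernel

theorem cor_car_E8_b : ∀ r < 60, ∀ j < 8,
    ∑ i ∈ Finset.range 8, cor chevE8 (60 + r) i * car chevE8 i (chevE8.simpleIdx.getD j 0) = car chevE8 j (60 + r) := by
  decide +kernel

theorem cor_car_E8_c : ∀ r < 60, ∀ j < 8,
    ∑ i ∈ Finset.range 8, cor chevE8 (120 + r) i * car chevE8 i (chevE8.simpleIdx.getD j 0) = car chevE8 j (120 + r) := by
  decide +kernel

theorem cor_car_E8_d : ∀ r < 60, ∀ j < 8,
    ∑ i ∈ Finset.range 8, cor chevE8 (180 + r) i * car chevE8 i (chevE8.simpleIdx.getD j 0) = car chevE8 j (180 + r) := by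
  decide +kernel

/-- `h_r` in terms of the Cartan integers -/
theorem cor_car_E8 : ∀ r < 240, ∀ j < 8,
    ∑ i ∈ Finset.range 8, cor chevE8 r i * car chevE8 i (chevE8.simpleIdx.getD j 0) = car chevE8 j r := by
  intro r hr j hj
  rcases lt_or_ge r 60 with h1 | h1
  · exact cor_car_E8_a r h1 j hj
  rcases lt_or_ge r 120 with h2 | h2
  · obtain ⟨s, rfl⟩ := Nat.exists_eq_add_of_le h1
    exact cor_car_E8_b s (by omega) j hj
  rcases lt_or_ge r 180 with h3 | h3
  · obtain ⟨s, rfl⟩ := Nat.exists_eq_add_of_le h2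
    exact cor_car_E8_c s (by omega) j hj
  · obtain ⟨s, rfl⟩ := Nat.exists_eq_add_of_le h3
    exact cor_car_E8_d s (by omega) j hj

/-- the Cartan matrix -/
def AZ : Matrix (Fin 8) (Fin 8) ℤ := Matrix.of fun i j => car chevE8 i.val (chevE8.simpleIdx.getD j.val 0)

/-- its inverse -/
def BZ : Matrix (Fin 8) (Fin 8) ℤ :=
  !![4, 5, 7, 10, 8, 6, 4, 2; 5, 8, 10, 15, 12, 9, 6, 3; 7, 10, 14, 20, 16, 12, 8, 4; 10, 15, 20, 30, 24, 18, 12, 6;
     8, 12, 16, 24, 20, 15, 10, 5; 6, 9, 12, 18, 15, 12, 8, 4; 4, 6, 8, 12, 10, 8, 6, 3; 2, 3, 4, 6, 5, 4, 3, 2]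

theorem AZ_mul_BZ : AZ * BZ = 1 := by decide +kernel

end Cfsg.Agent.H597.E8Form
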