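import Cfsg.Agent.Characters.CNBasic
import Mathlib.GroupTheory.Nilpotent
import Mathlib.GroupTheory.SpecificGroups.Cyclic

/-!
# Groups whose proper quotients are abelian
-/

set_option autoImplicit false

namespace Cfsg.Agent.H597.FrobA

open Subgroup
open scoped commutatorElement

universe u
variable {G : Type u} [Group G]

/-- In a finite solvable nonabelian group in which every nontrivial normal subgroup contains the
commutator subgroup, the commutator subgroup is an elementary abelian `r`-group and the group is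
either an `r`-group or a Frobenius group with kernel the commutator subgroup. -/
theorem dichotomy [Finite G] (hs : Group.IsSolvable G) (hne : commutator G ≠ ⊥)
    (hmax : ∀ L : Subgroup G, L.Normal → L ≠ ⊥ → commutator G ≤ L) :
    ∃ r : ℕ, r.Prime ∧ IsPGroup r (commutator G) ∧
      (∀ a ∈ commutator G, ∀ b ∈ commutator G, a * b = b * a) ∧
      (IsPGroup r G ∨ (¬ r ∣ (commutator G).index ∧
        ∀ g, g ∉ commutator G → ∀ n ∈ commutator G, g * n = n * g → n = 1)) := by
  classical
  set N := commutator G with hN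
  have hNn : N.Normal := by rw [hN]; infer_instance
  -- abelian
  have hab : ∀ a ∈ N, ∀ b ∈ N, a * b = b * a := by
    have h1 : ⁅N, N⁆ = ⊥ := by
      by_contra h
      have h2 := hmax _ inferInstance h
      have h3 : N = ⁅N, N⁆ := le_antisymm h2 (commutator_le_left N N)
      have h4 : ∀ n, derivedSeries G (n + 1) = N := by
        intro n
        induction n with
        | zero => rw [zero_add, derivedSeries_one]
        | succ n ih => rw [derivedSeries_succ, ih, ← h3]
      obtain ⟨n, hn⟩ := hs
      have h5 : derivedSeries G (n + 1) = ⊥ := by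
        rw [eq_bot_iff, ← hn]
        exact derivedSeries_antitone G (Nat.le_succ n)
      exact hne ((h4 n).symm.trans h5)
    intro a ha b hb
    have h2 : ⁅a, b⁆ ∈ ⁅N, N⁆ := commutator_mem_commutator ha hb
    rw [h1, mem_bot] at h2
    exact commutatorElement_eq_one_iff_mul_comm.1 h2
  -- a prime
  have hcard : Nat.card N ≠ 1 := fun h => hne ((card_eq_one).1 h)
  obtain ⟨r, hr, hrN⟩ := Nat.exists_prime_and_dvd hcard
  have := Fact.mk hr
  let Ω : Subgroup G :=
    { carrier := {x | x ∈ N ∧ x ^ r = 1}
      mul_mem' := by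
        rintro a b ⟨ha, ha'⟩ ⟨hb, hb'⟩
        refine ⟨mul_mem ha hb, ?_⟩
        have : Commute a b := hab a ha b hb
        rw [this.mul_pow, ha', hb', one_mul]
      one_mem' := ⟨one_mem _, one_pow _⟩
      inv_mem' := by
        rintro a ⟨ha, ha'⟩
        exact ⟨inv_mem ha, by rw [inv_pow, ha', inv_one]⟩ }
  have hΩn : Ω.Normal := ⟨by
    rintro a ⟨ha, ha'⟩ g
    exact ⟨hNn.conj_mem a ha g, by rw [conj_pow, ha', mul_one, mul_inv_cancel]⟩⟩
  have hΩ : Ω ≠ ⊥ := by
    obtain ⟨x, hx⟩ := exists_prime_orderOf_dvd_card' r hrN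
    intro h
    have h1 : (x : G) ∈ Ω := by
      refine ⟨x.2, ?_⟩
      have := pow_orderOf_eq_one x
      rw [hx] at this
      exact_mod_cast congrArg Subtype.val this
    rw [h, mem_bot] at h1
    have h2 : x = 1 := Subtype.ext h1
    rw [h2, orderOf_one] at hx
    exact hr.one_lt.ne hx
  have hexp : ∀ x ∈ N, x ^ r = 1 := fun x hx => (hmax Ω hΩn hΩ hx).2
  have hpN : IsPGroup r N := by
    intro x
    refine ⟨1, ?_⟩
    rw [pow_one]
    exact Subtype.ext (hexp x x.2)
  refine ⟨r, hr, hpN, hab, ?_⟩
  by_cases hZ : center G = ⊥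
  · right
    -- a maximal subgroup not containing `N`
    have hnn : ¬ Group.IsNilpotent G := by
      intro h
      have hnt : Nontrivial G := by
        by_contra h0
        rw [not_nontrivial_iff_subsingleton] at h0
        exact hne (Subsingleton.elim _ _)
      exact Group.IsNilpotent.center_ne_bot (G := G) hZ
    have hex : ∃ H : Subgroup G, IsCoatom H ∧ ¬ H.Normal := by
      by_contra hcon
      push Not at hcon
      exact hnn (((Group.isNilpotent_of_finite_tfae (G := G)).out 0 2 rfl rfl).2 hcon)
    obtain ⟨H, hH, hHn⟩ := hex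
    have hNH : ¬ N ≤ H := fun h => hHn (Subgroup.Normal.of_commutator_le _ h)
    have hHN : H ⊔ N = ⊤ := by
      rcases hH.le_iff.1 (le_sup_left : H ≤ H ⊔ N) with h | h
      · exact h
      · exact absurd (h ▸ le_sup_right) hNH
    have hdec : ∀ g : G, ∃ h ∈ H, ∃ n ∈ N, h * n = g := by
      intro g
      have : g ∈ H ⊔ N := hHN ▸ mem_top g
      exact (mem_sup_of_normal_right).1 this
    have hHNb : H ⊓ N = ⊥ := by
      by_contra h
      refine hNH ((hmax (H ⊓ N) ⟨?_⟩ h).trans inf_le_left)
      rintro x ⟨hx1, hx2⟩ g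
      obtain ⟨h, hh, n, hn, rfl⟩ := hdec g
      have h1 : h * n * x * (h * n)⁻¹ = h * x * h⁻¹ := by
        rw [mul_inv_rev, mul_assoc h n x, hab n hn x hx2]
        group
      rw [h1]
      have hx1' : x ∈ H := hx1
      exact mem_inf.2 ⟨mul_mem (mul_mem hh hx1') (inv_mem hh), hNn.conj_mem x hx2 h⟩
    have hHab : ∀ a ∈ H, ∀ b ∈ H, a * b = b * a := by
      intro a ha b hb
      have h1 : ⁅a, b⁆ ∈ N := commutator_mem_commutator (mem_top a) (mem_top b)
      have h2 : ⁅a, b⁆ ∈ H := by
        rw [commutatorElement_def]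
        exact mul_mem (mul_mem (mul_mem ha hb) (inv_mem ha)) (inv_mem hb)
      have h3 : ⁅a, b⁆ ∈ H ⊓ N := ⟨h2, h1⟩
      rw [hHNb, mem_bot] at h3
      exact commutatorElement_eq_one_iff_mul_comm.1 h3
    have hfpf : ∀ g, g ∉ N → ∀ n ∈ N, g * n = n * g → n = 1 := by
      intro g hg n hn hgn
      by_contra hn1
      obtain ⟨h, hh, m, hm, rfl⟩ := hdec g
      have hhN : h ∉ N := fun hN => hg (mul_mem hN hm)
      have hhn : h * n = n * h := by
        have h1 : h * m * n = h * n * m := by rw [mul_assoc, hab m hm n hn, ← mul_assoc]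
        rw [h1, ← mul_assoc] at hgn
        exact mul_right_cancel hgn
      let D : Subgroup G := N ⊓ centralizer {h}
      have hDn : D.Normal := by
        constructor
        rintro x ⟨hx1, hx2⟩ g
        obtain ⟨h', hh', n', hn', rfl⟩ := hdec g
        have h1 : h' * n' * x * (h' * n')⁻¹ = h' * x * h'⁻¹ := by
          rw [mul_inv_rev, mul_assoc h' n' x, hab n' hn' x hx1]
          group
        rw [h1]
        refine ⟨hNn.conj_mem x hx1 h', ?_⟩
        replace hx2 : x * h = h * x := mem_centralizer_singleton_iff.1 hx2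
        show _ ∈ centralizer {h}
        rw [mem_centralizer_singleton_iff]
        have h2 := hHab h hh h' hh'
        have h3 := hHab h hh h'⁻¹ (inv_mem hh')
        calc h' * x * h'⁻¹ * h = h' * x * (h'⁻¹ * h) := by group
          _ = h' * x * (h * h'⁻¹) := by rw [h3]
          _ = h' * (x * h) * h'⁻¹ := by group
          _ = h' * (h * x) * h'⁻¹ := by rw [hx2]
          _ = (h' * h) * x * h'⁻¹ := by group
          _ = (h * h') * x * h'⁻¹ := by rw [h2]
          _ = h * (h' * x * h'⁻¹) := by group
      have hD : D ≠ ⊥ := by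
        intro h0
        have h1 : n ∈ D := ⟨hn, mem_centralizer_singleton_iff.2 hhn.symm⟩
        rw [h0, mem_bot] at h1
        exact hn1 h1
      have hND : N ≤ D := hmax D hDn hD
      have hhZ : h ∈ center G := by
        rw [mem_center_iff]
        intro g
        obtain ⟨h', hh', n', hn', rfl⟩ := hdec g
        have h1 : n' * h = h * n' := mem_centralizer_singleton_iff.1 (hND hn').2
        rw [mul_assoc, h1, ← mul_assoc, hHab h' hh' h hh, mul_assoc]
      rw [hZ, mem_bot] at hhZ
      exact hhN (hhZ ▸ one_mem _)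
    refine ⟨fun hd => ?_, hfpf⟩
    -- a Sylow subgroup is strictly bigger than `N`
    let P : Sylow r G := default
    have hNP : N ≤ P := by
      exact hpN.le_sylow_of_normal P
    have hPN : ¬ (P : Subgroup G) ≤ N := by
      intro hle
      have h1 : (P : Subgroup G) = N := le_antisymm hle hNP
      exact P.not_dvd_index (h1 ▸ hd)
    obtain ⟨g, hgP, hgN⟩ := SetLike.not_le_iff_exists.1 hPN
    obtain ⟨w, hw, hw1, hw2⟩ := Characters.CNBasic.exists_mem_center_of_normal (p := r)
      (P : Subgroup G) P.isPGroup' N hpN hne (fun t _ d hd => hNn.conj_mem d hd t)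
    exact hw1 (hfpf g hgN w hw (hw2 g hgP))
  · left
    have hNZ : N ≤ center G := hmax _ inferInstance hZ
    have hnil : Group.IsNilpotent G := by
      refine Subgroup.isNilpotent_of_ker_le_center (Abelianization.of (G := G)) ?_
      rw [Abelianization.ker_of]
      exact hNZ
    rw [IsPGroup.iff_card]
    refine ⟨_, Nat.eq_prime_pow_of_unique_prime_dvd Nat.card_pos.ne' fun {q} hq hqd => ?_⟩
    by_contra hqr
    have := Fact.mk hq
    let P : Sylow q G := default
    have hP : (P : Subgroup G).Normal := inferInstance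
    have hP1 : (P : Subgroup G) ≠ ⊥ := by
      intro h0
      have h1 := P.dvd_card_of_dvd_card hqd
      rw [h0, card_bot] at h1
      exact hq.one_lt.ne' (Nat.dvd_one.1 h1)
    have h2 := hmax _ hP hP1
    have h3 : IsPGroup q N := P.isPGroup'.to_le h2
    have h4 : Disjoint N N := IsPGroup.disjoint_of_ne q r hqr N N h3 hpN
    exact hne (disjoint_self.1 h4)

/-- `G / K` is a Frobenius group with kernel the abelian `r`-group `N / K` and abelian complement. -/
structure FrobQ (K N : Subgroup G) (r : ℕ) : Prop where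
  lt : K < N
  comm : ⁅N, N⁆ ≤ K
  le : commutator G ≤ N
  rel : ∃ k, K.relIndex N = r ^ k
  idx : ¬ r ∣ N.index
  fpf : ∀ g, g ∉ N → ∀ n ∈ N, g * n * g⁻¹ * n⁻¹ ∈ K → n ∈ K
  ne_top : N ≠ ⊤

/-- The dichotomy for the kernel `K` of a homomorphism onto a group `Q`. -/
theorem dichotomy_hom [Finite G] {Q : Type u} [Group Q] [Finite Q] (π : G →* Q)
    (hπ : Function.Surjective π) (K : Subgroup G) (hker : π.ker = K) (hs : Group.IsSolvable Q)
    (hne : ¬ commutator G ≤ K)
    (hmax : ∀ L : Subgroup G, L.Normal → K < L → commutator G ≤ L) :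
    ∃ r : ℕ, r.Prime ∧ ((∃ k, K.index = r ^ k) ∨ ∃ N : Subgroup G, N.Normal ∧ FrobQ K N r) := by
  have hmap : (commutator G).map π = commutator Q := by
    rw [_root_.commutator_def, _root_.commutator_def, map_commutator, ← MonoidHom.range_eq_map,
      MonoidHom.range_eq_top.2 hπ]
  have hle0 : ∀ L : Subgroup Q, K ≤ L.comap π := by
    intro L
    rw [← hker]; exact MonoidHom.ker_le_comap π L
  have hne' : commutator Q ≠ ⊥ := by
    intro h
    rw [← hmap, Subgroup.map_eq_bot_iff, hker] at h
    exact hne h
  obtain ⟨r, hr, hN1, hN2, hN3⟩ := dichotomy hs hne' (by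
    intro L hL hLne
    have h1 : K < L.comap π := by
      refine lt_of_le_of_ne (hle0 L) ?_
      · intro h
        apply hLne
        rw [← map_comap_eq_self_of_surjective hπ L, ← h, Subgroup.map_eq_bot_iff, hker]
    have h2 := hmax _ (hL.comap π) h1
    rw [← hmap, map_le_iff_le_comap]
    exact h2)
  have := Fact.mk hr
  refine ⟨r, hr, ?_⟩
  rcases hN3 with h | ⟨h1, h2⟩
  · left
    obtain ⟨k, hk⟩ := (IsPGroup.iff_card).1 h
    refine ⟨k, ?_⟩
    rw [← hker, index_ker, MonoidHom.range_eq_top.2 hπ, card_top, hk]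
  · right
    have hKN : K ≤ (commutator Q).comap π := hle0 _
    have hle : commutator G ≤ (commutator Q).comap π := by
      rw [← map_le_iff_le_comap, hmap]
    refine ⟨(commutator Q).comap π, inferInstance, ?_, ?_, hle, ?_, ?_, ?_, ?_⟩
    · refine lt_of_le_of_ne hKN ?_
      intro h
      exact hne (h ▸ hle)
    · rw [commutator_le]
      intro a ha b hb
      rw [← hker, MonoidHom.mem_ker, map_commutatorElement, commutatorElement_eq_one_iff_mul_comm]
      exact hN2 _ ha _ hb
    · obtain ⟨k, hk⟩ := (IsPGroup.iff_card).1 hN1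
      refine ⟨k, ?_⟩
      rw [← hk, ← hker, relIndex_ker, map_comap_eq_self_of_surjective hπ]
    · rw [index_comap_of_surjective _ hπ]
      exact h1
    · intro g hg n hn h3
      rw [← hker, MonoidHom.mem_ker]
      refine h2 (π g) hg (π n) hn ?_
      rw [← hker, MonoidHom.mem_ker] at h3
      have h4 : ⁅π g, π n⁆ = 1 := by
        rw [← map_commutatorElement, commutatorElement_def]
        exact h3
      exact commutatorElement_eq_one_iff_mul_comm.1 h4
    · intro h
      have h4 : commutator Q = ⊤ := by
        rw [← map_comap_eq_self_of_surjective hπ (commutator Q), h,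
          ← MonoidHom.range_eq_map, MonoidHom.range_eq_top.2 hπ]
      apply hne'
      rw [eq_bot_iff]
      conv_lhs => rw [_root_.commutator_def]
      rw [commutator_le]
      intro a _ b _
      rw [mem_bot, commutatorElement_eq_one_iff_mul_comm]
      exact hN2 a (h4 ▸ mem_top a) b (h4 ▸ mem_top b)

/-- The dichotomy for a normal subgroup `K` maximal subject to `G / K` being nonabelian. -/
theorem dichotomy_quot [Finite G] (K : Subgroup G) [K.Normal] (hs : Group.IsSolvable (G ⧸ K))
    (hne : ¬ commutator G ≤ K)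
    (hmax : ∀ L : Subgroup G, L.Normal → K < L → commutator G ≤ L) :
    ∃ r : ℕ, r.Prime ∧ ((∃ k, K.index = r ^ k) ∨ ∃ N : Subgroup G, N.Normal ∧ FrobQ K N r) :=
  dichotomy_hom (QuotientGroup.mk' K) (QuotientGroup.mk'_surjective K) K
    (QuotientGroup.ker_mk' K) hs hne hmax

end Cfsg.Agent.H597.FrobA
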