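import Cfsg.Agent.H597.FrobA
import Cfsg.Agent.H597.Base
import Cfsg.Agent.H597.Norm
import Cfsg.Agent.H597.Degrees
import Cfsg.Agent.H597.Broline
import Cfsg.Agent.H597.IndexP

/-!
# Characters of groups with a Frobenius quotient (Isaacs, Theorem 12.4)
-/

set_option autoImplicit false

namespace Cfsg.Agent.H597.FrobB

open Cfsg
open Cfsg.Agent.Characters.Core Cfsg.Agent.Characters.Clifford Cfsg.Agent.Characters.Linear
open Cfsg.Agent.H597.Base Cfsg.Agent.H597.Norm Cfsg.Agent.H597.Degrees Cfsg.Agent.H597.FrobA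
open Cfsg.Agent.Blocks.Basic (charDegree_of_eq irr_one_eq_charDegree charDegree_pos)
open Subgroup
open scoped commutatorElement

universe u
variable {G : Type u} [Group G]

/-- Conjugation on a normal subgroup. -/
def cj (N : Subgroup G) [hN : N.Normal] (g : G) : N →* N := (MulAut.conjNormal g : MulAut N).toMonoidHom

theorem cj_eq (N : Subgroup G) [hN : N.Normal] (g : G) (n : N) :
    cj N g n = ⟨g * n * g⁻¹, hN.conj_mem (n : G) n.2 g⟩ := rfl

theorem coe_cj (N : Subgroup G) [hN : N.Normal] (g : G) (n : N) : (cj N g n : G) = g * n * g⁻¹ := rfl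

theorem cj_mul (N : Subgroup G) [hN : N.Normal] (g h : G) (n : N) :
    cj N (g * h) n = cj N g (cj N h n) := by
  apply Subtype.ext
  rw [coe_cj, coe_cj, coe_cj]
  group

/-- An irreducible character whose inertia group is `N` induces irreducibly. -/
theorem exists_of_inertia [Fintype G] (N : Subgroup G) [hN : N.Normal] [Fintype N] {θ : N → ℂ}
    (hθ : IsIrrCharacter N θ) (h : ∀ g : G, (∀ n : N, θ (cj N g n) = θ n) → g ∈ N) :
    ∃ χ : G → ℂ, IsIrrCharacter G χ ∧ classInner (fun n : N => χ n) θ ≠ 0 ∧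
      charDegree χ = N.index * charDegree θ := by
  classical
  obtain ⟨χ, hχ, hne⟩ := CharDeep.PowerDegrees.exists_irr_over N hθ
  refine ⟨χ, hχ, hne, ?_⟩
  obtain ⟨ψ, hψ, hind, hψθ⟩ := CharDeep.CliffordCorr.clifford_correspondence N θ hθ N
    (fun g => ⟨fun hg n => by
      have h1 := isIrr_isClassFunction hθ n ⟨g, hg⟩
      rw [← h1]
      congr 1, h g⟩) le_rfl χ hχ hne
  have h1 : classInner ψ θ ≠ 0 := by
    have : (fun n : N => ψ ⟨(n : G), le_rfl (a := N) n.2⟩) = ψ := rfl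
    rw [this] at hψθ
    rw [hψθ]; exact hne
  have h2 : ψ = θ := by
    by_contra hne'
    exact h1 (classInner_irr_ne hψ hθ hne')
  apply charDegree_of_eq
  rw [← hind, H597.Broline.indFun_apply_one, h2, irr_one_eq_charDegree hθ]
  push_cast
  rfl

/-- The homomorphisms `N → ℂˣ` trivial on `K`. -/
def Lam (K N : Subgroup G) : Subgroup (N →* ℂˣ) where
  carrier := {f | ∀ x : N, (x : G) ∈ K → f x = 1}
  mul_mem' := fun {a b} ha hb x hx => by rw [MonoidHom.mul_apply, ha x hx, hb x hx, one_mul]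
  one_mem' := fun x _ => rfl
  inv_mem' := fun {a} ha x hx => by rw [MonoidHom.inv_apply, ha x hx, inv_one]

/-- The homomorphisms `N → ℂˣ` trivial on `K` fixing `ψ` under multiplication. -/
def LamFix (K N : Subgroup G) (ψ : N → ℂ) : Subgroup (N →* ℂˣ) where
  carrier := {f | f ∈ Lam K N ∧ ∀ x : N, (f x : ℂ) * ψ x = ψ x}
  mul_mem' := fun {a b} ha hb => ⟨mul_mem ha.1 hb.1, fun x => by
    rw [MonoidHom.mul_apply, Units.val_mul, mul_assoc, hb.2 x, ha.2 x]⟩
  one_mem' := ⟨one_mem _, fun x => by rw [MonoidHom.one_apply, Units.val_one, one_mul]⟩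
  inv_mem' := fun {a} ha => ⟨inv_mem ha.1, fun x => by
    have h1 := ha.2 x
    conv_lhs => rw [← h1]
    rw [MonoidHom.inv_apply, ← mul_assoc, Units.inv_mul, one_mul]⟩

theorem finite_hom (N : Type*) [Group N] [Finite N] : Finite (N →* ℂˣ) := by
  have := finite_irr (G := N)
  exact Finite.of_equiv _ (linearEquiv N).symm

section

variable {K N : Subgroup G} [hK : K.Normal] [hN : N.Normal] {r : ℕ}

/-- `g ∉ N` fixes no nontrivial homomorphism `N / K → ℂˣ`. -/
theorem eq_one_of_fixed [Finite G] (hF : FrobQ K N r) {g : G} (hg : g ∉ N) {f : N →* ℂˣ}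
    (hf : f ∈ Lam K N) (hfg : ∀ n, f (cj N g n) = f n) : f = 1 := by
  have hKn : (K.subgroupOf N).Normal := inferInstance
  have hcomm : ∀ a b : N ⧸ K.subgroupOf N, a * b = b * a := by
    intro a b
    obtain ⟨a, rfl⟩ := QuotientGroup.mk_surjective a
    obtain ⟨b, rfl⟩ := QuotientGroup.mk_surjective b
    rw [← QuotientGroup.mk_mul, ← QuotientGroup.mk_mul]
    apply QuotientGroup.eq.2
    rw [mem_subgroupOf]
    have h1 : ((((a * b)⁻¹ * (b * a) : N)) : G) = ⁅(b : G)⁻¹, (a : G)⁻¹⁆ := by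
      push_cast
      rw [commutatorElement_def]
      group
    rw [h1]
    exact hF.comm (commutator_mem_commutator (inv_mem b.2) (inv_mem a.2))
  let π : N →* N ⧸ K.subgroupOf N := QuotientGroup.mk' (K.subgroupOf N)
  let φ : N →* N ⧸ K.subgroupOf N :=
    { toFun := fun n => π (cj N g n) * (π n)⁻¹
      map_one' := by rw [map_one, map_one, inv_one, one_mul]
      map_mul' := fun a b => by
        rw [map_mul, map_mul, map_mul, mul_inv_rev, hcomm (π b)⁻¹]
        calc π (cj N g a) * π (cj N g b) * ((π a)⁻¹ * (π b)⁻¹)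
            = π (cj N g a) * (π (cj N g b) * (π a)⁻¹) * (π b)⁻¹ := by simp only [mul_assoc]
          _ = π (cj N g a) * ((π a)⁻¹ * π (cj N g b)) * (π b)⁻¹ := by rw [hcomm _ (π a)⁻¹]
          _ = π (cj N g a) * (π a)⁻¹ * (π (cj N g b) * (π b)⁻¹) := by simp only [mul_assoc] }
  have hker : φ.ker ≤ K.subgroupOf N := by
    intro n hn
    rw [MonoidHom.mem_ker] at hn
    have h1 : π (cj N g n) * (π n)⁻¹ = 1 := hn
    rw [← map_inv, ← map_mul] at h1
    have h2 : cj N g n * n⁻¹ ∈ K.subgroupOf N := (QuotientGroup.eq_one_iff _).1 h1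
    rw [mem_subgroupOf] at h2 ⊢
    exact hF.fpf g hg n n.2 h2
  have hrange : φ.range = ⊤ := by
    apply eq_top_of_le_card
    rw [← index_ker, ← index_eq_card]
    exact index_antitone hker
  ext n
  have h1 : π n ∈ φ.range := hrange ▸ mem_top _
  obtain ⟨m, hm⟩ := h1
  have h2 : π (cj N g m) * (π m)⁻¹ = π n := hm
  rw [← map_inv, ← map_mul] at h2
  have h3 : (cj N g m * m⁻¹)⁻¹ * n ∈ K.subgroupOf N := QuotientGroup.eq.1 h2
  have h4 := hf _ (mem_subgroupOf.1 h3)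
  rw [map_mul, map_inv, map_mul, hfg, map_inv, mul_inv_cancel, inv_one, one_mul] at h4
  rw [h4]
  rfl

/-- The twist of a homomorphism. -/
def tw (N : Subgroup G) [hN : N.Normal] (g : G) : (N →* ℂˣ) →* (N →* ℂˣ) where
  toFun f := f.comp (cj N g)
  map_one' := rfl
  map_mul' _ _ := rfl

theorem mem_of_tw_mul_inv_mem [Finite G] (hF : FrobQ K N r) {g : G} (hg : g ∉ N)
    (D : Subgroup (N →* ℂˣ)) (hD : D ≤ Lam K N) (hgD : ∀ f ∈ D, tw N g f ∈ D) {μ : N →* ℂˣ}
    (hμ : μ ∈ Lam K N) (h : tw N g μ * μ⁻¹ ∈ D) : μ ∈ D := by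
  have hfin := finite_hom N
  let φ : D → D := fun ν => ⟨tw N g ν * (ν : N →* ℂˣ)⁻¹, mul_mem (hgD ν ν.2) (inv_mem ν.2)⟩
  have hinj : ∀ a ∈ Lam K N, ∀ b ∈ Lam K N, tw N g a * a⁻¹ = tw N g b * b⁻¹ → a = b := by
    intro a ha b hb hab
    have h1 : ∀ n, (a * b⁻¹) (cj N g n) = (a * b⁻¹) n := by
      intro n
      have h2 : a (cj N g n) * (a n)⁻¹ = b (cj N g n) * (b n)⁻¹ := DFunLike.congr_fun hab n
      rw [mul_inv_eq_iff_eq_mul] at h2
      show a (cj N g n) * (b (cj N g n))⁻¹ = a n * (b n)⁻¹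
      rw [h2, mul_inv_eq_iff_eq_mul]
      rw [mul_comm (b (cj N g n)), mul_assoc, mul_comm (b (cj N g n)), ← mul_assoc,
        mul_comm (b n)⁻¹]
    have h2 := eq_one_of_fixed hF hg (mul_mem ha (inv_mem hb)) h1
    exact mul_inv_eq_one.1 h2
  have h1 : Function.Injective φ := by
    intro a b hab
    exact Subtype.ext (hinj a (hD a.2) b (hD b.2) (congrArg Subtype.val hab))
  obtain ⟨ν, hν⟩ := (Finite.injective_iff_surjective.1 h1) ⟨_, h⟩
  have h2 := hinj ν (hD ν.2) μ hμ (congrArg Subtype.val hν)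
  rw [← h2]; exact ν.2

theorem tw_mem_LamFix {ψ : N → ℂ} {g : G} (hg : ∀ n, ψ (cj N g n) = ψ n) {f : N →* ℂˣ}
    (hf : f ∈ LamFix K N ψ) : tw N g f ∈ LamFix K N ψ := by
  refine ⟨fun x hx => hf.1 _ ?_, fun x => ?_⟩
  · exact hK.conj_mem _ hx g
  · have h1 := hf.2 (cj N g x)
    rw [hg] at h1
    exact h1

/-- **Isaacs, Theorem 12.4**. -/
theorem exists_degree_mul [Fintype G] (hF : FrobQ K N r) {ψ : N → ℂ} (hψ : IsIrrCharacter N ψ)
    {n₀ : N} (hn₀ : (n₀ : G) ∉ K) (hne : ψ n₀ ≠ 0) :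
    ∃ χ : G → ℂ, IsIrrCharacter G χ ∧ charDegree χ = N.index * charDegree ψ := by
  classical
  have := Fintype.ofFinite N
  suffices hex : ∃ f ∈ Lam K N, ∀ g : G,
      (∀ n : N, (f (cj N g n) : ℂ) * ψ (cj N g n) = (f n : ℂ) * ψ n) → g ∈ N by
    obtain ⟨f, hf, hfg⟩ := hex
    obtain ⟨χ, hχ, -, hd⟩ := exists_of_inertia N (H597.IndexP.isIrr_mul_hom hψ f) (by
      intro g hg
      exact hfg g hg)
    refine ⟨χ, hχ, ?_⟩
    rw [hd]
    congr 1
    apply charDegree_of_eq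
    simp [irr_one_eq_charDegree hψ]
  by_contra hcon
  push Not at hcon
  obtain ⟨s, hs, hsN⟩ := hcon 1 (one_mem _)
  have hs' : ∀ n : N, ψ (cj N s n) = ψ n := by
    intro n
    have := hs n
    simpa using this
  -- a homomorphism not trivial at `n₀`
  obtain ⟨l, hl, hl0⟩ : ∃ l ∈ Lam K N, l n₀ ≠ 1 := by
    have h1 : ((n₀ : N) : N ⧸ K.subgroupOf N) ∉ commutator (N ⧸ K.subgroupOf N) := by
      intro h
      have h2 : commutator (N ⧸ K.subgroupOf N) = ⊥ := by
        rw [eq_bot_iff, _root_.commutator_def, commutator_le]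
        intro a _ b _
        obtain ⟨a, rfl⟩ := QuotientGroup.mk_surjective a
        obtain ⟨b, rfl⟩ := QuotientGroup.mk_surjective b
        rw [mem_bot]
        have h3 : ⁅(a : N ⧸ K.subgroupOf N), (b : N ⧸ K.subgroupOf N)⁆ =
          ((⁅a, b⁆ : N) : N ⧸ K.subgroupOf N) := rfl
        rw [h3, QuotientGroup.eq_one_iff, mem_subgroupOf]
        exact hF.comm (commutator_mem_commutator a.2 b.2)
      rw [h2, mem_bot, QuotientGroup.eq_one_iff, mem_subgroupOf] at h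
      exact hn₀ h
    obtain ⟨f, hf⟩ := exists_hom_ne_one h1
    refine ⟨f.comp (QuotientGroup.mk' (K.subgroupOf N)), fun x hx => ?_, hf⟩
    rw [MonoidHom.comp_apply]
    have : QuotientGroup.mk' (K.subgroupOf N) x = 1 := by
      rw [QuotientGroup.mk'_apply, QuotientGroup.eq_one_iff, mem_subgroupOf]
      exact hx
    rw [this, map_one]
  obtain ⟨t, ht, htN⟩ := hcon l hl
  let μ : N →* ℂˣ := l * (tw N t l)⁻¹
  have hμ : μ ∈ Lam K N := mul_mem hl (inv_mem (fun x hx => hl _ (hK.conj_mem _ hx t)))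
  have ht1 : ∀ n : N, ψ (cj N t n) = (μ n : ℂ) * ψ n := by
    intro n
    have h1 := ht n
    have h2 : (μ n : ℂ) = (l n : ℂ) * ((l (cj N t n) : ℂˣ) : ℂ)⁻¹ := by
      show ((l n * (l (cj N t n))⁻¹ : ℂˣ) : ℂ) = _
      push_cast
      rfl
    have h3 : ((l (cj N t n) : ℂˣ) : ℂ) ≠ 0 := Units.ne_zero _
    rw [h2]
    field_simp
    rw [mul_comm]
    exact h1
  have hst : ∀ n : N, ψ (cj N (s * t) n) = ψ (cj N (t * s) n) := by
    intro n
    have hc : ⁅s, t⁆ ∈ N := hF.le (commutator_mem_commutator (mem_top s) (mem_top t))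
    have h1 : s * t = ⁅s, t⁆ * (t * s) := by rw [commutatorElement_def]; group
    rw [h1, cj_mul]
    have h2 := isIrr_isClassFunction hψ (cj N (t * s) n) ⟨⁅s, t⁆, hc⟩
    rw [← h2]
    congr 1
  have hμs : tw N s μ * μ⁻¹ ∈ LamFix K N ψ := by
    refine ⟨mul_mem (fun x hx => hμ _ (hK.conj_mem _ hx s)) (inv_mem hμ), fun x => ?_⟩
    have h1 := hst x
    rw [cj_mul, cj_mul, hs', ht1, ht1, hs'] at h1
    show ((μ (cj N s x) * (μ x)⁻¹ : ℂˣ) : ℂ) * ψ x = ψ x
    rw [Units.val_mul, mul_right_comm, ← h1, mul_right_comm, Units.mul_inv, one_mul]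
  have hμD : μ ∈ LamFix K N ψ := mem_of_tw_mul_inv_mem hF hsN (LamFix K N ψ) (fun f hf => hf.1)
    (fun f hf => tw_mem_LamFix hs' hf) hμ hμs
  have ht2 : ∀ n : N, ψ (cj N t n) = ψ n := fun n => by rw [ht1, hμD.2]
  have hlt : tw N t l * l⁻¹ ∈ LamFix K N ψ := by
    refine ⟨mul_mem (fun x hx => hl _ (hK.conj_mem _ hx t)) (inv_mem hl), fun x => ?_⟩
    have h1 := ht x
    rw [ht2] at h1
    show ((l (cj N t x) * (l x)⁻¹ : ℂˣ) : ℂ) * ψ x = ψ x
    rw [Units.val_mul, mul_right_comm, h1, mul_right_comm, Units.mul_inv, one_mul]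
  have hlD : l ∈ LamFix K N ψ := mem_of_tw_mul_inv_mem hF htN (LamFix K N ψ) (fun f hf => hf.1)
    (fun f hf => tw_mem_LamFix ht2 hf) hl hlt
  have h5 := hlD.2 n₀
  apply hl0
  ext
  rw [Units.val_one]
  exact mul_right_cancel₀ hne (by rw [h5, one_mul])

end

end Cfsg.Agent.H597.FrobB
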