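import Cfsg.Agent.H597.ThreeDegB
import Cfsg.Agent.H676.RM.Adj
import Cfsg.Agent.H681.DegBasic

/-!
# Degrees of the characters over a character of a normal subgroup with given model (helper597)

`M` is normal in `G` and `e : M ≃* S`; the characters of `M` are written as characters of `S`.
-/

set_option autoImplicit false
set_option linter.unusedSectionVars false

namespace Cfsg.Agent.H597.L2Cliff

open Cfsg
open Cfsg.Agent.Characters.Core Cfsg.Agent.Characters.Clifford
open Cfsg.Agent.H597.Base Cfsg.Agent.H597.Degrees Cfsg.Agent.H597.FrobB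
open Cfsg.Agent.Blocks.Basic (charDegree_of_eq irr_one_eq_charDegree charDegree_pos)
open Subgroup

universe u v
variable {G : Type u} [Group G]

/-- If the inertia quotient of `θ` is cyclic then all the characters over `θ` have degree
`|G : T| θ(1)`. -/
theorem deg_of_cyclic [Fintype G] (M : Subgroup G) [hM : M.Normal] [Fintype M] {θ : M → ℂ}
    (hθ : IsIrrCharacter M θ) (T : Subgroup G) (hT : ∀ g : G, g ∈ T ↔ ∀ n : M, θ (cj M g n) = θ n)
    {C : Type*} [Group C] [IsCyclic C] (f : T →* C) (hf : ∀ t : T, f t = 1 ↔ (t : G) ∈ M)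
    {χ : G → ℂ} (hχ : IsIrrCharacter G χ) (hne : classInner (fun n : M => χ n) θ ≠ 0) :
    charDegree χ = T.index * charDegree θ := by
  classical
  have hMT : M ≤ T := by
    intro x hx
    rw [hT]
    intro n
    exact isIrr_isClassFunction hθ n ⟨x, hx⟩
  obtain ⟨ψ, hψ, hind, hψθ⟩ := CharDeep.CliffordCorr.clifford_correspondence M θ hθ T hT hMT χ hχ hne
  let m : M →* T := Subgroup.inclusion hMT
  have hm : Function.Injective m := Subgroup.inclusion_injective hMT
  have hker : m.range = f.ker := by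
    ext t
    rw [MonoidHom.mem_ker, hf]
    constructor
    · rintro ⟨x, rfl⟩
      exact x.2
    · intro h
      exact ⟨⟨t, h⟩, rfl⟩
  have hn : m.range.Normal := by rw [hker]; infer_instance
  have hcyc : IsCyclic (T ⧸ m.range) := by
    have h1 : IsCyclic (T ⧸ f.ker) :=
      isCyclic_of_injective (QuotientGroup.kerLift f) (QuotientGroup.kerLift_injective f)
    let q : (T ⧸ m.range) ≃* (T ⧸ f.ker) := QuotientGroup.quotientMulEquivOfEq hker
    exact isCyclic_of_injective q.toMonoidHom q.injective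
  have hov : Cfsg.Agent.H672.Over m ψ θ := by
    rw [Cfsg.Agent.H672.over_iff]
    have h2 : (fun n : M => ψ ⟨(n : G), hMT n.2⟩) = ψ ∘ m := rfl
    rw [← h2, hψθ]
    exact hne
  have h3 := Cfsg.Agent.H676.RM.Adj.comp_eq_of_cyclic m hm hn hcyc hθ
    (fun t a a' h => by
      have h4 : a' = cj M (t : G) a := by
        apply Subtype.ext
        have h5 : ((m a' : T) : G) = ((t * m a * t⁻¹ : T) : G) := congrArg Subtype.val h
        exact h5
      rw [h4]
      exact (hT t).1 t.2 a) hψ hov
  apply charDegree_of_eq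
  have h5 : ψ 1 = θ 1 := by rw [← h3, Function.comp_apply, map_one]
  rw [← hind, H597.Broline.indFun_apply_one, h5, irr_one_eq_charDegree hθ]
  push_cast
  rfl

section Model

variable (M : Subgroup G) [hM : M.Normal] {S : Type v} [Group S] (e : M ≃* S)

/-- The action of `G` on the model `S` of `M`. -/
def Phi : G →* MulAut S := (MulAut.congr e).toMonoidHom.comp (MulAut.conjNormal : G →* MulAut M)

theorem Phi_apply (g : G) (s : S) : Phi M e g s = e (cj M g (e.symm s)) := rfl

theorem Phi_e (g : G) (n : M) : Phi M e g (e n) = e (cj M g n) := by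
  rw [Phi_apply, e.symm_apply_apply]

theorem Phi_coe (m : M) : Phi M e m = MulAut.conj (e m) := by
  apply MulEquiv.ext
  intro s
  obtain ⟨n, rfl⟩ := e.surjective s
  rw [Phi_e, MulAut.conj_apply, ← map_mul, ← map_inv, ← map_mul]
  rfl

theorem Phi_injective (hc : Subgroup.centralizer (M : Set G) = ⊥) :
    Function.Injective (Phi M e) := by
  rw [injective_iff_map_eq_one]
  intro g hg
  have h1 : g ∈ Subgroup.centralizer (M : Set G) := by
    rw [Subgroup.mem_centralizer_iff]
    intro x hx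
    have h2 := DFunLike.congr_fun hg (e ⟨x, hx⟩)
    rw [Phi_e, MulAut.one_apply] at h2
    have h3 := congrArg Subtype.val (e.injective h2)
    rw [coe_cj] at h3
    have h4 : g * x * g⁻¹ = x := h3
    rw [mul_inv_eq_iff_eq_mul] at h4
    exact h4.symm
  rw [hc] at h1
  exact Subgroup.mem_bot.1 h1

theorem mem_of_inner (hc : Subgroup.centralizer (M : Set G) = ⊥) {g : G} {s : S}
    (h : Phi M e g = MulAut.conj s) : g ∈ M := by
  have h1 : g = ((e.symm s : M) : G) := by
    apply Phi_injective M e hc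
    rw [h, Phi_coe, e.apply_symm_apply]
  rw [h1]
  exact (e.symm s).2

/-- `χ` lies over the character `θ` of the model. -/
def Ov [Finite M] (χ : G → ℂ) (θ : S → ℂ) : Prop :=
  letI := Fintype.ofFinite M
  classInner (fun n : M => χ n) (θ ∘ e) ≠ 0

theorem isIrr_e {θ : S → ℂ} (hθ : IsIrrCharacter S θ) : IsIrrCharacter M (θ ∘ e) :=
  isIrr_comp (e : M →* S) e.surjective hθ

theorem deg_e (θ : S → ℂ) : charDegree (θ ∘ e) = charDegree θ := by
  unfold charDegree
  simp

theorem exists_over [Finite G] {θ : S → ℂ} (hθ : IsIrrCharacter S θ) :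
    ∃ χ : G → ℂ, IsIrrCharacter G χ ∧ Ov M e χ θ := by
  have := Fintype.ofFinite G
  have := Fintype.ofFinite M
  obtain ⟨χ, hχ, h⟩ := CharDeep.PowerDegrees.exists_irr_over M (isIrr_e M e hθ)
  refine ⟨χ, hχ, ?_⟩
  unfold Ov
  convert h using 3

theorem exists_under [Finite G] {χ : G → ℂ} (hχ : IsIrrCharacter G χ) :
    ∃ θ : S → ℂ, IsIrrCharacter S θ ∧ Ov M e χ θ := by
  classical
  have := Fintype.ofFinite G
  have := Fintype.ofFinite M
  have hchar := isCharacter_restrict M (isIrr_isCharacter hχ)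
  obtain ⟨ψ, hψ, hne⟩ := exists_constituent hchar (isIrr_apply_one_ne_zero hχ)
  refine ⟨ψ ∘ e.symm, isIrr_comp (e.symm : S →* M) e.symm.surjective hψ, ?_⟩
  have h1 : (ψ ∘ e.symm) ∘ e = ψ := by
    funext n
    simp
  unfold Ov
  rw [h1]
  convert hne using 3

theorem Ov.ne [Finite G] [Fintype M] {χ : G → ℂ} {θ : S → ℂ} (h : Ov M e χ θ) :
    classInner (fun n : M => χ n) (θ ∘ e) ≠ 0 := by
  unfold Ov at h
  convert h using 3

theorem deg_dvd [Finite G] {χ : G → ℂ} (hχ : IsIrrCharacter G χ) {θ : S → ℂ}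
    (hθ : IsIrrCharacter S θ) (h : Ov M e χ θ) :
    ∃ c : ℕ, charDegree χ = charDegree θ * c ∧ c ∣ M.index := by
  have := Fintype.ofFinite G
  have := Fintype.ofFinite M
  obtain ⟨c, hc, hc'⟩ := degree_over M hχ (isIrr_e M e hθ) h.ne
  exact ⟨c, by rw [hc, deg_e], hc'⟩

/-- The stabilizer of `θ`. -/
def St (θ : S → ℂ) : Subgroup G where
  carrier := {g | ∀ s, θ (Phi M e g s) = θ s}
  one_mem' := by intro s; rw [map_one, MulAut.one_apply]
  mul_mem' := by
    intro a b ha hb s
    rw [map_mul, MulAut.mul_apply, ha, hb]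
  inv_mem' := by
    intro a ha s
    have h1 := ha ((Phi M e a)⁻¹ s)
    rw [MulAut.apply_inv_self] at h1
    rw [map_inv]
    exact h1.symm

theorem mem_St {θ : S → ℂ} {g : G} : g ∈ St M e θ ↔ ∀ s, θ (Phi M e g s) = θ s := Iff.rfl

theorem mem_St' {θ : S → ℂ} {g : G} : g ∈ St M e θ ↔ ∀ n : M, (θ ∘ e) (cj M g n) = (θ ∘ e) n := by
  rw [mem_St]
  constructor
  · intro h n
    have := h (e n)
    rwa [Phi_e] at this
  · intro h s
    obtain ⟨n, rfl⟩ := e.surjective s
    rw [Phi_e]
    exact h n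

theorem le_St {θ : S → ℂ} (hθ : IsIrrCharacter S θ) : M ≤ St M e θ := by
  intro x hx s
  rw [Phi_coe M e ⟨x, hx⟩, MulAut.conj_apply]
  exact isIrr_isClassFunction hθ _ _

/-- Characters over a character with cyclic inertia quotient. -/
theorem deg_eq [Finite G] {χ : G → ℂ} (hχ : IsIrrCharacter G χ) {θ : S → ℂ}
    (hθ : IsIrrCharacter S θ) (h : Ov M e χ θ) {C : Type*} [Group C] [IsCyclic C] (f : G →* C)
    (hfM : ∀ m ∈ M, f m = 1) (hf : ∀ g ∈ St M e θ, f g = 1 → g ∈ M) :
    charDegree χ = (St M e θ).index * charDegree θ := by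
  have := Fintype.ofFinite G
  have := Fintype.ofFinite M
  have h1 := deg_of_cyclic M (isIrr_e M e hθ) (St M e θ) (fun g => mem_St' M e)
    (f.comp (St M e θ).subtype) (fun t => ⟨fun h => hf t t.2 h, fun h => hfM t h⟩) hχ h.ne
  rw [h1, deg_e]

/-- If a character over `θ` has the same degree then `θ` is invariant. -/
theorem inv_of_deg_eq [Finite G] {χ : G → ℂ} (hχ : IsIrrCharacter G χ) {θ : S → ℂ}
    (hθ : IsIrrCharacter S θ) (h : Ov M e χ θ) (hd : charDegree χ = charDegree θ) :
    St M e θ = ⊤ := by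
  classical
  have := Fintype.ofFinite G
  have := Fintype.ofFinite M
  have hchar := isCharacter_restrict M (isIrr_isCharacter hχ)
  have h1 : (fun n : M => χ n) = θ ∘ e := by
    apply eq_of_degree_eq hchar (isIrr_e M e hθ) h.ne
    show χ 1 = θ (e 1)
    rw [map_one, irr_one_eq_charDegree hχ, irr_one_eq_charDegree hθ, hd]
  rw [eq_top_iff]
  intro g _
  rw [mem_St']
  intro n
  rw [← h1]
  show χ (g * n * g⁻¹) = χ n
  exact isIrr_isClassFunction hχ n g

end Model

end Cfsg.Agent.H597.L2Cliff
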