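import Cfsg.Agent.H465.OEBase

/-!
# `PΩ⁺₈(q)`: G3 (task 1682 of helper465)

A linear map `b` such that for every fixed singular point `⟨u⟩` the map `b` is a scalar modulo `⟨u⟩` on `u^⊥` is a
scalar, if there is a fixed singular point.
-/

set_option autoImplicit false

namespace Cfsg.Agent.H597.OEight

open Module QuadraticMap Cfsg.Agent.LieClassical.OrthCore Cfsg.Agent.LieClassical.OrthTrans
  Cfsg.Agent.ClassicalGeometry.OrthAut1 Cfsg.Agent.LieClassical.QuadForms Cfsg.Agent.ClassicalGeometry.TrialityOct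
  Cfsg.Agent.ClassicalGeometry.Triality Cfsg.Agent.H465.OEight

variable {F : Type*} [Field F]

theorem finrank_V8 : finrank F (V8 F) = 8 := by
  rw [finrank_fintype_fun_eq_card, Fintype.card_sum, Fintype.card_fin]

/-- `u^⊥` -/
noncomputable def perp (u : V8 F) : Submodule F (V8 F) := LinearMap.ker (polarBilin (plusForm 4 F) u)

theorem mem_perp {u v : V8 F} : v ∈ perp u ↔ polar (plusForm 4 F) u v = 0 := by
  unfold perp
  rw [LinearMap.mem_ker]
  rfl

theorem finrank_perp (u : V8 F) : 7 ≤ finrank F (perp u) := by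
  have h1 := LinearMap.finrank_range_add_finrank_ker (polarBilin (plusForm 4 F) u)
  have h2 : finrank F (LinearMap.range (polarBilin (plusForm 4 F) u)) ≤ 1 := by
    have := Submodule.finrank_le (LinearMap.range (polarBilin (plusForm 4 F) u))
    rwa [finrank_self] at this
  rw [finrank_V8] at h1
  change 7 ≤ finrank F (LinearMap.ker (polarBilin (plusForm 4 F) u))
  omega

theorem finrank_inf (A B : Submodule F (V8 F)) : finrank F A + finrank F B ≤ finrank F (A ⊓ B : Submodule F (V8 F)) + 8 := by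
  have h1 := Submodule.finrank_sup_add_finrank_inf_eq A B
  have h2 := Submodule.finrank_le (A ⊔ B)
  rw [finrank_V8] at h2
  omega

theorem exists_notMem {A : Submodule F (V8 F)} (hA : 2 ≤ finrank F A) (w : V8 F) :
    ∃ a ∈ A, a ∉ Submodule.span F {w} := by
  by_contra hcon
  push Not at hcon
  have h1 : A ≤ Submodule.span F {w} := hcon
  have h2 := Submodule.finrank_mono h1
  have h3 := finrank_span_le_card (R := F) ({w} : Set (V8 F))
  rw [Set.toFinset_singleton, Finset.card_singleton] at h3
  omega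

theorem exists_sep {w₁ w₂ : V8 F} (h1 : w₁ ≠ 0) (h2 : w₂ ∉ Submodule.span F {w₁}) :
    ∃ x, polar (plusForm 4 F) w₂ x = 0 ∧ polar (plusForm 4 F) w₁ x ≠ 0 := by
  by_contra hcon
  push Not at hcon
  have h0 : w₂ ≠ 0 := by
    rintro rfl
    exact h2 (Submodule.zero_mem _)
  obtain ⟨a, ha⟩ : ∃ a, polar (plusForm 4 F) w₂ a ≠ 0 := by
    by_contra h
    push Not at h
    exact h0 (polar_plusForm_nondeg 4 w₂ h)
  set c : F := polar (plusForm 4 F) w₁ a / polar (plusForm 4 F) w₂ a with hc
  have h3 : w₁ = c • w₂ := by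
    rw [← sub_eq_zero]
    apply polar_plusForm_nondeg 4
    intro v
    have h4 := hcon (v - (polar (plusForm 4 F) w₂ v / polar (plusForm 4 F) w₂ a) • a) (by
      rw [polar_sub_right, polar_smul_right, smul_eq_mul]
      field_simp
      ring)
    rw [polar_sub_right, polar_smul_right, smul_eq_mul] at h4
    rw [polar_sub_left, polar_smul_left, smul_eq_mul, hc]
    field_simp at h4 ⊢
    linear_combination h4
  have hc0 : c ≠ 0 := by
    intro h
    rw [h, zero_smul] at h3
    exact h1 h3
  apply h2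
  rw [Submodule.mem_span_singleton]
  exact ⟨c⁻¹, by rw [h3, smul_smul, inv_mul_cancel₀ hc0, one_smul]⟩

/-- the first coordinate space -/
noncomputable def Xl (F : Type*) [Field F] : Submodule F (V8 F) :=
  LinearMap.ker (LinearMap.funLeft F F (Sum.inr : Fin 4 → Fin 4 ⊕ Fin 4))

/-- the second coordinate space -/
noncomputable def Xr (F : Type*) [Field F] : Submodule F (V8 F) :=
  LinearMap.ker (LinearMap.funLeft F F (Sum.inl : Fin 4 → Fin 4 ⊕ Fin 4))

theorem mem_Xl {v : V8 F} : v ∈ Xl F ↔ ∀ i, v (.inr i) = 0 := by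
  unfold Xl
  rw [LinearMap.mem_ker]
  exact funext_iff

theorem mem_Xr {v : V8 F} : v ∈ Xr F ↔ ∀ i, v (.inl i) = 0 := by
  unfold Xr
  rw [LinearMap.mem_ker]
  exact funext_iff

theorem ts_Xl : TS (plusForm 4 F) (Xl F) := by
  intro v hv
  rw [mem_Xl] at hv
  rw [plusForm_apply]
  exact Finset.sum_eq_zero fun i _ => by rw [hv i, mul_zero]

theorem ts_Xr : TS (plusForm 4 F) (Xr F) := by
  intro v hv
  rw [mem_Xr] at hv
  rw [plusForm_apply]
  exact Finset.sum_eq_zero fun i _ => by rw [hv i, zero_mul]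

theorem finrank_Xl : finrank F (Xl F) = 4 := by
  have h1 := LinearMap.finrank_range_add_finrank_ker (LinearMap.funLeft F F (Sum.inr : Fin 4 → Fin 4 ⊕ Fin 4))
  rw [LinearMap.range_eq_top.2 (LinearMap.funLeft_surjective_of_injective F F _ Sum.inr_injective), finrank_top,
    finrank_fin_fun, finrank_V8] at h1
  change finrank F (LinearMap.ker (LinearMap.funLeft F F (Sum.inr : Fin 4 → Fin 4 ⊕ Fin 4))) = 4
  omega

theorem finrank_Xr : finrank F (Xr F) = 4 := by
  have h1 := LinearMap.finrank_range_add_finrank_ker (LinearMap.funLeft F F (Sum.inl : Fin 4 → Fin 4 ⊕ Fin 4))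
  rw [LinearMap.range_eq_top.2 (LinearMap.funLeft_surjective_of_injective F F _ Sum.inl_injective), finrank_top,
    finrank_fin_fun, finrank_V8] at h1
  change finrank F (LinearMap.ker (LinearMap.funLeft F F (Sum.inl : Fin 4 → Fin 4 ⊕ Fin 4))) = 4
  omega

theorem im_span {b : V8 F ≃ₗ[F] V8 F} {w : V8 F} {β : F} (h : b w = β • w) (hw : w ≠ 0) :
    im b (Submodule.span F {w}) = Submodule.span F {w} := by
  have hβ : β ≠ 0 := by
    rintro rfl
    rw [zero_smul] at h
    exact hw (b.map_eq_zero_iff.1 h)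
  show (Submodule.span F {w}).map b.toLinearMap = _
  rw [Submodule.map_span, Set.image_singleton]
  show Submodule.span F {b w} = _
  rw [h]
  exact Submodule.span_singleton_smul_eq (IsUnit.mk0 β hβ) w

/-- **G3** -/
theorem scalar_of {b : V8 F ≃ₗ[F] V8 F}
    (h : ∀ u : V8 F, plusForm 4 F u = 0 → u ≠ 0 → im b (Submodule.span F {u}) = Submodule.span F {u} →
      ∃ β : F, ∀ a : V8 F, polar (plusForm 4 F) u a = 0 → b a - β • a ∈ Submodule.span F {u})
    (hex : ∃ u : V8 F, plusForm 4 F u = 0 ∧ u ≠ 0 ∧ im b (Submodule.span F {u}) = Submodule.span F {u}) :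
    ∃ β : F, ∀ v, b v = β • v := by
  obtain ⟨u, hu, hu0, hbu⟩ := hex
  obtain ⟨β, hβ⟩ := h u hu hu0 hbu
  set N : V8 F →ₗ[F] V8 F := b.toLinearMap - β • LinearMap.id with hN
  have hNa : ∀ a, N a = b a - β • a := fun a => rfl
  -- the kernel of `N` has dimension at least 6
  have hker : 6 ≤ finrank F (LinearMap.ker N) := by
    have h1 := LinearMap.finrank_range_add_finrank_ker (N.domRestrict (perp u))
    have h2 : finrank F (LinearMap.range (N.domRestrict (perp u))) ≤ 1 := by
      have h3 : LinearMap.range (N.domRestrict (perp u)) ≤ Submodule.span F {u} := by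
        rintro _ ⟨a, rfl⟩
        exact hβ a (mem_perp.1 a.2)
      have h4 := Submodule.finrank_mono h3
      rw [finrank_span_singleton hu0] at h4
      exact h4
    have h3 : finrank F (LinearMap.ker (N.domRestrict (perp u))) ≤ finrank F (LinearMap.ker N) := by
      let f : LinearMap.ker (N.domRestrict (perp u)) →ₗ[F] LinearMap.ker N :=
        { toFun := fun a => ⟨(a : perp u), a.2⟩
          map_add' := fun _ _ => rfl
          map_smul' := fun _ _ => rfl }
      refine LinearMap.finrank_le_finrank_of_injective (f := f) ?_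
      intro a a' haa
      have h5 : ((a : perp u) : V8 F) = ((a' : perp u) : V8 F) :=
        congrArg (fun z : LinearMap.ker N => (z : V8 F)) haa
      exact Subtype.ext (Subtype.ext h5)
    have h4 := finrank_perp u
    omega
  -- every singular vector of the kernel
  have key : ∀ w, w ≠ 0 → plusForm 4 F w = 0 → N w = 0 → ∀ a, polar (plusForm 4 F) w a = 0 →
      N a ∈ Submodule.span F {w} := by
    intro w hw0 hw hNw a ha
    have hbw : b w = β • w := sub_eq_zero.1 hNw
    obtain ⟨β', hβ'⟩ := h w hw hw0 (im_span hbw hw0)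
    obtain ⟨a0, ha0, ha0'⟩ := exists_notMem (A := LinearMap.ker N ⊓ perp w) (by
      have h1 := finrank_inf (LinearMap.ker N) (perp w)
      have h2 := finrank_perp w
      omega) w
    have hb0 : b a0 = β • a0 := sub_eq_zero.1 (LinearMap.mem_ker.1 ha0.1)
    have h1 := hβ' a0 (mem_perp.1 ha0.2)
    rw [hb0, ← sub_smul] at h1
    have hββ : β = β' := by
      by_contra hne
      apply ha0'
      have h2 := Submodule.smul_mem _ (β - β')⁻¹ h1
      rwa [smul_smul, inv_mul_cancel₀ (sub_ne_zero.2 hne), one_smul] at h2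
    rw [hNa, hββ]
    exact hβ' a ha
  -- the image of `N` lies in every totally singular 4-space
  have key2 : ∀ Y : Submodule F (V8 F), TS (plusForm 4 F) Y → finrank F Y = 4 → ∀ v, N v ∈ Y := by
    intro Y hY h4 v
    have h2 : 2 ≤ finrank F (LinearMap.ker N ⊓ Y : Submodule F (V8 F)) := by
      have h1 := finrank_inf (LinearMap.ker N) Y
      omega
    obtain ⟨w₁, hw₁, hw₁'⟩ := exists_notMem h2 0
    have hw₁0 : w₁ ≠ 0 := by
      rintro rfl
      exact hw₁' (Submodule.zero_mem _)
    obtain ⟨w₂, hw₂, hw₂'⟩ := exists_notMem h2 w₁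
    have hw₂0 : w₂ ≠ 0 := by
      rintro rfl
      exact hw₂' (Submodule.zero_mem _)
    obtain ⟨x, hx2, hx1⟩ := exists_sep hw₁0 hw₂'
    set t : F := polar (plusForm 4 F) w₁ v / polar (plusForm 4 F) w₁ x with ht
    have h3 : v = (v - t • x) + t • x := by rw [sub_add_cancel]
    rw [h3, map_add]
    refine Y.add_mem ?_ ?_
    · have h5 := key w₁ hw₁0 (hY w₁ hw₁.2) (LinearMap.mem_ker.1 hw₁.1) (v - t • x) (by
        rw [polar_sub_right, polar_smul_right, smul_eq_mul, ht]
        field_simp
        ring)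
      exact (Submodule.span_singleton_le_iff_mem w₁ Y).2 hw₁.2 h5
    · have h5 := key w₂ hw₂0 (hY w₂ hw₂.2) (LinearMap.mem_ker.1 hw₂.1) (t • x) (by
        rw [polar_smul_right, hx2, smul_zero])
      exact (Submodule.span_singleton_le_iff_mem w₂ Y).2 hw₂.2 h5
  refine ⟨β, fun v => ?_⟩
  have h1 := mem_Xl.1 (key2 _ ts_Xl finrank_Xl v)
  have h2 := mem_Xr.1 (key2 _ ts_Xr finrank_Xr v)
  have h3 : N v = 0 := by
    funext i
    rcases i with i | i
    · exact h2 i
    · exact h1 i
  exact sub_eq_zero.1 h3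

end Cfsg.Agent.H597.OEight
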