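import Cfsg.Agent.H597.OEG3
import Cfsg.Agent.ClassicalGeometry.WittQuad

/-!
# `PΩ⁺₈(q)`: G4, G5 (task 1682 of helper465)
-/

set_option autoImplicit false

namespace Cfsg.Agent.H597.OEight

open Module QuadraticMap Cfsg.Agent.LieClassical.OrthCore Cfsg.Agent.LieClassical.OrthTrans
  Cfsg.Agent.ClassicalGeometry.OrthAut1 Cfsg.Agent.LieClassical.QuadForms Cfsg.Agent.ClassicalGeometry.TrialityOct
  Cfsg.Agent.ClassicalGeometry.Triality Cfsg.Agent.H465.OEight

variable {F : Type*} [Field F]

/-- the embedding of the first 3-space -/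
def phiL (F : Type*) [Field F] : (Fin 3 → F) →ₗ[F] V8 F where
  toFun x := Sum.elim ![x 0, x 1, x 2, 0] ![0, 0, 0, 0]
  map_add' x y := by
    funext i
    rcases i with i | i <;> fin_cases i <;> simp
  map_smul' c x := by
    funext i
    rcases i with i | i <;> fin_cases i <;> simp

/-- the embedding of the second 3-space, a family -/
def phiR (F : Type*) [Field F] (t : F) : (Fin 3 → F) →ₗ[F] V8 F where
  toFun x := Sum.elim ![-(t * x 1), t * x 0, 0, 0] ![x 0, x 1, x 2, 0]
  map_add' x y := by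
    funext i
    rcases i with i | i <;> fin_cases i <;> simp <;> ring
  map_smul' c x := by
    funext i
    rcases i with i | i <;> fin_cases i <;> simp <;> ring

theorem phiL_apply (x : Fin 3 → F) : phiL F x = Sum.elim ![x 0, x 1, x 2, 0] ![0, 0, 0, 0] := rfl

theorem phiR_apply (t : F) (x : Fin 3 → F) :
    phiR F t x = Sum.elim ![-(t * x 1), t * x 0, 0, 0] ![x 0, x 1, x 2, 0] := rfl

theorem ext3 {x y : Fin 3 → F} (h0 : x 0 = y 0) (h1 : x 1 = y 1) (h2 : x 2 = y 2) : x = y := by
  funext i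
  fin_cases i
  · exact h0
  · exact h1
  · exact h2

theorem phiL_inj : Function.Injective (phiL F) := by
  intro x y h
  rw [phiL_apply, phiL_apply] at h
  exact ext3 (by simpa using congrFun h (.inl 0)) (by simpa using congrFun h (.inl 1))
    (by simpa using congrFun h (.inl 2))

theorem phiR_inj (t : F) : Function.Injective (phiR F t) := by
  intro x y h
  rw [phiR_apply, phiR_apply] at h
  exact ext3 (by simpa using congrFun h (.inr 0)) (by simpa using congrFun h (.inr 1))
    (by simpa using congrFun h (.inr 2))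

theorem frame_std (t : F) : Frame (Pi.single (.inl 3) 1) (Pi.single (.inr 3) 1) (LinearMap.range (phiL F))
    (LinearMap.range (phiR F t)) where
  q₁ := by
    rw [plusForm_apply, Fin.sum_univ_four]
    simp
  q₂ := by
    rw [plusForm_apply, Fin.sum_univ_four]
    simp
  pair := by
    rw [polar_plusForm, Fin.sum_univ_four]
    simp
  ts₁ := by
    rintro _ ⟨x, rfl⟩
    rw [plusForm_apply, Fin.sum_univ_four, phiL_apply]
    simp
  ts₂ := by
    rintro _ ⟨x, rfl⟩
    rw [plusForm_apply, Fin.sum_univ_four, phiR_apply]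
    simp
    ring
  d₁ := by rw [LinearMap.finrank_range_of_inj phiL_inj, finrank_fin_fun]
  d₂ := by rw [LinearMap.finrank_range_of_inj (phiR_inj t), finrank_fin_fun]
  disj := by
    rw [eq_bot_iff]
    rintro v ⟨⟨x, hx⟩, ⟨y, hy⟩⟩
    rw [phiL_apply] at hx
    rw [phiR_apply] at hy
    have h : Sum.elim ![x 0, x 1, x 2, 0] ![0, 0, 0, 0] = Sum.elim ![-(t * y 1), t * y 0, 0, 0] ![y 0, y 1, y 2, 0] :=
      hx.trans hy.symm
    have h0 : y = 0 := ext3 (by simpa using (congrFun h (.inr 0)).symm) (by simpa using (congrFun h (.inr 1)).symm)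
      (by simpa using (congrFun h (.inr 2)).symm)
    rw [Submodule.mem_bot, ← hy, ← phiR_apply, h0, map_zero]
  perp₁ := by
    rintro _ ⟨x, rfl⟩
    rw [polar_plusForm, polar_plusForm, Fin.sum_univ_four, Fin.sum_univ_four, phiL_apply]
    simp
  perp₂ := by
    rintro _ ⟨x, rfl⟩
    rw [polar_plusForm, polar_plusForm, Fin.sum_univ_four, Fin.sum_univ_four, phiR_apply]
    simp

theorem range_ne : LinearMap.range (phiR F 0) ≠ LinearMap.range (phiR F 1) := by
  intro h
  have h1 : phiR F 0 ![1, 0, 0] ∈ LinearMap.range (phiR F 1) := by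
    rw [← h]
    exact ⟨_, rfl⟩
  obtain ⟨x, hx⟩ := h1
  rw [phiR_apply, phiR_apply] at hx
  have h2 := congrFun hx (.inr 0)
  have h3 := congrFun hx (.inl 1)
  simp at h2 h3
  rw [h2] at h3
  exact one_ne_zero h3

/-- **G4** -/
theorem exists_not_swap (b : V8 F ≃ₗ[F] V8 F) :
    ∃ (c₁ c₂ : V8 F) (W₁ W₂ : Submodule F (V8 F)), Frame c₁ c₂ W₁ W₂ ∧ im b W₁ ≠ W₂ := by
  by_cases h : im b (LinearMap.range (phiL F)) = LinearMap.range (phiR F 0)
  · exact ⟨_, _, _, _, frame_std 1, fun h' => range_ne (h.symm.trans h')⟩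
  · exact ⟨_, _, _, _, frame_std 0, h⟩

end Cfsg.Agent.H597.OEight
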