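import Cfsg.Agent.H880.ClPsuF
import Cfsg.Agent.H301.SY.Base

/-!
# The row `PSU_n(q)`, `n ≥ 3`, of S3846 (task 1515)
-/

set_option autoImplicit false
set_option linter.unusedSectionVars false

namespace Cfsg.Agent.H597.SYPsu

open Matrix Subgroup Module Cfsg Cfsg.Agent.H459.Rad Cfsg.Agent.H459.Iface Cfsg.Agent.H301.SY
open Cfsg.Agent.LieClassical.HermBasic Cfsg.Agent.LieClassical.HermSiegel
open Cfsg.Agent.ClassicalGeometry.PSUAutBasic Cfsg.Agent.ClassicalGeometry.HermOrtho
open Cfsg.Agent.ClassicalGeometry.PSUAutCount (toAut gm gm_mul gm_one gm_mul_inv gm_inv_mul semiConj guConj act_guConj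
  herm_gm gm_inv_mulVec gm_mulVec_inv herm_map gm_inj sc gm_sc_mul toAut_sc_mul eq_of_toAut_eq)
open Cfsg.Agent.H880.Cl

section Deg

variable {F V : Type*} [Field F] [Fintype F] [AddCommGroup V] [Module F V] [FiniteDimensional F V] [Nontrivial V]

/-- the dimension of a faithful irreducible module of a group of prime order -/
theorem finrank_eq_order {r p : ℕ} [hr : Fact r.Prime] [CharP F r] [hp : Fact p.Prime] (hpr : p ≠ r)
    (T : V →ₗ[F] V) (hTp : T ^ p = 1) (hT1 : T ≠ 1)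
    (hs : ∀ W : Submodule F V, (∀ w ∈ W, T w ∈ W) → W = ⊥ ∨ W = ⊤) :
    finrank F V = orderOf ((Fintype.card F : ℕ) : ZMod p) := by
  have hirr := Cfsg.Agent.H469.IrrCyc.minpoly_irreducible T hs
  obtain ⟨f, hr', hf⟩ := FiniteField.card F r
  have hcop : r.Coprime p := (Nat.coprime_primes hr.out hp.out).mpr hpr.symm
  have hdvd : minpoly F T ∣ Polynomial.cyclotomic p F := by
    have h1 : minpoly F T ∣ Polynomial.X ^ p - 1 := by
      apply minpoly.dvd
      rw [map_sub, map_pow, Polynomial.aeval_X, map_one, hTp, sub_self]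
    rw [← Polynomial.cyclotomic_prime_mul_X_sub_one] at h1
    rcases hirr.prime.dvd_or_dvd h1 with h | h
    · exact h
    · exfalso
      apply hT1
      obtain ⟨g, hg⟩ := h
      have h2 : Polynomial.aeval T (Polynomial.X - 1 : Polynomial F) = 0 := by
        rw [hg, map_mul, minpoly.aeval, zero_mul]
      rw [map_sub, Polynomial.aeval_X, map_one, sub_eq_zero] at h2
      exact h2
  have hdeg := Polynomial.natDegree_of_dvd_cyclotomic_of_irreducible (K := F) (p := r) (f := f) (n := p)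
    hf hcop hdvd hirr
  rw [Cfsg.Agent.H469.IrrCyc.finrank_eq T hs, hdeg, Cfsg.Agent.H469.IrrCyc.orderOf_unitOfCoprime, hf]

end Deg

section Main

variable {F : Type} [Field F] [Fintype F] {n q r p : ℕ} [hr : Fact r.Prime] [hp : Fact p.Prime] [CharP F r]

/-- **irreducible elements of prime order of `GU_n(q)`** -/
theorem two_mul_lt (hF : Fintype.card F = q ^ 2) (hn : 2 ≤ n) (hp3 : 3 ≤ p) (hpr : p ≠ r) {A : GU n F q} {d : F}
    (hd : d * d ^ q = 1) (hA : gm A ^ p = d ^ p • (1 : Matrix (Fin n) (Fin n) F))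
    (hs : ∀ W : Submodule F (Fin n → F), (∀ w ∈ W, gm A *ᵥ w ∈ W) → W = ⊥ ∨ W = ⊤) : 2 * n < p := by
  classical
  have hq2 : 2 ≤ q := two_le hF
  have hd0 : d ≠ 0 := by
    rintro rfl
    rw [zero_mul] at hd
    exact zero_ne_one hd
  have hdi : d⁻¹ * (d⁻¹) ^ q = 1 := by rw [inv_pow, ← mul_inv, hd, inv_one]
  obtain ⟨B, hB⟩ : ∃ B : GU n F q, B = sc n ⟨d⁻¹, hdi⟩ * A := ⟨_, rfl⟩
  have hgB : gm B = d⁻¹ • gm A := by rw [hB, gm_sc_mul]
  have hBp : (gm B) ^ p = 1 := by
    rw [hgB, smul_pow, hA, smul_smul, ← mul_pow, inv_mul_cancel₀ hd0, one_pow, one_smul]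
  have hirr : ∀ W : Submodule F (Fin n → F), (∀ w ∈ W, gm B *ᵥ w ∈ W) → W = ⊥ ∨ W = ⊤ := by
    intro W hW
    apply hs W
    intro w hw
    have h1 := W.smul_mem d (hW w hw)
    rwa [hgB, smul_mulVec, smul_smul, mul_inv_cancel₀ hd0, one_smul] at h1
  have : Nonempty (Fin n) := ⟨⟨0, by omega⟩⟩
  set T : Module.End F (Fin n → F) := Matrix.mulVecLin (gm B) with hT
  have hTs : ∀ W : Submodule F (Fin n → F), (∀ w ∈ W, T w ∈ W) → W = ⊥ ∨ W = ⊤ := hirr
  have hTp : T ^ p = 1 := by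
    have h1 : ∀ k : ℕ, T ^ k = Matrix.mulVecLin (gm B ^ k) := by
      intro k
      induction k with
      | zero => rw [pow_zero, pow_zero, Matrix.mulVecLin_one]; rfl
      | succ k ih => rw [pow_succ, pow_succ, Matrix.mulVecLin_mul, ih]; rfl
    rw [h1, hBp, Matrix.mulVecLin_one]
    rfl
  have hT1 : T ≠ 1 := by
    intro h
    have hv : (Pi.single (⟨0, by omega⟩ : Fin n) 1 : Fin n → F) ≠ 0 := single_ne _
    rcases hTs (Submodule.span F {Pi.single (⟨0, by omega⟩ : Fin n) 1}) (by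
      intro w hw
      rw [h]
      exact hw) with h2 | h2
    · rw [Submodule.span_singleton_eq_bot] at h2
      exact hv h2
    · have h3 := finrank_span_singleton (K := F) hv
      rw [h2, finrank_top, finrank_fin_fun] at h3
      omega
  have hord := finrank_eq_order (r := r) hpr T hTp hT1 hTs
  rw [finrank_fin_fun, hF] at hord
  -- `B` has order `p`
  have hBo : orderOf B = p := by
    refine orderOf_eq_prime ?_ ?_
    · apply gm_inj
      rw [gm_pow, hBp, gm_one]
    · intro h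
      apply hT1
      rw [hT, h, gm_one, Matrix.mulVecLin_one]
      rfl
  have hpd : p ∣ Nat.card (GU n F q) := hBo ▸ orderOf_dvd_natCard B
  have hpq : ¬ p ∣ q := by
    intro h
    obtain ⟨f, hr', hf⟩ := FiniteField.card F r
    have h1 : p ∣ r ^ (f : ℕ) := by
      rw [← hf, hF]
      exact dvd_pow h two_ne_zero
    exact hpr ((Nat.prime_dvd_prime_iff_eq hp.out hr.out).1 (hp.out.dvd_of_dvd_pow h1))
  rw [Cfsg.Agent.S0277.result hF n, hp.out.dvd_mul] at hpd
  have hpd' := hpd.resolve_left fun h => hpq (hp.out.dvd_of_dvd_pow h)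
  obtain ⟨i, hi, h3⟩ := (Prime.dvd_finsetProd_iff hp.out.prime _).1 hpd'
  rw [Finset.mem_range] at hi
  have hq1 : ∀ j, 1 ≤ q ^ j := fun j => Nat.one_le_pow _ _ (by omega)
  -- `n` divides `i + 1`
  have hpow : ((q ^ 2 : ℕ) : ZMod p) ^ (i + 1) = 1 := by
    rw [← Nat.cast_pow, ← pow_mul, mul_comm 2, pow_mul, Nat.cast_pow]
    by_cases he : Even i
    · rw [if_pos he] at h3
      have h4 : ((q ^ (i + 1) + 1 : ℕ) : ZMod p) = 0 := (ZMod.natCast_eq_zero_iff _ _).2 h3
      have h5 : ((q ^ (i + 1) : ℕ) : ZMod p) = -1 := by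
        push_cast at h4 ⊢
        linear_combination h4
      rw [h5]
      ring
    · rw [if_neg he] at h3
      have h4 : ((q ^ (i + 1) - 1 : ℕ) : ZMod p) = 0 := (ZMod.natCast_eq_zero_iff _ _).2 h3
      have h5 : ((q ^ (i + 1) : ℕ) : ZMod p) = 1 := by
        rw [Nat.cast_sub (hq1 _)] at h4
        push_cast at h4 ⊢
        linear_combination h4
      rw [h5]
      ring
  have hdvd : n ∣ i + 1 := by
    rw [hord]
    exact orderOf_dvd_of_pow_eq_one hpow
  have hin : i + 1 = n := by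
    have := Nat.le_of_dvd (by omega) hdvd
    omega
  -- `n` is odd
  have hodd : Odd n := by
    rw [← Nat.not_even_iff_odd]
    intro he
    obtain ⟨k, hk⟩ := he
    have hio : ¬ Even i := by
      rw [Nat.not_even_iff_odd]
      exact ⟨k - 1, by omega⟩
    rw [if_neg hio, hin] at h3
    have h4 : ((q ^ n - 1 : ℕ) : ZMod p) = 0 := (ZMod.natCast_eq_zero_iff _ _).2 h3
    have h5 : ((q ^ 2 : ℕ) : ZMod p) ^ k = 1 := by
      rw [← Nat.cast_pow, ← pow_mul, two_mul, ← hk]
      rw [Nat.cast_sub (hq1 _)] at h4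
      push_cast at h4 ⊢
      linear_combination h4
    have h6 : n ∣ k := by
      rw [hord]
      exact orderOf_dvd_of_pow_eq_one h5
    have h7 := Nat.le_of_dvd (by omega) h6
    omega
  have hn0 : ((q ^ 2 : ℕ) : ZMod p) ≠ 0 := by
    intro h
    exact hpq (hp.out.dvd_of_dvd_pow ((ZMod.natCast_eq_zero_iff _ _).1 h))
  have hdp : n ∣ p - 1 := by
    rw [hord]
    exact ZMod.orderOf_dvd_card_sub_one hn0
  obtain ⟨k, hk⟩ := hdp
  have hpo : Odd p := hp.out.odd_of_ne_two (by omega)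
  obtain ⟨m, hm⟩ := hpo
  have hek : Even k := by
    by_contra hko
    rw [Nat.not_even_iff_odd] at hko
    have h8 : Odd (p - 1) := hk ▸ hodd.mul hko
    obtain ⟨l, hl⟩ := h8
    omega
  obtain ⟨l, hl⟩ := hek
  have hl0 : l ≠ 0 := by
    rintro rfl
    rw [hl] at hk
    omega
  have hl1 : 1 ≤ l := by omega
  have h9 : p - 1 = 2 * (n * l) := by rw [hk, hl]; ring
  have h10 : n * 1 ≤ n * l := Nat.mul_le_mul_left _ hl1
  omega

/-- `FixR` or `2 n < p` -/
theorem fix_or (hF : Fintype.card F = q ^ 2) (hn : 4 ≤ n) (hp5 : 5 ≤ p) (hpr : p ≠ r)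
    {x : MulAut (PSU n F q)} (hx : x ^ p = 1) (hRC : RC x) : FixR r x ∨ 2 * n < p := by
  have hq2 := two_le hF
  obtain ⟨A, ρ, rfl⟩ := Cfsg.Agent.ClassicalGeometry.PSUAutMain.exists_toAut hF (by omega : 3 ≤ n) (by omega) x
  by_cases hρ : ρ = 1
  · subst hρ
    obtain ⟨-, c, hc1, hc⟩ := Cfsg.Agent.CpAutU.Desc.exists_scalar hF (by omega : 3 ≤ n) hx
    have hgm : gm A ^ p = c • (1 : Matrix (Fin n) (Fin n) F) := by
      rw [← gm_pow]
      have h1 : ∀ k : ℕ, ∀ v, (Cfsg.Agent.CpAut.Psl.perm (A : GL (Fin n) F) 1 ^ k) v = gm (A ^ k) *ᵥ v := by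
        intro k
        induction k with
        | zero => intro v; rw [pow_zero, pow_zero, gm_one, one_mulVec]; rfl
        | succ k ih =>
          intro v
          rw [pow_succ, Equiv.Perm.mul_apply, ih, pow_succ, gm_mul, ← mulVec_mulVec]
          rfl
      apply Matrix.ext_of_mulVec_single
      intro i
      rw [← h1, hc, Matrix.smul_mulVec, one_mulVec]
    rcases exists_root_or hF hp.out hc1 with ⟨d, hd, hdc⟩ | hpq
    · have hgm' : gm A ^ p = d ^ p • (1 : Matrix (Fin n) (Fin n) F) := by rw [hdc, hgm]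
      rcases irr_or_fix hF hn (r := r) hp.out hp5 hRC (Or.inr ⟨d, hd, hgm'⟩) with h | h
      · exact Or.inl h
      · exact Or.inr (two_mul_lt (r := r) hF (by omega) (by omega) hpr hd hgm' h)
    · have hq4 : 4 ≤ q := by
        have h1 := Nat.le_of_dvd (by omega) hpq
        omega
      rcases irr_or_fix hF hn (r := r) hp.out hp5 hRC (Or.inl hq4) with h | h
      · exact Or.inl h
      · exact (not_irr hF hn hp5 hpq hgm hRC h).elim
  · exact Or.inl (fixR_field hF (by omega) hp.out (by omega) hρ hx)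

/-- the row, up to `m0_of_rep` -/
theorem crow_of_m0 (hF : Fintype.card F = q ^ 2) (hn : 3 ≤ n) (hp5 : 5 ≤ p) (hpr : p ≠ r)
    (hM : ∀ x : PSU n F q, orderOf x = p → (∀ P : Sylow p (PSU n F q), IsCyclic (P : Subgroup (PSU n F q))) →
      ¬ FixR r (MulAut.conj x) → n + 1 < p → M0 x) : CRow r p (PSU n F q) := by
  intro x hx hRC hcyc
  by_cases hfix : FixR r (MulAut.conj x)
  · exact Or.inl hfix
  refine Or.inr (Or.inl (hM x hx hcyc hfix ?_))
  rcases Nat.lt_or_ge n 4 with h4 | h4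
  · omega
  · rcases fix_or (r := r) hF h4 hp5 hpr (x := MulAut.conj x) (by rw [← map_pow, ← hx, pow_orderOf_eq_one, map_one])
      hRC with h | h
    · exact absurd h hfix
    · omega

end Main

end Cfsg.Agent.H597.SYPsu
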