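import Cfsg.Agent.H597.ThreeDegA
import Cfsg.Agent.H597.FrobC
import Cfsg.Agent.H597.RelThompson

/-!
# Solvable groups with at most three character degrees have derived length at most three
-/

set_option autoImplicit false

namespace Cfsg.Agent.H597.ThreeDegB

open Cfsg
open Cfsg.Agent.Characters.Core Cfsg.Agent.Characters.Clifford Cfsg.Agent.Characters.Linear
open Cfsg.Agent.H597.Base Cfsg.Agent.H597.Degrees Cfsg.Agent.H597.Taketa
open Cfsg.Agent.H597.ThreeDegA Cfsg.Agent.H597.FrobA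
open Cfsg.Agent.H597.Broline (indFun_apply_one)
open Cfsg.Agent.Blocks.Basic (charDegree_of_eq irr_one_eq_charDegree charDegree_pos)
open Subgroup
open scoped commutatorElement ComplexConjugate

universe u
variable {G : Type u} [Group G]

theorem exists_over [Finite G] (N : Subgroup G) [N.Normal] {ψ : N → ℂ}
    (hψ : IsIrrCharacter N ψ) : ∃ χ : G → ℂ, IsIrrCharacter G χ ∧
      (∃ c, charDegree χ = charDegree ψ * c ∧ c ∣ N.index) ∧ ∀ x : N, χ x = χ 1 → ψ x = ψ 1 := by
  classical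
  have := Fintype.ofFinite G
  have := Fintype.ofFinite N
  obtain ⟨χ, hχ, hne⟩ := CharDeep.PowerDegrees.exists_irr_over N hψ
  exact ⟨χ, hχ, degree_over N hχ hψ hne, fun x hx =>
    ker_of_constituent (isCharacter_restrict N (isIrr_isCharacter hχ)) hψ hne (a := x) hx⟩

theorem exists_under [Finite G] (N : Subgroup G) [N.Normal] {χ : G → ℂ}
    (hχ : IsIrrCharacter G χ) : ∃ ψ : N → ℂ, IsIrrCharacter N ψ ∧
      (∃ c, charDegree χ = charDegree ψ * c ∧ c ∣ N.index) ∧ ∀ x : N, χ x = χ 1 → ψ x = ψ 1 := by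
  classical
  have := Fintype.ofFinite G
  have := Fintype.ofFinite N
  have hchar := isCharacter_restrict N (isIrr_isCharacter hχ)
  obtain ⟨ψ, hψ, hne⟩ := exists_constituent hchar (isIrr_apply_one_ne_zero hχ)
  exact ⟨ψ, hψ, degree_over N hχ hψ hne, fun x hx =>
    ker_of_constituent hchar hψ hne (a := x) hx⟩

theorem exists_under_ne [Finite G] (N : Subgroup G) [N.Normal] {χ : G → ℂ}
    (hχ : IsIrrCharacter G χ) {x : N} (hx : χ x ≠ χ 1) : ∃ ψ : N → ℂ, IsIrrCharacter N ψ ∧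
      (∃ c, charDegree χ = charDegree ψ * c ∧ c ∣ N.index) ∧ ψ x ≠ ψ 1 := by
  classical
  have := Fintype.ofFinite G
  have := Fintype.ofFinite N
  have := finite_irr (G := N)
  have := Fintype.ofFinite (IrrCharacter N)
  have hchar := isCharacter_restrict N (isIrr_isCharacter hχ)
  obtain ⟨c, hc, hc'⟩ := CharDeep.CliffordCorr.exists_nat_coeffs hchar
  by_contra hcon
  push Not at hcon
  apply hx
  have h1 := apply_eq_sum hc x
  have h2 := apply_eq_sum hc 1
  have h3 : χ x = ∑ η : IrrCharacter N, (c η : ℂ) * (η : N → ℂ) x := h1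
  have h4 : χ 1 = ∑ η : IrrCharacter N, (c η : ℂ) * (η : N → ℂ) 1 := h2
  rw [h3, h4]
  refine Finset.sum_congr rfl fun η _ => ?_
  by_cases h0 : c η = 0
  · rw [h0]; simp
  · rw [hcon η η.2 (degree_over N hχ η.2 (by rw [hc']; exact_mod_cast h0))]

theorem bot_of_derived (N : Subgroup G) (h : derivedSeries N 2 = ⊥) : ⁅⁅N, N⁆, ⁅N, N⁆⁆ = ⊥ := by
  have h1 : (commutator N).map N.subtype = ⁅N, N⁆ := by
    rw [_root_.commutator_def, map_commutator, ← MonoidHom.range_eq_map, range_subtype]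
  rw [← h1, ← map_commutator, ← derivedSeries_one, ← derivedSeries_succ, h, Subgroup.map_bot]

theorem derived_three_of_le (N : Subgroup G) (hN : commutator G ≤ N) (h : derivedSeries N 2 = ⊥) :
    derivedSeries G 3 = ⊥ := by
  rw [eq_bot_iff, ← bot_of_derived N h, derivedSeries_succ, derivedSeries_succ, derivedSeries_one]
  exact commutator_mono (commutator_mono hN hN) (commutator_mono hN hN)

theorem derived_three_of_le' (N : Subgroup G) (hN : derivedSeries G 2 ≤ ⁅N, N⁆)
    (h : derivedSeries N 2 = ⊥) : derivedSeries G 3 = ⊥ := by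
  rw [eq_bot_iff, ← bot_of_derived N h, derivedSeries_succ]
  exact commutator_mono hN hN

/-- A character all of whose values on `N'` are trivial has linear constituents on `N`. -/
theorem charDegree_eq_one_of_comm [Finite G] (N : Subgroup G) [N.Normal] {χ : G → ℂ} {ψ : N → ℂ}
    (hψ : IsIrrCharacter N ψ) (h : ∀ x : N, χ x = χ 1 → ψ x = ψ 1)
    (hχ : ∀ x ∈ ⁅N, N⁆, χ x = χ 1) : charDegree ψ = 1 :=
  H597.RelThompson.charDegree_eq_one hψ fun k hk =>
    h k (hχ _ ((H597.IndexP.mem_commutator_iff N).1 hk))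

/-- Case `G / K` is a `q`-group. -/
theorem case_p [Finite G] {q k f g : ℕ} (hq : q.Prime) (K : Subgroup G) [K.Normal]
    (hK : K.index = q ^ k)
    (hcd : ∀ χ : G → ℂ, IsIrrCharacter G χ → charDegree χ = 1 ∨ charDegree χ = f ∨ charDegree χ = g)
    {β : G → ℂ} (hβ : IsIrrCharacter G β) (hβf : charDegree β = f) (hf : f ≠ 1)
    (hβK : ∀ x ∈ K, β x = β 1) {j : ℕ} (hfq : f = q ^ j) : derivedSeries G 3 = ⊥ := by
  classical
  have := Fintype.ofFinite G
  have hj : j ≠ 0 := by rintro rfl; exact hf hfq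
  have hqf : q ∣ f := hfq ▸ dvd_pow_self q hj
  have hf1 : 1 < f := by
    have := charDegree_pos hβ
    omega
  by_cases hall : ∀ χ : G → ℂ, IsIrrCharacter G χ → charDegree χ ≠ 1 → q ∣ charDegree χ
  swap
  · push Not at hall
    obtain ⟨χ, hχ, hχ1, hχq⟩ := hall
    exfalso
    have hχg : charDegree χ = g := by
      rcases hcd χ hχ with h | h | h
      · exact absurd h hχ1
      · exact absurd (h ▸ hqf) hχq
      · exact h
    have h1 := isIrr_restrict_of_coprime K hχ (by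
      rw [hK]
      exact Nat.Coprime.pow_left _ ((hq.coprime_iff_not_dvd).2 hχq))
    have h2 := H597.FrobC.isIrr_mul_of_restrict K hχ h1 hβ hβK
    have h3 := H597.FrobC.charDegree_mul hχ hβ
    rw [hβf, hχg] at h3
    have hg1 : 1 < g := by
      have := charDegree_pos hχ
      omega
    rcases hcd _ h2 with h | h | h
    · rw [h3] at h; nlinarith
    · rw [h3] at h; nlinarith
    · rw [h3] at h; nlinarith
  obtain ⟨N, hN, hNq, n, hNn⟩ := Cfsg.Agent.S4456.result q hq (fun χ hχ => hall _ χ.2 hχ)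
  have hqN : ∀ ψ : N → ℂ, IsIrrCharacter N ψ → (charDegree ψ).Coprime q := fun ψ hψ =>
    Nat.Coprime.coprime_dvd_left (charDegree_dvd_card hψ) hNq
  by_cases hlin : ∀ ψ : N → ℂ, IsIrrCharacter N ψ → charDegree ψ = 1
  · -- `N` is abelian
    have hab : ∀ a ∈ N, ∀ b ∈ N, a * b = b * a := fun a ha b hb =>
      congrArg Subtype.val (comm_of_forall_one hlin ⟨a, ha⟩ ⟨b, hb⟩)
    have hnil : Group.IsNilpotent (G ⧸ N) := by
      have := Fact.mk hq
      exact (IsPGroup.of_card (p := q) (n := n) (by rw [← index_eq_card]; exact hNn)).isNilpotent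
    apply derivedSeries_eq_bot
    · intro χ hχ
      obtain ⟨H, f, -, hf⟩ := exists_linear_of_abelian_nilpotent N hab hnil hχ
      exact ⟨H, f, hf⟩
    · have hsub : {n : ℕ | ∃ χ : IrrCharacter G, charDegree (χ : G → ℂ) = n} ⊆ {1, f, g} := by
        rintro _ ⟨χ, rfl⟩
        exact hcd χ χ.2
      have h3 := Set.ncard_le_ncard hsub (Set.toFinite _)
      exact h3.trans ((Set.ncard_insert_le _ _).trans
        (Nat.succ_le_succ ((Set.ncard_insert_le _ _).trans (by rw [Set.ncard_singleton]))))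
  · push Not at hlin
    obtain ⟨ψ₁, hψ₁, hd⟩ := hlin
    -- every nonlinear character of `N` lies under a character of degree `g`
    have hover : ∀ ψ : N → ℂ, IsIrrCharacter N ψ → charDegree ψ ≠ 1 →
        ∃ i, g = charDegree ψ * q ^ i := by
      intro ψ hψ hψ1
      obtain ⟨χ, hχ, ⟨c, hc, hc'⟩, -⟩ := exists_over N hψ
      rw [hNn] at hc'
      obtain ⟨i, -, rfl⟩ := (Nat.dvd_prime_pow hq).1 hc'
      refine ⟨i, ?_⟩
      rcases hcd χ hχ with h | h | h
      · exact absurd (Nat.dvd_one.1 (h ▸ hc ▸ Dvd.intro _ rfl)) hψ1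
      · exfalso
        apply hψ1
        have h1 : charDegree ψ ∣ q ^ j := by
          rw [← hfq, ← h, hc]; exact Dvd.intro _ rfl
        exact Nat.dvd_one.1 ((Nat.Coprime.pow_right j (hqN ψ hψ)).eq_one_of_dvd h1 ▸ dvd_rfl)
      · rw [← h, hc]
    obtain ⟨i₁, hi₁⟩ := hover ψ₁ hψ₁ hd
    have hN2 : derivedSeries N 2 = ⊥ := by
      apply derived_two (charDegree ψ₁)
      intro ψ hψ
      by_cases h1 : charDegree ψ = 1
      · exact Or.inl h1
      · right
        obtain ⟨i, hi⟩ := hover ψ hψ h1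
        apply Nat.dvd_antisymm
        · exact (Nat.Coprime.pow_right i₁ (hqN ψ hψ)).dvd_of_dvd_mul_right
            (hi₁ ▸ hi ▸ Dvd.intro _ rfl)
        · exact (Nat.Coprime.pow_right i (hqN ψ₁ hψ₁)).dvd_of_dvd_mul_right
            (hi ▸ hi₁ ▸ Dvd.intro _ rfl)
    refine derived_three_of_le' N ?_ hN2
    apply derived_two_le f
    intro χ hχ hker
    rcases hcd χ hχ with h | h | h
    · exact Or.inl h
    · exact Or.inr h
    · exfalso
      obtain ⟨ψ, hψ, ⟨c, hc, hc'⟩, hψk⟩ := exists_under N hχ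
      have h1 := charDegree_eq_one_of_comm N hψ hψk hker
      rw [h1, one_mul, h] at hc
      rw [hNn, ← hc] at hc'
      apply hd
      have h2 : charDegree ψ₁ ∣ q ^ n := dvd_trans (hi₁ ▸ Dvd.intro _ rfl) hc'
      exact (Nat.Coprime.pow_right n (hqN ψ₁ hψ₁)).eq_one_of_dvd h2

/-- Case `G / K` is a Frobenius group with kernel `N / K`. -/
theorem case_f [Finite G] {r g : ℕ} (hr : r.Prime) (K N : Subgroup G) [K.Normal] [N.Normal]
    (hF : FrobQ K N r)
    (hcd : ∀ χ : G → ℂ, IsIrrCharacter G χ →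
      charDegree χ = 1 ∨ charDegree χ = N.index ∨ charDegree χ = g) :
    derivedSeries G 3 = ⊥ := by
  classical
  have := Fintype.ofFinite G
  have := Fintype.ofFinite N
  have := Fact.mk hr
  have hf1 : 1 < N.index := by
    have h1 : N.index ≠ 0 := index_ne_zero_of_finite
    have h2 : N.index ≠ 1 := fun h => hF.ne_top (index_eq_one.1 h)
    omega
  by_cases hnv : ∀ ψ : N → ℂ, IsIrrCharacter N ψ → ∃ n : N, (n : G) ∉ K ∧ ψ n ≠ 0
  · refine derived_three_of_le N hF.le (derived_two (g / N.index) ?_)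
    intro ψ hψ
    obtain ⟨n, hn, hne⟩ := hnv ψ hψ
    obtain ⟨χ, hχ, hd⟩ := H597.FrobB.exists_degree_mul hF hψ hn hne
    have hpos := charDegree_pos hψ
    rcases hcd χ hχ with h | h | h
    · rw [hd] at h
      nlinarith
    · left
      rw [hd] at h
      nlinarith
    · right
      rw [← h, hd, Nat.mul_div_cancel_left _ (by omega)]
  push Not at hnv
  obtain ⟨ψ₀, hψ₀, hv₀⟩ := hnv
  obtain ⟨k, hk⟩ := hF.rel
  have hKN : K.subgroupOf N ≠ ⊤ := by
    rw [Ne, subgroupOf_eq_top]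
    exact hF.lt.not_ge
  have hrv : ∀ ψ : N → ℂ, IsIrrCharacter N ψ → (∀ n : N, (n : G) ∉ K → ψ n = 0) →
      r ∣ charDegree ψ := fun ψ hψ hv =>
    H597.FrobC.dvd_of_vanish hr (K.subgroupOf N) hk hKN hψ
      (fun n hn => hv n (fun h => hn (mem_subgroupOf.2 h)))
  have hrg : r ∣ g := by
    obtain ⟨χ, hχ, ⟨c, hc, -⟩, -⟩ := exists_over N hψ₀
    have h1 : r ∣ charDegree χ := hc ▸ Dvd.dvd.mul_right (hrv ψ₀ hψ₀ hv₀) c
    rcases hcd χ hχ with h | h | h
    · exact absurd (Nat.dvd_one.1 (h ▸ h1)) hr.one_lt.ne'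
    · exact absurd (h ▸ h1) hF.idx
    · exact h ▸ h1
  -- nonlinear characters of `N`
  have hr1 : ∀ ψ : N → ℂ, IsIrrCharacter N ψ → charDegree ψ ≠ 1 → r ∣ charDegree ψ := by
    intro ψ hψ hψ1
    by_cases hv : ∀ n : N, (n : G) ∉ K → ψ n = 0
    · exact hrv ψ hψ hv
    · push Not at hv
      obtain ⟨n, hn, hne⟩ := hv
      obtain ⟨χ, hχ, hd⟩ := H597.FrobB.exists_degree_mul hF hψ hn hne
      have hpos := charDegree_pos hψ
      rcases hcd χ hχ with h | h | h
      · rw [hd] at h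
        nlinarith
      · rw [hd] at h
        exfalso
        apply hψ1
        nlinarith
      · rw [← h, hd] at hrg
        exact (hr.dvd_mul.1 hrg).resolve_left hF.idx
  have hover : ∀ (ψ : N → ℂ) (χ : G → ℂ), IsIrrCharacter N ψ → IsIrrCharacter G χ →
      charDegree ψ ≠ 1 → (∃ c, charDegree χ = charDegree ψ * c ∧ c ∣ N.index) →
      charDegree χ = g := by
    rintro ψ χ hψ hχ hψ1 ⟨c, hc, -⟩
    have h1 : r ∣ charDegree χ := hc ▸ Dvd.dvd.mul_right (hr1 ψ hψ hψ1) c
    rcases hcd χ hχ with h | h | h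
    · exact absurd (Nat.dvd_one.1 (h ▸ h1)) hr.one_lt.ne'
    · exact absurd (h ▸ h1) hF.idx
    · exact h
  have hG2 : ∀ χ : G → ℂ, IsIrrCharacter G χ → (∃ x ∈ ⁅N, N⁆, χ x ≠ χ 1) → charDegree χ = g := by
    rintro χ hχ ⟨x, hx, hne⟩
    have hxN : x ∈ N := commutator_le_left N N hx
    obtain ⟨ψ, hψ, hc, hψx⟩ := exists_under_ne N hχ (x := ⟨x, hxN⟩) hne
    refine hover ψ χ hψ hχ (fun h1 => hψx ?_) hc
    exact commutator_le_ker_of_linear hψ h1 _ ((H597.IndexP.mem_commutator_iff N).2 hx)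
  -- the complements
  have hg0 : g ≠ 0 := by
    rintro rfl
    obtain ⟨χ, hχ, hc, -⟩ := exists_over N hψ₀
    have h1 := hover ψ₀ χ hψ₀ hχ (fun h1 => by
      have h2 := hrv ψ₀ hψ₀ hv₀
      rw [h1] at h2
      exact hr.one_lt.ne' (Nat.dvd_one.1 h2)) hc
    exact (charDegree_pos hχ).ne' h1
  have hcompl : ∀ p : ℕ, p ∈ g.primeFactors → ∃ C : Subgroup N, C.Normal ∧
      (Nat.card C).Coprime p ∧ ∃ k : ℕ, C.index = p ^ k := by
    intro p hp
    have hpp := Nat.prime_of_mem_primeFactors hp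
    have := Fact.mk hpp
    have h1 := H597.RelThompson.card_Op_coprime p hpp N (fun χ hχ hx => by
      rw [hG2 χ hχ hx]; exact Nat.dvd_of_mem_primeFactors hp)
    refine ⟨(H597.RelThompson.Op p N).subgroupOf N, inferInstance, ?_,
      H597.RelThompson.relIndex_Op p N⟩
    rwa [Nat.card_congr (subgroupOfEquivOfLe (H597.RelThompson.Op_le p N)).toEquiv]
  obtain ⟨L, hLn, hL, kL, hLi⟩ := hcompl r (Nat.mem_primeFactors.2 ⟨hr, hrg, hg0⟩)
  obtain ⟨W, hWn, hW1, hW2, hW3⟩ := exists_inter_complements (G := N) (g.primeFactors.erase r)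
    (fun p hp => Nat.prime_of_mem_primeFactors (Finset.mem_of_mem_erase hp))
    (fun p hp => hcompl p (Finset.mem_of_mem_erase hp))
  have hLnil : Group.IsNilpotent (N ⧸ L) :=
    (IsPGroup.of_card (p := r) (n := kL) (by rw [← index_eq_card]; exact hLi)).isNilpotent
  have hnil := isNilpotent_quot_inf L W hLnil hW2
  -- `A = L ⊓ W` is abelian
  have hAcop : ∀ p, p.Prime → p ∣ g → ¬ p ∣ Nat.card (L ⊓ W : Subgroup N) := by
    intro p hp hpg hpd
    by_cases hpr : p = r
    · subst hpr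
      exact (hp.coprime_iff_not_dvd.1 hL.symm) (hpd.trans (card_dvd_of_le inf_le_left))
    · have := hW1 p (Finset.mem_erase.2 ⟨hpr, Nat.mem_primeFactors.2 ⟨hp, hpg, hg0⟩⟩)
      exact (hp.coprime_iff_not_dvd.1 this.symm) (hpd.trans (card_dvd_of_le inf_le_right))
  have hab : ∀ x ∈ L ⊓ W, ∀ y ∈ L ⊓ W, x * y = y * x := by
    intro x hx y hy
    have h1 := comm_of_forall_one (G := (L ⊓ W : Subgroup N)) (fun θ hθ => by
      obtain ⟨ψ, hψ, ⟨c, hc, -⟩, -⟩ := exists_over (L ⊓ W) hθ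
      by_cases hψ1 : charDegree ψ = 1
      · exact Nat.dvd_one.1 (hψ1 ▸ hc ▸ Dvd.intro _ rfl)
      · obtain ⟨χ, hχ, ⟨c', hc', hc''⟩, -⟩ := exists_over N hψ
        have h2 := hover ψ χ hψ hχ hψ1 ⟨c', hc', hc''⟩
        have h3 : charDegree θ ∣ g := by
          rw [← h2, hc', hc, mul_assoc]; exact Dvd.intro _ rfl
        by_contra h4
        obtain ⟨p, hp, hpd⟩ := Nat.exists_prime_and_dvd h4
        exact hAcop p hp (hpd.trans h3) (hpd.trans (charDegree_dvd_card hθ))) ⟨x, hx⟩ ⟨y, hy⟩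
    exact congrArg Subtype.val h1
  have hN2 : derivedSeries N 2 = ⊥ := by
    refine core hr L W ((hr.coprime_iff_not_dvd).1 hL.symm) ⟨kL, hLi⟩ ?_ hab hnil
      (a := g.factorization r) ?_ ?_
    · intro h
      exact (Finset.mem_erase.1 (hW3 r hr h)).1 rfl
    · exact (hr.factorization_pos_of_dvd hg0 hrg).ne'
    · intro ψ hψ
      by_cases hψ1 : charDegree ψ = 1
      · exact Or.inl hψ1
      right
      obtain ⟨χ, hχ, ⟨c, hc, hc'⟩, -⟩ := exists_over N hψ
      have h2 := hover ψ χ hψ hχ hψ1 ⟨c, hc, hc'⟩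
      rw [h2] at hc
      have hrc : ¬ r ∣ c := fun h => hF.idx (h.trans hc')
      have h3 : r ^ g.factorization r ∣ charDegree ψ := by
        refine (Nat.Coprime.pow_left _ ((hr.coprime_iff_not_dvd).2 hrc)).dvd_of_dvd_mul_right ?_
        rw [← hc]
        exact Nat.ordProj_dvd g r
      obtain ⟨e, he⟩ := h3
      refine ⟨e, he, fun hre => ?_⟩
      apply Nat.pow_succ_factorization_not_dvd hg0 hr
      rw [pow_succ]
      conv_rhs => rw [hc, he]
      exact Dvd.dvd.mul_right (Nat.mul_dvd_mul_left _ hre) c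
  exact derived_three_of_le N hF.le hN2

/-- **Solvable groups with at most three character degrees.** -/
theorem solvable_case [Finite G] (hs : Group.IsSolvable G) (m n : ℕ)
    (hcd : ∀ χ : G → ℂ, IsIrrCharacter G χ →
      charDegree χ = 1 ∨ charDegree χ = m ∨ charDegree χ = n) :
    derivedSeries G 3 = ⊥ := by
  classical
  have := Fintype.ofFinite G
  by_cases hab : commutator G = ⊥
  · rw [eq_bot_iff, ← hab, ← derivedSeries_one]
    exact derivedSeries_antitone G (by norm_num)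
  -- relabel the degrees
  have hlabel : ∀ f, f ≠ 1 → (∃ χ : G → ℂ, IsIrrCharacter G χ ∧ charDegree χ = f) →
      ∃ g, ∀ χ : G → ℂ, IsIrrCharacter G χ →
        charDegree χ = 1 ∨ charDegree χ = f ∨ charDegree χ = g := by
    rintro f hf ⟨χ₀, hχ₀, rfl⟩
    rcases hcd χ₀ hχ₀ with h | h | h
    · exact absurd h hf
    · exact ⟨n, fun χ hχ => by rw [h]; exact hcd χ hχ⟩
    · exact ⟨m, fun χ hχ => by rw [h]; exact (hcd χ hχ).imp_right Or.symm⟩
  obtain ⟨K, hKmax⟩ := (Set.toFinite {K : Subgroup G | K.Normal ∧ ¬ commutator G ≤ K}).exists_maximal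
    ⟨⊥, inferInstance, fun h => hab (le_bot_iff.1 h)⟩
  have hKn : K.Normal := hKmax.prop.1
  obtain ⟨r, hr, ⟨k, hk⟩ | ⟨N, hN, hF⟩⟩ := dichotomy_quot K inferInstance hKmax.prop.2 (by
    intro L hL hKL
    by_contra hcon
    exact hKL.not_ge (hKmax.le_of_ge (y := L) ⟨hL, hcon⟩ hKL.le))
  · -- a nonlinear character of `G / K`
    have hex : ∃ θ : (G ⧸ K) → ℂ, IsIrrCharacter (G ⧸ K) θ ∧ charDegree θ ≠ 1 := by
      by_contra hcon
      push Not at hcon
      have h1 := commutator_eq_bot hcon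
      rw [← derivedSeries_one, ← map_derivedSeries_eq (QuotientGroup.mk'_surjective K) 1,
        Subgroup.map_eq_bot_iff, QuotientGroup.ker_mk', derivedSeries_one] at h1
      exact hKmax.prop.2 h1
    obtain ⟨θ, hθ, hθ1⟩ := hex
    have hβ : IsIrrCharacter G (θ ∘ QuotientGroup.mk' K) :=
      isIrr_comp _ (QuotientGroup.mk'_surjective K) hθ
    have hβd : charDegree (θ ∘ QuotientGroup.mk' K) = charDegree θ := by
      rw [Blocks.Basic.charDegree_def, Blocks.Basic.charDegree_def, Function.comp_apply, map_one]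
    obtain ⟨g, hg⟩ := hlabel (charDegree θ) hθ1 ⟨_, hβ, hβd⟩
    have hdvd : charDegree θ ∣ r ^ k := by
      rw [← hk, index_eq_card]
      exact charDegree_dvd_card hθ
    obtain ⟨j, -, hj⟩ := (Nat.dvd_prime_pow hr).1 hdvd
    refine case_p hr K hk hg hβ hβd hθ1 (fun x hx => ?_) hj
    rw [Function.comp_apply, Function.comp_apply, map_one]
    congr 1
    exact (QuotientGroup.eq_one_iff x).2 hx
  · obtain ⟨x, hxN, hxK⟩ := SetLike.exists_of_lt hF.lt
    obtain ⟨χ, hχ, hd⟩ := H597.FrobB.exists_degree_mul hF (ψ := 1) isIrr_one (n₀ := ⟨x, hxN⟩)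
      hxK one_ne_zero
    have h1 : charDegree (1 : N → ℂ) = 1 := charDegree_of_eq (by simp)
    rw [h1, mul_one] at hd
    obtain ⟨g, hg⟩ := hlabel N.index (fun h => hF.ne_top (index_eq_one.1 h)) ⟨χ, hχ, hd⟩
    exact case_f hr K N hF hg

end Cfsg.Agent.H597.ThreeDegB
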