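import Cfsg.Agent.H321.Uni.Defs

/-!
# The unipotent radical of the stabiliser of a totally isotropic subspace (helper597, for S3463)

It is generated by those of the points of the subspace.
-/

set_option autoImplicit false
set_option linter.unusedSectionVars false

namespace Cfsg.Agent.H597.UniInR

open Cfsg Cfsg.Agent.LieClassical.HermBasic Cfsg.Agent.LieClassical.HermSiegel Cfsg.Agent.H321.Uni

variable {F : Type*} [Field F] [Fintype F] {n q : ℕ}

/-- the linear form `(·, w)` -/
def lf (q : ℕ) (w : Fin n → F) : (Fin n → F) →ₗ[F] F where
  toFun v := hermForm n F q v w
  map_add' u v := herm_add_left u v w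
  map_smul' c v := herm_smul_left c v w

theorem lf_apply (w v : Fin n → F) : lf q w v = hermForm n F q v w := rfl

theorem mem_of_inR (hF : Fintype.card F = q ^ 2)
    (P : Subgroup (SU n F q)) (K : Submodule F (Fin n → F)) (hK : TI q K)
    (h : ∀ x ∈ K, x ≠ 0 → ∀ g : SU n F q, InR (Submodule.span F {x}) g → g ∈ P) (g : SU n F q)
    (hg : InR K g) : g ∈ P := by
  induction hd : Module.finrank F K using Nat.strong_induction_on generalizing K g with
  | _ d ih =>
    by_cases hK0 : K = ⊥
    · have h1 : g = 1 := by
        apply ext_act
        intro v
        rw [act_one]
        have h2 := hg.mem v (by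
          intro u hu
          rw [hK0, Submodule.mem_bot] at hu
          rw [hu, herm_zero_right hF])
        rw [hK0, Submodule.mem_bot] at h2
        exact sub_eq_zero.1 h2
      rw [h1]
      exact P.one_mem
    · obtain ⟨x, hx, hx0⟩ := Submodule.exists_mem_ne_zero_of_ne_bot hK0
      obtain ⟨w0, hw0⟩ := exists_herm_ne_zero hF hx0
      -- normalise `w`
      set w : Fin n → F := ((hermForm n F q x w0)⁻¹ ^ q) • w0 with hw
      have hxw : hermForm n F q x w = 1 := by
        rw [hw, herm_smul_right, pow_q_pow_q hF, inv_mul_cancel₀ hw0]
      have hwx : hermForm n F q w x = 1 := by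
        rw [herm_swap hF x w, hxw, one_pow]
      set y : Fin n → F := act g w - w with hy
      have hyK : ∀ u ∈ K, hermForm n F q y u = 0 := fun u hu => hg.perp w u hu
      have hKy : ∀ u ∈ K, hermForm n F q u y = 0 := fun u hu => herm_eq_zero_swap hF (hyK u hu)
      set μ : F := hermForm n F q w y with hμ
      have hgw : act g w = w + y := by rw [hy]; abel
      have hS : IsSiegel q x y μ := by
        refine ⟨hK x hx x hx, hyK x hx, ?_⟩
        have h1 := herm_act g w w
        rw [hgw, herm_add_left, herm_add_right hF, herm_add_right hF] at h1
        have h2 : μ ^ q = hermForm n F q y w := (herm_swap hF w y).symm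
        rw [h2]
        linear_combination h1
      set r := siegel hF x y μ hS with hr
      have hrw : act r w = act g w := by
        rw [hr, act_siegel, hwx, hgw, one_smul, mul_one, ← hμ, sub_self, zero_smul, add_zero]
      have hrR : InR (Submodule.span F {x}) r := by
        refine ⟨?_, ?_, ?_⟩
        · intro v u hu
          obtain ⟨c, rfl⟩ := Submodule.mem_span_singleton.1 hu
          rw [hr, act_siegel, herm_smul_right]
          have e : v + hermForm n F q v x • y + (μ * hermForm n F q v x - hermForm n F q v y) • x - v =
              hermForm n F q v x • y + (μ * hermForm n F q v x - hermForm n F q v y) • x := by abel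
          rw [e, herm_add_left, herm_smul_left, herm_smul_left, hyK x hx, hK x hx x hx]
          ring
        · intro v hv
          have h1 := hv x (Submodule.mem_span_singleton_self x)
          rw [hr, act_siegel, h1, zero_smul, add_zero, mul_zero, zero_sub, add_sub_cancel_left]
          exact Submodule.smul_mem _ _ (Submodule.mem_span_singleton_self x)
        · intro u hu
          obtain ⟨c, rfl⟩ := Submodule.mem_span_singleton.1 hu
          rw [act_smul, hr, act_siegel_self]
      have hrP := h x hx hx0 r hrR
      have hrinv : ∀ v, act r⁻¹ v = v - hermForm n F q v x • y +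
          (μ ^ q * hermForm n F q v x + hermForm n F q v y) • x := by
        intro v
        rw [hr, siegel_inv, act_siegel, herm_neg_right hF, smul_neg, sub_neg_eq_add]
        rw [sub_eq_add_neg v]
      -- the hyperplane
      set K' : Submodule F (Fin n → F) := K ⊓ LinearMap.ker (lf q w) with hK'
      have memK' : ∀ k, k ∈ K' ↔ k ∈ K ∧ hermForm n F q k w = 0 := by
        intro k
        rw [hK', Submodule.mem_inf, LinearMap.mem_ker, lf_apply]
      have hlt : K' < K := by
        refine lt_of_le_of_ne inf_le_left ?_
        intro he
        have h1 : x ∈ K' := he ▸ hx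
        have h2 := ((memK' x).1 h1).2
        rw [hxw] at h2
        exact one_ne_zero h2
      have hfin := Submodule.finrank_lt_finrank_of_lt hlt
      have hTI : TI q K' := fun a ha b hb => hK a (inf_le_left (a := K) ha) b (inf_le_left (a := K) hb)
      have hmain : InR K' (r⁻¹ * g) := by
        refine ⟨?_, ?_, ?_⟩
        · intro v u hu
          have huK := ((memK' u).1 hu).1
          rw [act_mul, hrinv]
          have e : act g v - hermForm n F q (act g v) x • y +
              (μ ^ q * hermForm n F q (act g v) x + hermForm n F q (act g v) y) • x - v =
              (act g v - v) - hermForm n F q (act g v) x • y +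
              (μ ^ q * hermForm n F q (act g v) x + hermForm n F q (act g v) y) • x := by abel
          rw [e, herm_add_left, herm_sub_left, herm_smul_left, herm_smul_left, hg.perp v u huK,
            hyK u huK, hK x hx u huK]
          ring
        · intro v hv
          -- reduce to `v₀` orthogonal to `K`
          set v₀ := v - hermForm n F q v x • w with hv₀
          have h1 : ∀ u ∈ K, hermForm n F q v₀ u = 0 := by
            intro u hu
            have h2 : u - hermForm n F q u w • x ∈ K' := by
              rw [memK']
              refine ⟨K.sub_mem hu (K.smul_mem _ hx), ?_⟩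
              rw [herm_sub_left, herm_smul_left, hxw, mul_one, sub_self]
            have h3 := hv _ h2
            rw [herm_sub_right hF, herm_smul_right] at h3
            rw [hv₀, herm_sub_left, herm_smul_left]
            have h4 : hermForm n F q w u = (hermForm n F q u w) ^ q := herm_swap hF u w
            rw [h4]
            linear_combination h3
          have hgw' : act (r⁻¹ * g) w = w := by
            rw [act_mul, ← hrw, act_inv_act]
          have e0 : v = v₀ + hermForm n F q v x • w := by rw [hv₀]; abel
          have h2 : act (r⁻¹ * g) v - v = act (r⁻¹ * g) v₀ - v₀ := by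
            rw [e0, act_add, act_smul, hgw']
            abel
          rw [h2]
          set k := act g v₀ - v₀ with hk
          have hkK : k ∈ K := hg.mem v₀ h1
          have hgv : act g v₀ = v₀ + k := by rw [hk]; abel
          have h3 : act (r⁻¹ * g) v₀ - v₀ = k + hermForm n F q v₀ y • x := by
            rw [act_mul, hgv, hrinv, herm_add_left, herm_add_left, h1 x hx, hK k hkK x hx, hKy k hkK]
            simp only [add_zero, zero_smul, mul_zero, zero_add, sub_zero]
            abel
          rw [h3, memK']
          refine ⟨K.add_mem hkK (K.smul_mem _ hx), ?_⟩
          have h4 := herm_act g v₀ w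
          rw [hgv, hgw, herm_add_left, herm_add_right hF, herm_add_right hF, hKy k hkK] at h4
          rw [herm_add_left, herm_smul_left, hxw]
          linear_combination h4
        · intro u hu
          have huK := ((memK' u).1 hu).1
          rw [act_mul, hg.fix u huK, hrinv, hK u huK x hx, hKy u huK]
          simp
      have h5 := ih (Module.finrank F K') (hd ▸ hfin) K' hTI
        (fun z hz => h z (inf_le_left (a := K) hz)) (r⁻¹ * g) hmain rfl
      have h6 := P.mul_mem hrP h5
      rwa [mul_inv_cancel_left] at h6

end Cfsg.Agent.H597.UniInR
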